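import Cfsg.Agent.Lib.ThreeT.Real.D24.Defs

set_option autoImplicit false
set_option maxRecDepth 1000000
set_option maxHeartbeats 0
set_option Elab.async false
set_option linter.style.longLine false

namespace Cfsg.Agent.Lib.ThreeT.Real.D24

open Cfsg.Agent.Lib.ThreeT.Real

theorem hr1 : rangeB (rowOK Cfsg.Agent.Lib.TC.D.Fi24a.Tab.pt tb allI q0 pol0 1 [0]) 1812 4219 = true := by decide +kernel

end Cfsg.Agent.Lib.ThreeT.Real.D24
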