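import Cfsg.Agent.Lib.ThreeT.Real.D24.Defs

set_option autoImplicit false
set_option maxRecDepth 1000000
set_option maxHeartbeats 0
set_option Elab.async false
set_option linter.style.longLine false

namespace Cfsg.Agent.Lib.ThreeT.Real.D24

open Cfsg.Agent.Lib.ThreeT.Real

open Cfsg.Agent.Lib.TC.D.Fi24a.Tab in
theorem hS : ∀ u ∈ tb.S, (∀ z ∈ u, z < pt.k) ∧ sel pt tb (pt.val u 0) = true := by decide +kernel

open Cfsg.Agent.Lib.TC.D.Fi24a.Tab in
theorem hsurj0 : allVec 8 (fun v => !decide (q0 (v ∘ finSumFinEquiv) = 1) || surjOK pt tb allI (v ∘ finSumFinEquiv)) = true := by decide +kernel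

theorem hallI : ∀ i, i ∈ allI := by
  rintro (i | i) <;> fin_cases i <;> simp [allI]


end Cfsg.Agent.Lib.ThreeT.Real.D24
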