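import Cfsg.Agent.Lib.TC.D.Fi24a.Tab
import Cfsg.Agent.Lib.ThreeT.Real.Form

/-! # The table of the reflection group, generated -/

set_option autoImplicit false
set_option maxRecDepth 1000000
set_option maxHeartbeats 0
set_option Elab.async false
set_option linter.style.longLine false

namespace Cfsg.Agent.Lib.ThreeT.Real.D24

open Cfsg.Agent.Lib.ThreeT.Real

/-- The code of the vector at a point. -/
def vT (p : Nat) : Nat := (bif Nat.ble 6031 p then (bif Nat.ble 13636 p then (bif Nat.ble 22556 p then (bif Nat.ble 36797 p then (bif Nat.ble 46571 p then (bif Nat.ble 46588 p then (bif Nat.ble 58406 p then (bif Nat.ble 58410 p then (bif Nat.ble 72451 p then (bif Nat.ble 72452 p then (bif Nat.ble 72453 p then (bif Nat.beq p 72453 then 5185 else 0) else (bif Nat.beq p 72452 then 4914 else 0)) else (bif Nat.beq p 72451 then 6388 else 0)) else (bif Nat.ble 72450 p then (bif Nat.beq p 72450 then 5160 else 0) else (bif Nat.beq p 58410 then 4346 else 0))) else (bif Nat.ble 58408 p then (bif Nat.ble 58409 p then (bif Nat.beq p 58409 then 4988 else 0) else (bif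 Nat.beq p 58408 then 5735 else 0)) else (bif Nat.ble 58407 p then (bif Nat.beq p 58407 then 6457 else 0) else (bif Nat.beq p 58406 then 6079 else 0)))) else (bif Nat.ble 58402 p then (bif Nat.ble 58404 p then (bif Nat.ble 58405 p then (bif Nat.beq p 58405 then 5803 else 0) else (bif Nat.beq p 58404 then 3759 else 0)) else (bif Nat.ble 58403 p then (bif Nat.beq p 58403 then 566 else 0) else (bif Nat.beq p 58402 then 1748 else 0))) else (bif Nat.ble 58400 p then (bif Nat.ble 58401 p then (bif Nat.beq p 58401 then 1030 else 0) else (bif Nat.beq p 58400 then 2619 else 0)) else (bif Nat.ble 46589 p then (bif Nat.beq p 46589 then 940 else 0) else (bif Nat.beq p 46588 then 191 else 0))))) else (bif Nat.ble 46579 p then (bif Nat.ble 46583 p then (bif Nat.ble 46585 p then (bif Nat.ble 46586 p then (bif Nat.ble 46587 p then (bif Nat.beq p 46587 then 1687 else 0) else (bif Nat.beq p 46586 then 4224 else 0)) else (bif Nat.beq p 46585 then 744 else 0)) else (bif Nat.ble 46584 p then (bif Nat.beq p 46584 then 2219 else 0) else (bif Nat.beq p 46583 then 2993 else 0)))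 else (bif Nat.ble 46581 p then (bif Nat.ble 46582 p then (bif Nat.beq p 46582 then 3715 else 0) else (bif Nat.beq p 46581 then 327 else 0)) else (bif Nat.ble 46580 p then (bif Nat.beq p 46580 then 2528 else 0) else (bif Nat.beq p 46579 then 319 else 0)))) else (bif Nat.ble 46575 p then (bif Nat.ble 46577 p then (bif Nat.ble 46578 p then (bif Nat.beq p 46578 then 2803 else 0) else (bif Nat.beq p 46577 then 3004 else 0)) else (bif Nat.ble 46576 p then (bif Nat.beq p 46576 then 3744 else 0) else (bif Nat.beq p 46575 then 5536 else 0))) else (bif Nat.ble 46573 p then (bif Nat.ble 46574 p then (bif Nat.beq p 46574 then 5959 else 0) else (bif Nat.beq p 46573 then 2026 else 0)) else (bif Nat.ble 46572 p then (bif Nat.beq p 46572 then 6374 else 0) else (bif Nat.beq p 46571 then 1859 else 0)))))) else (bif Nat.ble 36814 p then (bif Nat.ble 36822 p then (bif Nat.ble 36826 p then (bif Nat.ble 46568 p then (bif Nat.ble 46569 p then (bif Nat.ble 46570 p then (bif Nat.beq p 46570 then 5699 else 0) else (bif Nat.beq p 46569 then 407 else 0)) else (bif Nat.beq p 46568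 then 1878 else 0)) else (bif Nat.ble 46567 p then (bif Nat.beq p 46567 then 493 else 0) else (bif Nat.beq p 36826 then 910 else 0))) else (bif Nat.ble 36824 p then (bif Nat.ble 36825 p then (bif Nat.beq p 36825 then 1445 else 0) else (bif Nat.beq p 36824 then 2617 else 0)) else (bif Nat.ble 36823 p then (bif Nat.beq p 36823 then 6417 else 0) else (bif Nat.beq p 36822 then 1482 else 0)))) else (bif Nat.ble 36818 p then (bif Nat.ble 36820 p then (bif Nat.ble 36821 p then (bif Nat.beq p 36821 then 6113 else 0) else (bif Nat.beq p 36820 then 4875 else 0)) else (bif Nat.ble 36819 p then (bif Nat.beq p 36819 then 2222 else 0) else (bif Nat.beq p 36818 then 555 else 0))) else (bif Nat.ble 36816 p then (bif Nat.ble 36817 p then (bif Nat.beq p 36817 then 3613 else 0) else (bif Nat.beq p 36816 then 4335 else 0)) else (bif Nat.ble 36815 p then (bif Nat.beq p 36815 then 5724 else 0) else (bif Nat.beq p 36814 then 1684 else 0))))) else (bif Nat.ble 36805 p then (bif Nat.ble 36809 p then (bif Nat.ble 36811 p then (bif Nat.ble 36812 p then (bif Nat.ble 36813 p then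 (bif Nat.beq p 36813 then 457 else 0) else (bif Nat.beq p 36812 then 1170 else 0)) else (bif Nat.beq p 36811 then 4541 else 0)) else (bif Nat.ble 36810 p then (bif Nat.beq p 36810 then 5083 else 0) else (bif Nat.beq p 36809 then 4816 else 0))) else (bif Nat.ble 36807 p then (bif Nat.ble 36808 p then (bif Nat.beq p 36808 then 982 else 0) else (bif Nat.beq p 36807 then 1704 else 0)) else (bif Nat.ble 36806 p then (bif Nat.beq p 36806 then 3413 else 0) else (bif Nat.beq p 36805 then 4527 else 0)))) else (bif Nat.ble 36801 p then (bif Nat.ble 36803 p then (bif Nat.ble 36804 p then (bif Nat.beq p 36804 then 91 else 0) else (bif Nat.beq p 36803 then 4706 else 0)) else (bif Nat.ble 36802 p then (bif Nat.beq p 36802 then 2995 else 0) else (bif Nat.beq p 36801 then 4076 else 0))) else (bif Nat.ble 36799 p then (bif Nat.ble 36800 p then (bif Nat.beq p 36800 then 2030 else 0) else (bif Nat.beq p 36799 then 3670 else 0)) else (bif Nat.ble 36798 p then (bif Nat.beq p 36798 then 2145 else 0) else (bif Nat.beq p 36797 then 1870 else 0))))))) else (bif Nat.ble 28872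 p then (bif Nat.ble 28889 p then (bif Nat.ble 28899 p then (bif Nat.ble 28904 p then (bif Nat.ble 28906 p then (bif Nat.ble 36795 p then (bif Nat.ble 36796 p then (bif Nat.beq p 36796 then 221 else 0) else (bif Nat.beq p 36795 then 825 else 0)) else (bif Nat.beq p 28906 then 3848 else 0)) else (bif Nat.ble 28905 p then (bif Nat.beq p 28905 then 511 else 0) else (bif Nat.beq p 28904 then 3915 else 0))) else (bif Nat.ble 28901 p then (bif Nat.ble 28902 p then (bif Nat.beq p 28902 then 6503 else 0) else (bif Nat.beq p 28901 then 3667 else 0)) else (bif Nat.ble 28900 p then (bif Nat.beq p 28900 then 2227 else 0) else (bif Nat.beq p 28899 then 2949 else 0)))) else (bif Nat.ble 28894 p then (bif Nat.ble 28896 p then (bif Nat.ble 28897 p then (bif Nat.beq p 28897 then 6232 else 0) else (bif Nat.beq p 28896 then 1212 else 0)) else (bif Nat.ble 28895 p then (bif Nat.beq p 28895 then 3100 else 0) else (bif Nat.beq p 28894 then 2351 else 0))) else (bif Nat.ble 28891 p then (bif Nat.ble 28893 p then (bif Nat.beq p 28893 then 3023 else 0) else (bif Nat.beq p 28891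 then 320 else 0)) else (bif Nat.ble 28890 p then (bif Nat.beq p 28890 then 6112 else 0) else (bif Nat.beq p 28889 then 443 else 0))))) else (bif Nat.ble 28880 p then (bif Nat.ble 28884 p then (bif Nat.ble 28886 p then (bif Nat.ble 28887 p then (bif Nat.ble 28888 p then (bif Nat.beq p 28888 then 4608 else 0) else (bif Nat.beq p 28887 then 844 else 0)) else (bif Nat.beq p 28886 then 1584 else 0)) else (bif Nat.ble 28885 p then (bif Nat.beq p 28885 then 1844 else 0) else (bif Nat.beq p 28884 then 4223 else 0))) else (bif Nat.ble 28882 p then (bif Nat.ble 28883 p then (bif Nat.beq p 28883 then 4960 else 0) else (bif Nat.beq p 28882 then 4925 else 0)) else (bif Nat.ble 28881 p then (bif Nat.beq p 28881 then 3227 else 0) else (bif Nat.beq p 28880 then 977 else 0)))) else (bif Nat.ble 28876 p then (bif Nat.ble 28878 p then (bif Nat.ble 28879 p then (bif Nat.beq p 28879 then 1067 else 0) else (bif Nat.beq p 28878 then 800 else 0)) else (bif Nat.ble 28877 p then (bif Nat.beq p 28877 then 5435 else 0) else (bif Nat.beq p 28876 then 717 else 0))) else (bif Nat.ble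 28874 p then (bif Nat.ble 28875 p then (bif Nat.beq p 28875 then 4639 else 0) else (bif Nat.beq p 28874 then 185 else 0)) else (bif Nat.ble 28873 p then (bif Nat.beq p 28873 then 2532 else 0) else (bif Nat.beq p 28872 then 1668 else 0)))))) else (bif Nat.ble 22575 p then (bif Nat.ble 28863 p then (bif Nat.ble 28867 p then (bif Nat.ble 28869 p then (bif Nat.ble 28870 p then (bif Nat.ble 28871 p then (bif Nat.beq p 28871 then 4173 else 0) else (bif Nat.beq p 28870 then 2892 else 0)) else (bif Nat.beq p 28869 then 6263 else 0)) else (bif Nat.ble 28868 p then (bif Nat.beq p 28868 then 3024 else 0) else (bif Nat.beq p 28867 then 1563 else 0))) else (bif Nat.ble 28865 p then (bif Nat.ble 28866 p then (bif Nat.beq p 28866 then 2016 else 0) else (bif Nat.beq p 28865 then 3753 else 0)) else (bif Nat.ble 28864 p then (bif Nat.beq p 28864 then 724 else 0) else (bif Nat.beq p 28863 then 2137 else 0)))) else (bif Nat.ble 22581 p then (bif Nat.ble 22583 p then (bif Nat.ble 28862 p then (bif Nat.beq p 28862 then 145 else 0) else (bif Nat.beq p 22583 then 2637 else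 0)) else (bif Nat.ble 22582 p then (bif Nat.beq p 22582 then 6051 else 0) else (bif Nat.beq p 22581 then 4305 else 0))) else (bif Nat.ble 22577 p then (bif Nat.ble 22580 p then (bif Nat.beq p 22580 then 3643 else 0) else (bif Nat.beq p 22577 then 2333 else 0)) else (bif Nat.ble 22576 p then (bif Nat.beq p 22576 then 3080 else 0) else (bif Nat.beq p 22575 then 6531 else 0))))) else (bif Nat.ble 22565 p then (bif Nat.ble 22571 p then (bif Nat.ble 22573 p then (bif Nat.ble 22574 p then (bif Nat.beq p 22574 then 5582 else 0) else (bif Nat.beq p 22573 then 4886 else 0)) else (bif Nat.ble 22572 p then (bif Nat.beq p 22572 then 3908 else 0) else (bif Nat.beq p 22571 then 6033 else 0))) else (bif Nat.ble 22567 p then (bif Nat.ble 22570 p then (bif Nat.beq p 22570 then 5350 else 0) else (bif Nat.beq p 22567 then 1457 else 0)) else (bif Nat.ble 22566 p then (bif Nat.beq p 22566 then 2220 else 0) else (bif Nat.beq p 22565 then 3017 else 0)))) else (bif Nat.ble 22560 p then (bif Nat.ble 22563 p then (bif Nat.ble 22564 p then (bif Nat.beq p 22564 then 5765 else 0)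 else (bif Nat.beq p 22563 then 3711 else 0)) else (bif Nat.ble 22562 p then (bif Nat.beq p 22562 then 5635 else 0) else (bif Nat.beq p 22560 then 1573 else 0))) else (bif Nat.ble 22558 p then (bif Nat.ble 22559 p then (bif Nat.beq p 22559 then 1745 else 0) else (bif Nat.beq p 22558 then 2613 else 0)) else (bif Nat.ble 22557 p then (bif Nat.beq p 22557 then 2419 else 0) else (bif Nat.beq p 22556 then 2890 else 0)))))))) else (bif Nat.ble 17554 p then (bif Nat.ble 17598 p then (bif Nat.ble 22539 p then (bif Nat.ble 22547 p then (bif Nat.ble 22551 p then (bif Nat.ble 22553 p then (bif Nat.ble 22554 p then (bif Nat.ble 22555 p then (bif Nat.beq p 22555 then 1644 else 0) else (bif Nat.beq p 22554 then 1100 else 0)) else (bif Nat.beq p 22553 then 3884 else 0)) else (bif Nat.ble 22552 p then (bif Nat.beq p 22552 then 1481 else 0) else (bif Nat.beq p 22551 then 421 else 0))) else (bif Nat.ble 22549 p then (bif Nat.ble 22550 p then (bif Nat.beq p 22550 then 386 else 0) else (bif Nat.beq p 22549 then 5728 else 0)) else (bif Nat.ble 22548 p then (bif Nat.beq p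 22548 then 3300 else 0) else (bif Nat.beq p 22547 then 6421 else 0)))) else (bif Nat.ble 22543 p then (bif Nat.ble 22545 p then (bif Nat.ble 22546 p then (bif Nat.beq p 22546 then 2310 else 0) else (bif Nat.beq p 22545 then 1332 else 0)) else (bif Nat.ble 22544 p then (bif Nat.beq p 22544 then 920 else 0) else (bif Nat.beq p 22543 then 173 else 0))) else (bif Nat.ble 22541 p then (bif Nat.ble 22542 p then (bif Nat.beq p 22542 then 5466 else 0) else (bif Nat.beq p 22541 then 975 else 0)) else (bif Nat.ble 22540 p then (bif Nat.beq p 22540 then 492 else 0) else (bif Nat.beq p 22539 then 6189 else 0))))) else (bif Nat.ble 22530 p then (bif Nat.ble 22534 p then (bif Nat.ble 22536 p then (bif Nat.ble 22537 p then (bif Nat.ble 22538 p then (bif Nat.beq p 22538 then 1665 else 0) else (bif Nat.beq p 22537 then 4689 else 0)) else (bif Nat.beq p 22536 then 3825 else 0)) else (bif Nat.ble 22535 p then (bif Nat.beq p 22535 then 520 else 0) else (bif Nat.beq p 22534 then 3529 else 0))) else (bif Nat.ble 22532 p then (bif Nat.ble 22533 p then (bif Nat.beq p 22533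 then 4333 else 0) else (bif Nat.beq p 22532 then 2627 else 0)) else (bif Nat.ble 22531 p then (bif Nat.beq p 22531 then 1398 else 0) else (bif Nat.beq p 22530 then 5965 else 0)))) else (bif Nat.ble 22526 p then (bif Nat.ble 22528 p then (bif Nat.ble 22529 p then (bif Nat.beq p 22529 then 1253 else 0) else (bif Nat.beq p 22528 then 4029 else 0)) else (bif Nat.ble 22527 p then (bif Nat.beq p 22527 then 292 else 0) else (bif Nat.beq p 22526 then 3105 else 0))) else (bif Nat.ble 17600 p then (bif Nat.ble 17602 p then (bif Nat.beq p 17602 then 2947 else 0) else (bif Nat.beq p 17600 then 3455 else 0)) else (bif Nat.ble 17599 p then (bif Nat.beq p 17599 then 3916 else 0) else (bif Nat.beq p 17598 then 3168 else 0)))))) else (bif Nat.ble 17576 p then (bif Nat.ble 17584 p then (bif Nat.ble 17589 p then (bif Nat.ble 17595 p then (bif Nat.ble 17596 p then (bif Nat.ble 17597 p then (bif Nat.beq p 17597 then 865 else 0) else (bif Nat.beq p 17596 then 5587 else 0)) else (bif Nat.beq p 17595 then 5303 else 0)) else (bif Nat.ble 17590 p then (bif Nat.beq p 17590 then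 4143 else 0) else (bif Nat.beq p 17589 then 5621 else 0))) else (bif Nat.ble 17586 p then (bif Nat.ble 17588 p then (bif Nat.beq p 17588 then 4989 else 0) else (bif Nat.beq p 17586 then 148 else 0)) else (bif Nat.ble 17585 p then (bif Nat.beq p 17585 then 5740 else 0) else (bif Nat.beq p 17584 then 5572 else 0)))) else (bif Nat.ble 17580 p then (bif Nat.ble 17582 p then (bif Nat.ble 17583 p then (bif Nat.beq p 17583 then 5456 else 0) else (bif Nat.beq p 17582 then 4820 else 0)) else (bif Nat.ble 17581 p then (bif Nat.beq p 17581 then 2681 else 0) else (bif Nat.beq p 17580 then 4020 else 0))) else (bif Nat.ble 17578 p then (bif Nat.ble 17579 p then (bif Nat.beq p 17579 then 3453 else 0) else (bif Nat.beq p 17578 then 3580 else 0)) else (bif Nat.ble 17577 p then (bif Nat.beq p 17577 then 6372 else 0) else (bif Nat.beq p 17576 then 2910 else 0))))) else (bif Nat.ble 17562 p then (bif Nat.ble 17568 p then (bif Nat.ble 17570 p then (bif Nat.ble 17571 p then (bif Nat.ble 17575 p then (bif Nat.beq p 17575 then 3539 else 0) else (bif Nat.beq p 17571 then 4821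 else 0)) else (bif Nat.beq p 17570 then 5151 else 0)) else (bif Nat.ble 17569 p then (bif Nat.beq p 17569 then 6453 else 0) else (bif Nat.beq p 17568 then 1096 else 0))) else (bif Nat.ble 17566 p then (bif Nat.ble 17567 p then (bif Nat.beq p 17567 then 5736 else 0) else (bif Nat.beq p 17566 then 6497 else 0)) else (bif Nat.ble 17563 p then (bif Nat.beq p 17563 then 6527 else 0) else (bif Nat.beq p 17562 then 573 else 0)))) else (bif Nat.ble 17558 p then (bif Nat.ble 17560 p then (bif Nat.ble 17561 p then (bif Nat.beq p 17561 then 4508 else 0) else (bif Nat.beq p 17560 then 397 else 0)) else (bif Nat.ble 17559 p then (bif Nat.beq p 17559 then 2223 else 0) else (bif Nat.beq p 17558 then 6411 else 0))) else (bif Nat.ble 17556 p then (bif Nat.ble 17557 p then (bif Nat.beq p 17557 then 3663 else 0) else (bif Nat.beq p 17556 then 565 else 0)) else (bif Nat.ble 17555 p then (bif Nat.beq p 17555 then 2841 else 0) else (bif Nat.beq p 17554 then 1050 else 0))))))) else (bif Nat.ble 13679 p then (bif Nat.ble 17537 p then (bif Nat.ble 17545 p then (bif Nat.ble 17549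 p then (bif Nat.ble 17551 p then (bif Nat.ble 17552 p then (bif Nat.ble 17553 p then (bif Nat.beq p 17553 then 1716 else 0) else (bif Nat.beq p 17552 then 2992 else 0)) else (bif Nat.beq p 17551 then 334 else 0)) else (bif Nat.ble 17550 p then (bif Nat.beq p 17550 then 1207 else 0) else (bif Nat.beq p 17549 then 1278 else 0))) else (bif Nat.ble 17547 p then (bif Nat.ble 17548 p then (bif Nat.beq p 17548 then 1873 else 0) else (bif Nat.beq p 17547 then 5052 else 0)) else (bif Nat.ble 17546 p then (bif Nat.beq p 17546 then 2948 else 0) else (bif Nat.beq p 17545 then 4660 else 0)))) else (bif Nat.ble 17541 p then (bif Nat.ble 17543 p then (bif Nat.ble 17544 p then (bif Nat.beq p 17544 then 3881 else 0) else (bif Nat.beq p 17543 then 1367 else 0)) else (bif Nat.ble 17542 p then (bif Nat.beq p 17542 then 5636 else 0) else (bif Nat.beq p 17541 then 301 else 0))) else (bif Nat.ble 17539 p then (bif Nat.ble 17540 p then (bif Nat.beq p 17540 then 2794 else 0) else (bif Nat.beq p 17539 then 2112 else 0)) else (bif Nat.ble 17538 p then (bif Nat.beq p 17538 then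 6070 else 0) else (bif Nat.beq p 17537 then 1785 else 0))))) else (bif Nat.ble 17528 p then (bif Nat.ble 17532 p then (bif Nat.ble 17534 p then (bif Nat.ble 17535 p then (bif Nat.ble 17536 p then (bif Nat.beq p 17536 then 2342 else 0) else (bif Nat.beq p 17535 then 5551 else 0)) else (bif Nat.beq p 17534 then 3391 else 0)) else (bif Nat.ble 17533 p then (bif Nat.beq p 17533 then 2229 else 0) else (bif Nat.beq p 17532 then 5164 else 0))) else (bif Nat.ble 17530 p then (bif Nat.ble 17531 p then (bif Nat.beq p 17531 then 3293 else 0) else (bif Nat.beq p 17530 then 4209 else 0)) else (bif Nat.ble 17529 p then (bif Nat.beq p 17529 then 5199 else 0) else (bif Nat.beq p 17528 then 4502 else 0)))) else (bif Nat.ble 13683 p then (bif Nat.ble 17526 p then (bif Nat.ble 17527 p then (bif Nat.beq p 17527 then 3540 else 0) else (bif Nat.beq p 17526 then 4923 else 0)) else (bif Nat.ble 17525 p then (bif Nat.beq p 17525 then 416 else 0) else (bif Nat.beq p 13683 then 3559 else 0))) else (bif Nat.ble 13681 p then (bif Nat.ble 13682 p then (bif Nat.beq p 13682 then 2459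 else 0) else (bif Nat.beq p 13681 then 5090 else 0)) else (bif Nat.ble 13680 p then (bif Nat.beq p 13680 then 5517 else 0) else (bif Nat.beq p 13679 then 4195 else 0)))))) else (bif Nat.ble 13655 p then (bif Nat.ble 13669 p then (bif Nat.ble 13674 p then (bif Nat.ble 13676 p then (bif Nat.ble 13677 p then (bif Nat.ble 13678 p then (bif Nat.beq p 13678 then 1577 else 0) else (bif Nat.beq p 13677 then 3891 else 0)) else (bif Nat.beq p 13676 then 4121 else 0)) else (bif Nat.ble 13675 p then (bif Nat.beq p 13675 then 2237 else 0) else (bif Nat.beq p 13674 then 4129 else 0))) else (bif Nat.ble 13672 p then (bif Nat.ble 13673 p then (bif Nat.beq p 13673 then 2226 else 0) else (bif Nat.beq p 13672 then 6222 else 0)) else (bif Nat.ble 13670 p then (bif Nat.beq p 13670 then 5805 else 0) else (bif Nat.beq p 13669 then 2944 else 0)))) else (bif Nat.ble 13662 p then (bif Nat.ble 13664 p then (bif Nat.ble 13665 p then (bif Nat.beq p 13665 then 5092 else 0) else (bif Nat.beq p 13664 then 796 else 0)) else (bif Nat.ble 13663 p then (bif Nat.beq p 13663 then 5306 else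 0) else (bif Nat.beq p 13662 then 1250 else 0))) else (bif Nat.ble 13660 p then (bif Nat.ble 13661 p then (bif Nat.beq p 13661 then 3671 else 0) else (bif Nat.beq p 13660 then 2231 else 0)) else (bif Nat.ble 13659 p then (bif Nat.beq p 13659 then 1363 else 0) else (bif Nat.beq p 13655 then 2799 else 0))))) else (bif Nat.ble 13645 p then (bif Nat.ble 13651 p then (bif Nat.ble 13653 p then (bif Nat.ble 13654 p then (bif Nat.beq p 13654 then 6498 else 0) else (bif Nat.beq p 13653 then 3443 else 0)) else (bif Nat.ble 13652 p then (bif Nat.beq p 13652 then 1195 else 0) else (bif Nat.beq p 13651 then 2989 else 0))) else (bif Nat.ble 13649 p then (bif Nat.ble 13650 p then (bif Nat.beq p 13650 then 3766 else 0) else (bif Nat.beq p 13649 then 3220 else 0)) else (bif Nat.ble 13648 p then (bif Nat.beq p 13648 then 981 else 0) else (bif Nat.beq p 13645 then 3710 else 0)))) else (bif Nat.ble 13641 p then (bif Nat.ble 13643 p then (bif Nat.ble 13644 p then (bif Nat.beq p 13644 then 4638 else 0) else (bif Nat.beq p 13643 then 2807 else 0)) else (bif Nat.ble 13642 p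 then (bif Nat.beq p 13642 then 3570 else 0) else (bif Nat.beq p 13641 then 2215 else 0))) else (bif Nat.ble 13638 p then (bif Nat.ble 13640 p then (bif Nat.beq p 13640 then 151 else 0) else (bif Nat.beq p 13638 then 3873 else 0)) else (bif Nat.ble 13637 p then (bif Nat.beq p 13637 then 4807 else 0) else (bif Nat.beq p 13636 then 4680 else 0))))))))) else (bif Nat.ble 10463 p then (bif Nat.ble 10545 p then (bif Nat.ble 13598 p then (bif Nat.ble 13615 p then (bif Nat.ble 13624 p then (bif Nat.ble 13628 p then (bif Nat.ble 13633 p then (bif Nat.ble 13634 p then (bif Nat.ble 13635 p then (bif Nat.beq p 13635 then 797 else 0) else (bif Nat.beq p 13634 then 2301 else 0)) else (bif Nat.beq p 13633 then 4724 else 0)) else (bif Nat.ble 13629 p then (bif Nat.beq p 13629 then 3733 else 0) else (bif Nat.beq p 13628 then 2994 else 0))) else (bif Nat.ble 13626 p then (bif Nat.ble 13627 p then (bif Nat.beq p 13627 then 3380 else 0) else (bif Nat.beq p 13626 then 1706 else 0)) else (bif Nat.ble 13625 p then (bif Nat.beq p 13625 then 3115 else 0) else (bif Nat.beq p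 13624 then 5188 else 0)))) else (bif Nat.ble 13619 p then (bif Nat.ble 13621 p then (bif Nat.ble 13622 p then (bif Nat.beq p 13622 then 453 else 0) else (bif Nat.beq p 13621 then 3669 else 0)) else (bif Nat.ble 13620 p then (bif Nat.beq p 13620 then 1866 else 0) else (bif Nat.beq p 13619 then 2578 else 0))) else (bif Nat.ble 13617 p then (bif Nat.ble 13618 p then (bif Nat.beq p 13618 then 5583 else 0) else (bif Nat.beq p 13617 then 4804 else 0)) else (bif Nat.ble 13616 p then (bif Nat.beq p 13616 then 1861 else 0) else (bif Nat.beq p 13615 then 3169 else 0))))) else (bif Nat.ble 13606 p then (bif Nat.ble 13610 p then (bif Nat.ble 13612 p then (bif Nat.ble 13613 p then (bif Nat.ble 13614 p then (bif Nat.beq p 13614 then 2345 else 0) else (bif Nat.beq p 13613 then 1089 else 0)) else (bif Nat.beq p 13612 then 3845 else 0)) else (bif Nat.ble 13611 p then (bif Nat.beq p 13611 then 833 else 0) else (bif Nat.beq p 13610 then 4493 else 0))) else (bif Nat.ble 13608 p then (bif Nat.ble 13609 p then (bif Nat.beq p 13609 then 2101 else 0) else (bif Nat.beq p 13608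 then 112 else 0)) else (bif Nat.ble 13607 p then (bif Nat.beq p 13607 then 6389 else 0) else (bif Nat.beq p 13606 then 4001 else 0)))) else (bif Nat.ble 13602 p then (bif Nat.ble 13604 p then (bif Nat.ble 13605 p then (bif Nat.beq p 13605 then 4650 else 0) else (bif Nat.beq p 13604 then 3067 else 0)) else (bif Nat.ble 13603 p then (bif Nat.beq p 13603 then 4970 else 0) else (bif Nat.beq p 13602 then 5157 else 0))) else (bif Nat.ble 13600 p then (bif Nat.ble 13601 p then (bif Nat.beq p 13601 then 2951 else 0) else (bif Nat.beq p 13600 then 2876 else 0)) else (bif Nat.ble 13599 p then (bif Nat.beq p 13599 then 3680 else 0) else (bif Nat.beq p 13598 then 4971 else 0)))))) else (bif Nat.ble 10567 p then (bif Nat.ble 13589 p then (bif Nat.ble 13593 p then (bif Nat.ble 13595 p then (bif Nat.ble 13596 p then (bif Nat.ble 13597 p then (bif Nat.beq p 13597 then 4812 else 0) else (bif Nat.beq p 13596 then 3272 else 0)) else (bif Nat.beq p 13595 then 3834 else 0)) else (bif Nat.ble 13594 p then (bif Nat.beq p 13594 then 2680 else 0) else (bif Nat.beq p 13593 then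 3666 else 0))) else (bif Nat.ble 13591 p then (bif Nat.ble 13592 p then (bif Nat.beq p 13592 then 2608 else 0) else (bif Nat.beq p 13591 then 798 else 0)) else (bif Nat.ble 13590 p then (bif Nat.beq p 13590 then 830 else 0) else (bif Nat.beq p 13589 then 448 else 0)))) else (bif Nat.ble 10572 p then (bif Nat.ble 10576 p then (bif Nat.ble 13588 p then (bif Nat.beq p 13588 then 4877 else 0) else (bif Nat.beq p 10576 then 5891 else 0)) else (bif Nat.ble 10575 p then (bif Nat.beq p 10575 then 1061 else 0) else (bif Nat.beq p 10572 then 2665 else 0))) else (bif Nat.ble 10570 p then (bif Nat.ble 10571 p then (bif Nat.beq p 10571 then 819 else 0) else (bif Nat.beq p 10570 then 2080 else 0)) else (bif Nat.ble 10568 p then (bif Nat.beq p 10568 then 5931 else 0) else (bif Nat.beq p 10567 then 2118 else 0))))) else (bif Nat.ble 10557 p then (bif Nat.ble 10561 p then (bif Nat.ble 10563 p then (bif Nat.ble 10565 p then (bif Nat.ble 10566 p then (bif Nat.beq p 10566 then 4866 else 0) else (bif Nat.beq p 10565 then 1036 else 0)) else (bif Nat.beq p 10563 then 2348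 else 0)) else (bif Nat.ble 10562 p then (bif Nat.beq p 10562 then 6252 else 0) else (bif Nat.beq p 10561 then 6217 else 0))) else (bif Nat.ble 10559 p then (bif Nat.ble 10560 p then (bif Nat.beq p 10560 then 6125 else 0) else (bif Nat.beq p 10559 then 5255 else 0)) else (bif Nat.ble 10558 p then (bif Nat.beq p 10558 then 2933 else 0) else (bif Nat.beq p 10557 then 967 else 0)))) else (bif Nat.ble 10553 p then (bif Nat.ble 10555 p then (bif Nat.ble 10556 p then (bif Nat.beq p 10556 then 4559 else 0) else (bif Nat.beq p 10555 then 4885 else 0)) else (bif Nat.ble 10554 p then (bif Nat.beq p 10554 then 4825 else 0) else (bif Nat.beq p 10553 then 5101 else 0))) else (bif Nat.ble 10551 p then (bif Nat.ble 10552 p then (bif Nat.beq p 10552 then 6474 else 0) else (bif Nat.beq p 10551 then 6369 else 0)) else (bif Nat.ble 10550 p then (bif Nat.beq p 10550 then 1336 else 0) else (bif Nat.beq p 10545 then 3111 else 0))))))) else (bif Nat.ble 10497 p then (bif Nat.ble 10520 p then (bif Nat.ble 10533 p then (bif Nat.ble 10537 p then (bif Nat.ble 10542 p then (bif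 Nat.ble 10543 p then (bif Nat.ble 10544 p then (bif Nat.beq p 10544 then 1174 else 0) else (bif Nat.beq p 10543 then 6425 else 0)) else (bif Nat.beq p 10542 then 5732 else 0)) else (bif Nat.ble 10538 p then (bif Nat.beq p 10538 then 1865 else 0) else (bif Nat.beq p 10537 then 2228 else 0))) else (bif Nat.ble 10535 p then (bif Nat.ble 10536 p then (bif Nat.beq p 10536 then 452 else 0) else (bif Nat.beq p 10535 then 3376 else 0)) else (bif Nat.ble 10534 p then (bif Nat.beq p 10534 then 2612 else 0) else (bif Nat.beq p 10533 then 336 else 0)))) else (bif Nat.ble 10524 p then (bif Nat.ble 10527 p then (bif Nat.ble 10528 p then (bif Nat.beq p 10528 then 6461 else 0) else (bif Nat.beq p 10527 then 1452 else 0)) else (bif Nat.ble 10525 p then (bif Nat.beq p 10525 then 4512 else 0) else (bif Nat.beq p 10524 then 5952 else 0))) else (bif Nat.ble 10522 p then (bif Nat.ble 10523 p then (bif Nat.beq p 10523 then 6387 else 0) else (bif Nat.beq p 10522 then 5316 else 0)) else (bif Nat.ble 10521 p then (bif Nat.beq p 10521 then 6508 else 0) else (bif Nat.beq p 10520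 then 1832 else 0))))) else (bif Nat.ble 10508 p then (bif Nat.ble 10512 p then (bif Nat.ble 10517 p then (bif Nat.ble 10518 p then (bif Nat.ble 10519 p then (bif Nat.beq p 10519 then 5260 else 0) else (bif Nat.beq p 10518 then 5772 else 0)) else (bif Nat.beq p 10517 then 6230 else 0)) else (bif Nat.ble 10516 p then (bif Nat.beq p 10516 then 1328 else 0) else (bif Nat.beq p 10512 then 4717 else 0))) else (bif Nat.ble 10510 p then (bif Nat.ble 10511 p then (bif Nat.beq p 10511 then 4993 else 0) else (bif Nat.beq p 10510 then 5191 else 0)) else (bif Nat.ble 10509 p then (bif Nat.beq p 10509 then 4690 else 0) else (bif Nat.beq p 10508 then 652 else 0)))) else (bif Nat.ble 10503 p then (bif Nat.ble 10505 p then (bif Nat.ble 10507 p then (bif Nat.beq p 10507 then 1248 else 0) else (bif Nat.beq p 10505 then 2689 else 0)) else (bif Nat.ble 10504 p then (bif Nat.beq p 10504 then 5070 else 0) else (bif Nat.beq p 10503 then 3387 else 0))) else (bif Nat.ble 10501 p then (bif Nat.ble 10502 p then (bif Nat.beq p 10502 then 176 else 0) else (bif Nat.beq p 10501 then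 2458 else 0)) else (bif Nat.ble 10500 p then (bif Nat.beq p 10500 then 3185 else 0) else (bif Nat.beq p 10497 then 3568 else 0)))))) else (bif Nat.ble 10479 p then (bif Nat.ble 10487 p then (bif Nat.ble 10491 p then (bif Nat.ble 10494 p then (bif Nat.ble 10495 p then (bif Nat.ble 10496 p then (bif Nat.beq p 10496 then 2177 else 0) else (bif Nat.beq p 10495 then 1396 else 0)) else (bif Nat.beq p 10494 then 4181 else 0)) else (bif Nat.ble 10492 p then (bif Nat.beq p 10492 then 6109 else 0) else (bif Nat.beq p 10491 then 792 else 0))) else (bif Nat.ble 10489 p then (bif Nat.ble 10490 p then (bif Nat.beq p 10490 then 2755 else 0) else (bif Nat.beq p 10489 then 6373 else 0)) else (bif Nat.ble 10488 p then (bif Nat.beq p 10488 then 836 else 0) else (bif Nat.beq p 10487 then 109 else 0)))) else (bif Nat.ble 10483 p then (bif Nat.ble 10485 p then (bif Nat.ble 10486 p then (bif Nat.beq p 10486 then 5464 else 0) else (bif Nat.beq p 10485 then 3992 else 0)) else (bif Nat.ble 10484 p then (bif Nat.beq p 10484 then 3274 else 0) else (bif Nat.beq p 10483 then 3454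 else 0))) else (bif Nat.ble 10481 p then (bif Nat.ble 10482 p then (bif Nat.beq p 10482 then 4210 else 0) else (bif Nat.beq p 10481 then 6041 else 0)) else (bif Nat.ble 10480 p then (bif Nat.beq p 10480 then 4770 else 0) else (bif Nat.beq p 10479 then 4530 else 0))))) else (bif Nat.ble 10471 p then (bif Nat.ble 10475 p then (bif Nat.ble 10477 p then (bif Nat.ble 10478 p then (bif Nat.beq p 10478 then 5598 else 0) else (bif Nat.beq p 10477 then 5547 else 0)) else (bif Nat.ble 10476 p then (bif Nat.beq p 10476 then 2641 else 0) else (bif Nat.beq p 10475 then 2885 else 0))) else (bif Nat.ble 10473 p then (bif Nat.ble 10474 p then (bif Nat.beq p 10474 then 2790 else 0) else (bif Nat.beq p 10473 then 4310 else 0)) else (bif Nat.ble 10472 p then (bif Nat.beq p 10472 then 4682 else 0) else (bif Nat.beq p 10471 then 2293 else 0)))) else (bif Nat.ble 10467 p then (bif Nat.ble 10469 p then (bif Nat.ble 10470 p then (bif Nat.beq p 10470 then 6199 else 0) else (bif Nat.beq p 10469 then 5700 else 0)) else (bif Nat.ble 10468 p then (bif Nat.beq p 10468 then 2218 else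 0) else (bif Nat.beq p 10467 then 5351 else 0))) else (bif Nat.ble 10465 p then (bif Nat.ble 10466 p then (bif Nat.beq p 10466 then 1031 else 0) else (bif Nat.beq p 10465 then 1251 else 0)) else (bif Nat.ble 10464 p then (bif Nat.beq p 10464 then 2369 else 0) else (bif Nat.beq p 10463 then 3386 else 0)))))))) else (bif Nat.ble 7992 p then (bif Nat.ble 8037 p then (bif Nat.ble 8060 p then (bif Nat.ble 8072 p then (bif Nat.ble 8076 p then (bif Nat.ble 8081 p then (bif Nat.ble 8082 p then (bif Nat.ble 8083 p then (bif Nat.beq p 8083 then 2785 else 0) else (bif Nat.beq p 8082 then 5600 else 0)) else (bif Nat.beq p 8081 then 1747 else 0)) else (bif Nat.ble 8080 p then (bif Nat.beq p 8080 then 167 else 0) else (bif Nat.beq p 8076 then 1839 else 0))) else (bif Nat.ble 8074 p then (bif Nat.ble 8075 p then (bif Nat.beq p 8075 then 310 else 0) else (bif Nat.beq p 8074 then 345 else 0)) else (bif Nat.ble 8073 p then (bif Nat.beq p 8073 then 5937 else 0) else (bif Nat.beq p 8072 then 4599 else 0)))) else (bif Nat.ble 8065 p then (bif Nat.ble 8067 p then (bif Nat.ble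 8071 p then (bif Nat.beq p 8071 then 434 else 0) else (bif Nat.beq p 8067 then 2915 else 0)) else (bif Nat.ble 8066 p then (bif Nat.beq p 8066 then 930 else 0) else (bif Nat.beq p 8065 then 2519 else 0))) else (bif Nat.ble 8063 p then (bif Nat.ble 8064 p then (bif Nat.beq p 8064 then 5827 else 0) else (bif Nat.beq p 8063 then 817 else 0)) else (bif Nat.ble 8062 p then (bif Nat.beq p 8062 then 708 else 0) else (bif Nat.beq p 8060 then 4217 else 0))))) else (bif Nat.ble 8051 p then (bif Nat.ble 8055 p then (bif Nat.ble 8057 p then (bif Nat.ble 8058 p then (bif Nat.ble 8059 p then (bif Nat.beq p 8059 then 3233 else 0) else (bif Nat.beq p 8058 then 5675 else 0)) else (bif Nat.beq p 8057 then 5488 else 0)) else (bif Nat.ble 8056 p then (bif Nat.beq p 8056 then 1225 else 0) else (bif Nat.beq p 8055 then 1003 else 0))) else (bif Nat.ble 8053 p then (bif Nat.ble 8054 p then (bif Nat.beq p 8054 then 5284 else 0) else (bif Nat.beq p 8053 then 4630 else 0)) else (bif Nat.ble 8052 p then (bif Nat.beq p 8052 then 4159 else 0) else (bif Nat.beq p 8051 then 3853 else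 0)))) else (bif Nat.ble 8043 p then (bif Nat.ble 8049 p then (bif Nat.ble 8050 p then (bif Nat.beq p 8050 then 2537 else 0) else (bif Nat.beq p 8049 then 5155 else 0)) else (bif Nat.ble 8048 p then (bif Nat.beq p 8048 then 726 else 0) else (bif Nat.beq p 8043 then 4025 else 0))) else (bif Nat.ble 8039 p then (bif Nat.ble 8040 p then (bif Nat.beq p 8040 then 1877 else 0) else (bif Nat.beq p 8039 then 1952 else 0)) else (bif Nat.ble 8038 p then (bif Nat.beq p 8038 then 1211 else 0) else (bif Nat.beq p 8037 then 4228 else 0)))))) else (bif Nat.ble 8013 p then (bif Nat.ble 8022 p then (bif Nat.ble 8028 p then (bif Nat.ble 8030 p then (bif Nat.ble 8031 p then (bif Nat.ble 8036 p then (bif Nat.beq p 8036 then 3108 else 0) else (bif Nat.beq p 8031 then 4691 else 0)) else (bif Nat.beq p 8030 then 572 else 0)) else (bif Nat.ble 8029 p then (bif Nat.beq p 8029 then 3534 else 0) else (bif Nat.beq p 8028 then 4884 else 0))) else (bif Nat.ble 8026 p then (bif Nat.ble 8027 p then (bif Nat.beq p 8027 then 282 else 0) else (bif Nat.beq p 8026 then 1553 else 0)) else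 (bif Nat.ble 8023 p then (bif Nat.beq p 8023 then 3939 else 0) else (bif Nat.beq p 8022 then 2499 else 0)))) else (bif Nat.ble 8017 p then (bif Nat.ble 8020 p then (bif Nat.ble 8021 p then (bif Nat.beq p 8021 then 5244 else 0) else (bif Nat.beq p 8020 then 2748 else 0)) else (bif Nat.ble 8019 p then (bif Nat.beq p 8019 then 494 else 0) else (bif Nat.beq p 8017 then 5417 else 0))) else (bif Nat.ble 8015 p then (bif Nat.ble 8016 p then (bif Nat.beq p 8016 then 6534 else 0) else (bif Nat.beq p 8015 then 4060 else 0)) else (bif Nat.ble 8014 p then (bif Nat.beq p 8014 then 1370 else 0) else (bif Nat.beq p 8013 then 3260 else 0))))) else (bif Nat.ble 8002 p then (bif Nat.ble 8008 p then (bif Nat.ble 8010 p then (bif Nat.ble 8011 p then (bif Nat.ble 8012 p then (bif Nat.beq p 8012 then 4190 else 0) else (bif Nat.beq p 8011 then 1252 else 0)) else (bif Nat.beq p 8010 then 6463 else 0)) else (bif Nat.ble 8009 p then (bif Nat.beq p 8009 then 1480 else 0) else (bif Nat.beq p 8008 then 1371 else 0))) else (bif Nat.ble 8004 p then (bif Nat.ble 8005 p then (bif Nat.beq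 p 8005 then 5611 else 0) else (bif Nat.beq p 8004 then 2372 else 0)) else (bif Nat.ble 8003 p then (bif Nat.beq p 8003 then 3288 else 0) else (bif Nat.beq p 8002 then 900 else 0)))) else (bif Nat.ble 7997 p then (bif Nat.ble 7999 p then (bif Nat.ble 8000 p then (bif Nat.beq p 8000 then 5777 else 0) else (bif Nat.beq p 7999 then 688 else 0)) else (bif Nat.ble 7998 p then (bif Nat.beq p 7998 then 1379 else 0) else (bif Nat.beq p 7997 then 6073 else 0))) else (bif Nat.ble 7994 p then (bif Nat.ble 7995 p then (bif Nat.beq p 7995 then 5460 else 0) else (bif Nat.beq p 7994 then 1655 else 0)) else (bif Nat.ble 7993 p then (bif Nat.beq p 7993 then 6269 else 0) else (bif Nat.beq p 7992 then 2567 else 0))))))) else (bif Nat.ble 6077 p then (bif Nat.ble 7975 p then (bif Nat.ble 7983 p then (bif Nat.ble 7987 p then (bif Nat.ble 7989 p then (bif Nat.ble 7990 p then (bif Nat.ble 7991 p then (bif Nat.beq p 7991 then 6181 else 0) else (bif Nat.beq p 7990 then 4766 else 0)) else (bif Nat.beq p 7989 then 512 else 0)) else (bif Nat.ble 7988 p then (bif Nat.beq p 7988 then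 795 else 0) else (bif Nat.beq p 7987 then 6095 else 0))) else (bif Nat.ble 7985 p then (bif Nat.ble 7986 p then (bif Nat.beq p 7986 then 4533 else 0) else (bif Nat.beq p 7985 then 6255 else 0)) else (bif Nat.ble 7984 p then (bif Nat.beq p 7984 then 2490 else 0) else (bif Nat.beq p 7983 then 3001 else 0)))) else (bif Nat.ble 7979 p then (bif Nat.ble 7981 p then (bif Nat.ble 7982 p then (bif Nat.beq p 7982 then 4544 else 0) else (bif Nat.beq p 7981 then 3566 else 0)) else (bif Nat.ble 7980 p then (bif Nat.beq p 7980 then 5619 else 0) else (bif Nat.beq p 7979 then 3763 else 0))) else (bif Nat.ble 7977 p then (bif Nat.ble 7978 p then (bif Nat.beq p 7978 then 6080 else 0) else (bif Nat.beq p 7977 then 5541 else 0)) else (bif Nat.ble 7976 p then (bif Nat.beq p 7976 then 3170 else 0) else (bif Nat.beq p 7975 then 1069 else 0))))) else (bif Nat.ble 6090 p then (bif Nat.ble 7970 p then (bif Nat.ble 7972 p then (bif Nat.ble 7973 p then (bif Nat.ble 7974 p then (bif Nat.beq p 7974 then 5313 else 0) else (bif Nat.beq p 7973 then 5822 else 0)) else (bif Nat.beq p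 7972 then 1359 else 0)) else (bif Nat.ble 7971 p then (bif Nat.beq p 7971 then 139 else 0) else (bif Nat.beq p 7970 then 5165 else 0))) else (bif Nat.ble 7968 p then (bif Nat.ble 7969 p then (bif Nat.beq p 7969 then 3533 else 0) else (bif Nat.beq p 7968 then 4811 else 0)) else (bif Nat.ble 6093 p then (bif Nat.beq p 6093 then 2139 else 0) else (bif Nat.beq p 6090 then 3769 else 0)))) else (bif Nat.ble 6086 p then (bif Nat.ble 6088 p then (bif Nat.ble 6089 p then (bif Nat.beq p 6089 then 82 else 0) else (bif Nat.beq p 6088 then 4715 else 0)) else (bif Nat.ble 6087 p then (bif Nat.beq p 6087 then 395 else 0) else (bif Nat.beq p 6086 then 4671 else 0))) else (bif Nat.ble 6080 p then (bif Nat.ble 6081 p then (bif Nat.beq p 6081 then 2047 else 0) else (bif Nat.beq p 6080 then 3429 else 0)) else (bif Nat.ble 6078 p then (bif Nat.beq p 6078 then 6315 else 0) else (bif Nat.beq p 6077 then 893 else 0)))))) else (bif Nat.ble 6057 p then (bif Nat.ble 6066 p then (bif Nat.ble 6072 p then (bif Nat.ble 6074 p then (bif Nat.ble 6075 p then (bif Nat.ble 6076 p then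 (bif Nat.beq p 6076 then 5855 else 0) else (bif Nat.beq p 6075 then 772 else 0)) else (bif Nat.beq p 6074 then 5152 else 0)) else (bif Nat.ble 6073 p then (bif Nat.beq p 6073 then 546 else 0) else (bif Nat.beq p 6072 then 1660 else 0))) else (bif Nat.ble 6070 p then (bif Nat.ble 6071 p then (bif Nat.beq p 6071 then 2240 else 0) else (bif Nat.beq p 6070 then 581 else 0)) else (bif Nat.ble 6069 p then (bif Nat.beq p 6069 then 768 else 0) else (bif Nat.beq p 6066 then 5632 else 0)))) else (bif Nat.ble 6061 p then (bif Nat.ble 6064 p then (bif Nat.ble 6065 p then (bif Nat.beq p 6065 then 5356 else 0) else (bif Nat.beq p 6064 then 4518 else 0)) else (bif Nat.ble 6063 p then (bif Nat.beq p 6063 then 264 else 0) else (bif Nat.beq p 6061 then 6400 else 0))) else (bif Nat.ble 6059 p then (bif Nat.ble 6060 p then (bif Nat.beq p 6060 then 5287 else 0) else (bif Nat.beq p 6059 then 3043 else 0)) else (bif Nat.ble 6058 p then (bif Nat.beq p 6058 then 1393 else 0) else (bif Nat.beq p 6057 then 1932 else 0))))) else (bif Nat.ble 6044 p then (bif Nat.ble 6050 p then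 (bif Nat.ble 6055 p then (bif Nat.ble 6056 p then (bif Nat.beq p 6056 then 3820 else 0) else (bif Nat.beq p 6055 then 6555 else 0)) else (bif Nat.ble 6051 p then (bif Nat.beq p 6051 then 5372 else 0) else (bif Nat.beq p 6050 then 4509 else 0))) else (bif Nat.ble 6048 p then (bif Nat.ble 6049 p then (bif Nat.beq p 6049 then 510 else 0) else (bif Nat.beq p 6048 then 943 else 0)) else (bif Nat.ble 6045 p then (bif Nat.beq p 6045 then 2012 else 0) else (bif Nat.beq p 6044 then 2732 else 0)))) else (bif Nat.ble 6037 p then (bif Nat.ble 6039 p then (bif Nat.ble 6040 p then (bif Nat.beq p 6040 then 3840 else 0) else (bif Nat.beq p 6039 then 1477 else 0)) else (bif Nat.ble 6038 p then (bif Nat.beq p 6038 then 1556 else 0) else (bif Nat.beq p 6037 then 5634 else 0))) else (bif Nat.ble 6035 p then (bif Nat.ble 6036 p then (bif Nat.beq p 6036 then 6111 else 0) else (bif Nat.beq p 6035 then 5423 else 0)) else (bif Nat.ble 6032 p then (bif Nat.beq p 6032 then 3118 else 0) else (bif Nat.beq p 6031 then 2295 else 0)))))))))) else (bif Nat.ble 1812 p then (bif Nat.ble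 3341 p then (bif Nat.ble 4504 p then (bif Nat.ble 5992 p then (bif Nat.ble 6009 p then (bif Nat.ble 6019 p then (bif Nat.ble 6025 p then (bif Nat.ble 6027 p then (bif Nat.ble 6029 p then (bif Nat.ble 6030 p then (bif Nat.beq p 6030 then 5428 else 0) else (bif Nat.beq p 6029 then 2135 else 0)) else (bif Nat.beq p 6027 then 5003 else 0)) else (bif Nat.ble 6026 p then (bif Nat.beq p 6026 then 4761 else 0) else (bif Nat.beq p 6025 then 4547 else 0))) else (bif Nat.ble 6023 p then (bif Nat.ble 6024 p then (bif Nat.beq p 6024 then 227 else 0) else (bif Nat.beq p 6023 then 1062 else 0)) else (bif Nat.ble 6020 p then (bif Nat.beq p 6020 then 3286 else 0) else (bif Nat.beq p 6019 then 5162 else 0)))) else (bif Nat.ble 6014 p then (bif Nat.ble 6017 p then (bif Nat.ble 6018 p then (bif Nat.beq p 6018 then 6240 else 0) else (bif Nat.beq p 6017 then 1920 else 0)) else (bif Nat.ble 6015 p then (bif Nat.beq p 6015 then 2375 else 0) else (bif Nat.beq p 6014 then 3488 else 0))) else (bif Nat.ble 6012 p then (bif Nat.ble 6013 p then (bif Nat.beq p 6013 then 5163 else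 0) else (bif Nat.beq p 6012 then 2043 else 0)) else (bif Nat.ble 6010 p then (bif Nat.beq p 6010 then 1185 else 0) else (bif Nat.beq p 6009 then 3408 else 0))))) else (bif Nat.ble 6000 p then (bif Nat.ble 6004 p then (bif Nat.ble 6006 p then (bif Nat.ble 6007 p then (bif Nat.ble 6008 p then (bif Nat.beq p 6008 then 923 else 0) else (bif Nat.beq p 6007 then 2991 else 0)) else (bif Nat.beq p 6006 then 2011 else 0)) else (bif Nat.ble 6005 p then (bif Nat.beq p 6005 then 4496 else 0) else (bif Nat.beq p 6004 then 2500 else 0))) else (bif Nat.ble 6002 p then (bif Nat.ble 6003 p then (bif Nat.beq p 6003 then 1505 else 0) else (bif Nat.beq p 6002 then 681 else 0)) else (bif Nat.ble 6001 p then (bif Nat.beq p 6001 then 4538 else 0) else (bif Nat.beq p 6000 then 1190 else 0)))) else (bif Nat.ble 5996 p then (bif Nat.ble 5998 p then (bif Nat.ble 5999 p then (bif Nat.beq p 5999 then 595 else 0) else (bif Nat.beq p 5998 then 4355 else 0)) else (bif Nat.ble 5997 p then (bif Nat.beq p 5997 then 2998 else 0) else (bif Nat.beq p 5996 then 4072 else 0))) else (bif Nat.ble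 5994 p then (bif Nat.ble 5995 p then (bif Nat.beq p 5995 then 5770 else 0) else (bif Nat.beq p 5994 then 2990 else 0)) else (bif Nat.ble 5993 p then (bif Nat.beq p 5993 then 3747 else 0) else (bif Nat.beq p 5992 then 2908 else 0)))))) else (bif Nat.ble 4526 p then (bif Nat.ble 5980 p then (bif Nat.ble 5987 p then (bif Nat.ble 5989 p then (bif Nat.ble 5990 p then (bif Nat.ble 5991 p then (bif Nat.beq p 5991 then 1340 else 0) else (bif Nat.beq p 5990 then 5955 else 0)) else (bif Nat.beq p 5989 then 4068 else 0)) else (bif Nat.ble 5988 p then (bif Nat.beq p 5988 then 1760 else 0) else (bif Nat.beq p 5987 then 1483 else 0))) else (bif Nat.ble 5984 p then (bif Nat.ble 5986 p then (bif Nat.beq p 5986 then 3381 else 0) else (bif Nat.beq p 5984 then 2679 else 0)) else (bif Nat.ble 5983 p then (bif Nat.beq p 5983 then 142 else 0) else (bif Nat.beq p 5980 then 5546 else 0)))) else (bif Nat.ble 4536 p then (bif Nat.ble 5978 p then (bif Nat.ble 5979 p then (bif Nat.beq p 5979 then 2798 else 0) else (bif Nat.beq p 5978 then 2224 else 0)) else (bif Nat.ble 4538 p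 then (bif Nat.beq p 4538 then 1690 else 0) else (bif Nat.beq p 4536 then 1476 else 0))) else (bif Nat.ble 4531 p then (bif Nat.ble 4535 p then (bif Nat.beq p 4535 then 2216 else 0) else (bif Nat.beq p 4531 then 5949 else 0)) else (bif Nat.ble 4530 p then (bif Nat.beq p 4530 then 2004 else 0) else (bif Nat.beq p 4526 then 1705 else 0))))) else (bif Nat.ble 4515 p then (bif Nat.ble 4521 p then (bif Nat.ble 4523 p then (bif Nat.ble 4524 p then (bif Nat.ble 4525 p then (bif Nat.beq p 4525 then 4934 else 0) else (bif Nat.beq p 4524 then 1807 else 0)) else (bif Nat.beq p 4523 then 2901 else 0)) else (bif Nat.ble 4522 p then (bif Nat.beq p 4522 then 5061 else 0) else (bif Nat.beq p 4521 then 3280 else 0))) else (bif Nat.ble 4517 p then (bif Nat.ble 4518 p then (bif Nat.beq p 4518 then 2379 else 0) else (bif Nat.beq p 4517 then 2036 else 0)) else (bif Nat.ble 4516 p then (bif Nat.beq p 4516 then 5441 else 0) else (bif Nat.beq p 4515 then 1121 else 0)))) else (bif Nat.ble 4509 p then (bif Nat.ble 4511 p then (bif Nat.ble 4514 p then (bif Nat.beq p 4514 then 996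 else 0) else (bif Nat.beq p 4511 then 5013 else 0)) else (bif Nat.ble 4510 p then (bif Nat.beq p 4510 then 3514 else 0) else (bif Nat.beq p 4509 then 4947 else 0))) else (bif Nat.ble 4506 p then (bif Nat.ble 4508 p then (bif Nat.beq p 4508 then 435 else 0) else (bif Nat.beq p 4506 then 3551 else 0)) else (bif Nat.ble 4505 p then (bif Nat.beq p 4505 then 2594 else 0) else (bif Nat.beq p 4504 then 6291 else 0))))))) else (bif Nat.ble 4461 p then (bif Nat.ble 4482 p then (bif Nat.ble 4494 p then (bif Nat.ble 4498 p then (bif Nat.ble 4500 p then (bif Nat.ble 4501 p then (bif Nat.ble 4503 p then (bif Nat.beq p 4503 then 2037 else 0) else (bif Nat.beq p 4501 then 1197 else 0)) else (bif Nat.beq p 4500 then 5028 else 0)) else (bif Nat.ble 4499 p then (bif Nat.beq p 4499 then 1435 else 0) else (bif Nat.beq p 4498 then 1731 else 0))) else (bif Nat.ble 4496 p then (bif Nat.ble 4497 p then (bif Nat.beq p 4497 then 3163 else 0) else (bif Nat.beq p 4496 then 1168 else 0)) else (bif Nat.ble 4495 p then (bif Nat.beq p 4495 then 1355 else 0) else (bif Nat.beq p 4494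 then 2324 else 0)))) else (bif Nat.ble 4487 p then (bif Nat.ble 4491 p then (bif Nat.ble 4493 p then (bif Nat.beq p 4493 then 3892 else 0) else (bif Nat.beq p 4491 then 1604 else 0)) else (bif Nat.ble 4490 p then (bif Nat.beq p 4490 then 3555 else 0) else (bif Nat.beq p 4487 then 2523 else 0))) else (bif Nat.ble 4485 p then (bif Nat.ble 4486 p then (bif Nat.beq p 4486 then 3442 else 0) else (bif Nat.beq p 4485 then 2108 else 0)) else (bif Nat.ble 4483 p then (bif Nat.beq p 4483 then 4553 else 0) else (bif Nat.beq p 4482 then 233 else 0))))) else (bif Nat.ble 4470 p then (bif Nat.ble 4475 p then (bif Nat.ble 4477 p then (bif Nat.ble 4478 p then (bif Nat.ble 4481 p then (bif Nat.beq p 4481 then 2759 else 0) else (bif Nat.beq p 4478 then 5076 else 0)) else (bif Nat.beq p 4477 then 4341 else 0)) else (bif Nat.ble 4476 p then (bif Nat.beq p 4476 then 6187 else 0) else (bif Nat.beq p 4475 then 4027 else 0))) else (bif Nat.ble 4472 p then (bif Nat.ble 4473 p then (bif Nat.beq p 4473 then 983 else 0) else (bif Nat.beq p 4472 then 3941 else 0)) else (bif Nat.ble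 4471 p then (bif Nat.beq p 4471 then 417 else 0) else (bif Nat.beq p 4470 then 5159 else 0)))) else (bif Nat.ble 4465 p then (bif Nat.ble 4468 p then (bif Nat.ble 4469 p then (bif Nat.beq p 4469 then 4775 else 0) else (bif Nat.beq p 4468 then 5610 else 0)) else (bif Nat.ble 4467 p then (bif Nat.beq p 4467 then 1290 else 0) else (bif Nat.beq p 4465 then 1403 else 0))) else (bif Nat.ble 4463 p then (bif Nat.ble 4464 p then (bif Nat.beq p 4464 then 6468 else 0) else (bif Nat.beq p 4463 then 713 else 0)) else (bif Nat.ble 4462 p then (bif Nat.beq p 4462 then 318 else 0) else (bif Nat.beq p 4461 then 4065 else 0)))))) else (bif Nat.ble 4444 p then (bif Nat.ble 4452 p then (bif Nat.ble 4456 p then (bif Nat.ble 4458 p then (bif Nat.ble 4459 p then (bif Nat.ble 4460 p then (bif Nat.beq p 4460 then 293 else 0) else (bif Nat.beq p 4459 then 608 else 0)) else (bif Nat.beq p 4458 then 4369 else 0)) else (bif Nat.ble 4457 p then (bif Nat.beq p 4457 then 5540 else 0) else (bif Nat.beq p 4456 then 677 else 0))) else (bif Nat.ble 4454 p then (bif Nat.ble 4455 p then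 (bif Nat.beq p 4455 then 5760 else 0) else (bif Nat.beq p 4454 then 2018 else 0)) else (bif Nat.ble 4453 p then (bif Nat.beq p 4453 then 2996 else 0) else (bif Nat.beq p 4452 then 1104 else 0)))) else (bif Nat.ble 4448 p then (bif Nat.ble 4450 p then (bif Nat.ble 4451 p then (bif Nat.beq p 4451 then 3226 else 0) else (bif Nat.beq p 4450 then 4719 else 0)) else (bif Nat.ble 4449 p then (bif Nat.beq p 4449 then 3750 else 0) else (bif Nat.beq p 4448 then 5068 else 0))) else (bif Nat.ble 4446 p then (bif Nat.ble 4447 p then (bif Nat.beq p 4447 then 6259 else 0) else (bif Nat.beq p 4446 then 1820 else 0)) else (bif Nat.ble 4445 p then (bif Nat.beq p 4445 then 5150 else 0) else (bif Nat.beq p 4444 then 6093 else 0))))) else (bif Nat.ble 4431 p then (bif Nat.ble 4439 p then (bif Nat.ble 4442 p then (bif Nat.ble 4443 p then (bif Nat.beq p 4443 then 2150 else 0) else (bif Nat.beq p 4442 then 133 else 0)) else (bif Nat.ble 4440 p then (bif Nat.beq p 4440 then 3972 else 0) else (bif Nat.beq p 4439 then 1088 else 0))) else (bif Nat.ble 4434 p then (bif Nat.ble 4435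 p then (bif Nat.beq p 4435 then 4681 else 0) else (bif Nat.beq p 4434 then 341 else 0)) else (bif Nat.ble 4432 p then (bif Nat.beq p 4432 then 2017 else 0) else (bif Nat.beq p 4431 then 4975 else 0)))) else (bif Nat.ble 3347 p then (bif Nat.ble 3352 p then (bif Nat.ble 4430 p then (bif Nat.beq p 4430 then 3086 else 0) else (bif Nat.beq p 3352 then 5381 else 0)) else (bif Nat.ble 3351 p then (bif Nat.beq p 3351 then 695 else 0) else (bif Nat.beq p 3347 then 5815 else 0))) else (bif Nat.ble 3343 p then (bif Nat.ble 3346 p then (bif Nat.beq p 3346 then 426 else 0) else (bif Nat.beq p 3343 then 5566 else 0)) else (bif Nat.ble 3342 p then (bif Nat.beq p 3342 then 5977 else 0) else (bif Nat.beq p 3341 then 2407 else 0)))))))) else (bif Nat.ble 2465 p then (bif Nat.ble 3297 p then (bif Nat.ble 3316 p then (bif Nat.ble 3326 p then (bif Nat.ble 3332 p then (bif Nat.ble 3336 p then (bif Nat.ble 3337 p then (bif Nat.ble 3340 p then (bif Nat.beq p 3340 then 4567 else 0) else (bif Nat.beq p 3337 then 311 else 0)) else (bif Nat.beq p 3336 then 4980 else 0)) else (bif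 Nat.ble 3333 p then (bif Nat.beq p 3333 then 604 else 0) else (bif Nat.beq p 3332 then 4044 else 0))) else (bif Nat.ble 3328 p then (bif Nat.ble 3331 p then (bif Nat.beq p 3331 then 4052 else 0) else (bif Nat.beq p 3328 then 811 else 0)) else (bif Nat.ble 3327 p then (bif Nat.beq p 3327 then 2319 else 0) else (bif Nat.beq p 3326 then 5293 else 0)))) else (bif Nat.ble 3321 p then (bif Nat.ble 3323 p then (bif Nat.ble 3325 p then (bif Nat.beq p 3325 then 5942 else 0) else (bif Nat.beq p 3323 then 4158 else 0)) else (bif Nat.ble 3322 p then (bif Nat.beq p 3322 then 5669 else 0) else (bif Nat.beq p 3321 then 3009 else 0))) else (bif Nat.ble 3318 p then (bif Nat.ble 3320 p then (bif Nat.beq p 3320 then 1698 else 0) else (bif Nat.beq p 3318 then 502 else 0)) else (bif Nat.ble 3317 p then (bif Nat.beq p 3317 then 2232 else 0) else (bif Nat.beq p 3316 then 1264 else 0))))) else (bif Nat.ble 3307 p then (bif Nat.ble 3311 p then (bif Nat.ble 3313 p then (bif Nat.ble 3314 p then (bif Nat.ble 3315 p then (bif Nat.beq p 3315 then 1611 else 0) else (bif Nat.beq p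 3314 then 5856 else 0)) else (bif Nat.beq p 3313 then 1849 else 0)) else (bif Nat.ble 3312 p then (bif Nat.beq p 3312 then 773 else 0) else (bif Nat.beq p 3311 then 3232 else 0))) else (bif Nat.ble 3309 p then (bif Nat.ble 3310 p then (bif Nat.beq p 3310 then 124 else 0) else (bif Nat.beq p 3309 then 5707 else 0)) else (bif Nat.ble 3308 p then (bif Nat.beq p 3308 then 1035 else 0) else (bif Nat.beq p 3307 then 5477 else 0)))) else (bif Nat.ble 3302 p then (bif Nat.ble 3305 p then (bif Nat.ble 3306 p then (bif Nat.beq p 3306 then 6012 else 0) else (bif Nat.beq p 3305 then 3585 else 0)) else (bif Nat.ble 3303 p then (bif Nat.beq p 3303 then 5577 else 0) else (bif Nat.beq p 3302 then 5892 else 0))) else (bif Nat.ble 3299 p then (bif Nat.ble 3300 p then (bif Nat.beq p 3300 then 4039 else 0) else (bif Nat.beq p 3299 then 5927 else 0)) else (bif Nat.ble 3298 p then (bif Nat.beq p 3298 then 444 else 0) else (bif Nat.beq p 3297 then 2491 else 0)))))) else (bif Nat.ble 3279 p then (bif Nat.ble 3287 p then (bif Nat.ble 3291 p then (bif Nat.ble 3294 p then (bif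 Nat.ble 3295 p then (bif Nat.ble 3296 p then (bif Nat.beq p 3296 then 3184 else 0) else (bif Nat.beq p 3295 then 4799 else 0)) else (bif Nat.beq p 3294 then 3664 else 0)) else (bif Nat.ble 3292 p then (bif Nat.beq p 3292 then 2221 else 0) else (bif Nat.beq p 3291 then 6067 else 0))) else (bif Nat.ble 3289 p then (bif Nat.ble 3290 p then (bif Nat.beq p 3290 then 4924 else 0) else (bif Nat.beq p 3289 then 906 else 0)) else (bif Nat.ble 3288 p then (bif Nat.beq p 3288 then 4965 else 0) else (bif Nat.beq p 3287 then 1381 else 0)))) else (bif Nat.ble 3283 p then (bif Nat.ble 3285 p then (bif Nat.ble 3286 p then (bif Nat.beq p 3286 then 3756 else 0) else (bif Nat.beq p 3285 then 2143 else 0)) else (bif Nat.ble 3284 p then (bif Nat.beq p 3284 then 188 else 0) else (bif Nat.beq p 3283 then 2492 else 0))) else (bif Nat.ble 3281 p then (bif Nat.ble 3282 p then (bif Nat.beq p 3282 then 1652 else 0) else (bif Nat.beq p 3281 then 5057 else 0)) else (bif Nat.ble 3280 p then (bif Nat.beq p 3280 then 1094 else 0) else (bif Nat.beq p 3279 then 3573 else 0))))) else (bif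 Nat.ble 3270 p then (bif Nat.ble 3274 p then (bif Nat.ble 3276 p then (bif Nat.ble 3277 p then (bif Nat.ble 3278 p then (bif Nat.beq p 3278 then 5379 else 0) else (bif Nat.beq p 3277 then 399 else 0)) else (bif Nat.beq p 3276 then 957 else 0)) else (bif Nat.ble 3275 p then (bif Nat.beq p 3275 then 3712 else 0) else (bif Nat.beq p 3274 then 6492 else 0))) else (bif Nat.ble 3272 p then (bif Nat.ble 3273 p then (bif Nat.beq p 3273 then 2357 else 0) else (bif Nat.beq p 3272 then 1682 else 0)) else (bif Nat.ble 3271 p then (bif Nat.beq p 3271 then 1837 else 0) else (bif Nat.beq p 3270 then 4175 else 0)))) else (bif Nat.ble 3262 p then (bif Nat.ble 3266 p then (bif Nat.ble 3269 p then (bif Nat.beq p 3269 then 715 else 0) else (bif Nat.beq p 3266 then 3128 else 0)) else (bif Nat.ble 3265 p then (bif Nat.beq p 3265 then 1226 else 0) else (bif Nat.beq p 3262 then 2354 else 0))) else (bif Nat.ble 3260 p then (bif Nat.ble 3261 p then (bif Nat.beq p 3261 then 1029 else 0) else (bif Nat.beq p 3260 then 1587 else 0)) else (bif Nat.ble 3259 p then (bif Nat.beq p 3259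 then 5612 else 0) else (bif Nat.beq p 2465 then 2095 else 0))))))) else (bif Nat.ble 2424 p then (bif Nat.ble 2442 p then (bif Nat.ble 2453 p then (bif Nat.ble 2458 p then (bif Nat.ble 2460 p then (bif Nat.ble 2463 p then (bif Nat.ble 2464 p then (bif Nat.beq p 2464 then 4487 else 0) else (bif Nat.beq p 2463 then 2587 else 0)) else (bif Nat.beq p 2460 then 3131 else 0)) else (bif Nat.ble 2459 p then (bif Nat.beq p 2459 then 4933 else 0) else (bif Nat.beq p 2458 then 3964 else 0))) else (bif Nat.ble 2455 p then (bif Nat.ble 2457 p then (bif Nat.beq p 2457 then 6124 else 0) else (bif Nat.beq p 2455 then 6130 else 0)) else (bif Nat.ble 2454 p then (bif Nat.beq p 2454 then 2554 else 0) else (bif Nat.beq p 2453 then 5204 else 0)))) else (bif Nat.ble 2447 p then (bif Nat.ble 2450 p then (bif Nat.ble 2451 p then (bif Nat.beq p 2451 then 2238 else 0) else (bif Nat.beq p 2450 then 2781 else 0)) else (bif Nat.ble 2448 p then (bif Nat.beq p 2448 then 599 else 0) else (bif Nat.beq p 2447 then 1538 else 0))) else (bif Nat.ble 2445 p then (bif Nat.ble 2446 p then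 (bif Nat.beq p 2446 then 5858 else 0) else (bif Nat.beq p 2445 then 6251 else 0)) else (bif Nat.ble 2443 p then (bif Nat.beq p 2443 then 5570 else 0) else (bif Nat.beq p 2442 then 5668 else 0))))) else (bif Nat.ble 2433 p then (bif Nat.ble 2437 p then (bif Nat.ble 2439 p then (bif Nat.ble 2440 p then (bif Nat.ble 2441 p then (bif Nat.beq p 2441 then 3779 else 0) else (bif Nat.beq p 2440 then 1546 else 0)) else (bif Nat.beq p 2439 then 6210 else 0)) else (bif Nat.ble 2438 p then (bif Nat.beq p 2438 then 242 else 0) else (bif Nat.beq p 2437 then 1073 else 0))) else (bif Nat.ble 2435 p then (bif Nat.ble 2436 p then (bif Nat.beq p 2436 then 5299 else 0) else (bif Nat.beq p 2435 then 706 else 0)) else (bif Nat.ble 2434 p then (bif Nat.beq p 2434 then 3862 else 0) else (bif Nat.beq p 2433 then 200 else 0)))) else (bif Nat.ble 2429 p then (bif Nat.ble 2431 p then (bif Nat.ble 2432 p then (bif Nat.beq p 2432 then 1692 else 0) else (bif Nat.beq p 2431 then 1851 else 0)) else (bif Nat.ble 2430 p then (bif Nat.beq p 2430 then 3547 else 0) else (bif Nat.beq p 2429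 then 5355 else 0))) else (bif Nat.ble 2426 p then (bif Nat.ble 2427 p then (bif Nat.beq p 2427 then 4113 else 0) else (bif Nat.beq p 2426 then 2339 else 0)) else (bif Nat.ble 2425 p then (bif Nat.beq p 2425 then 6108 else 0) else (bif Nat.beq p 2424 then 2214 else 0)))))) else (bif Nat.ble 2407 p then (bif Nat.ble 2415 p then (bif Nat.ble 2419 p then (bif Nat.ble 2421 p then (bif Nat.ble 2422 p then (bif Nat.ble 2423 p then (bif Nat.beq p 2423 then 3619 else 0) else (bif Nat.beq p 2422 then 5310 else 0)) else (bif Nat.beq p 2421 then 6415 else 0)) else (bif Nat.ble 2420 p then (bif Nat.beq p 2420 then 6054 else 0) else (bif Nat.beq p 2419 then 6310 else 0))) else (bif Nat.ble 2417 p then (bif Nat.ble 2418 p then (bif Nat.beq p 2418 then 2425 else 0) else (bif Nat.beq p 2417 then 926 else 0)) else (bif Nat.ble 2416 p then (bif Nat.beq p 2416 then 1237 else 0) else (bif Nat.beq p 2415 then 5962 else 0)))) else (bif Nat.ble 2411 p then (bif Nat.ble 2413 p then (bif Nat.ble 2414 p then (bif Nat.beq p 2414 then 876 else 0) else (bif Nat.beq p 2413 then 799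 else 0)) else (bif Nat.ble 2412 p then (bif Nat.beq p 2412 then 1567 else 0) else (bif Nat.beq p 2411 then 6036 else 0))) else (bif Nat.ble 2409 p then (bif Nat.ble 2410 p then (bif Nat.beq p 2410 then 1478 else 0) else (bif Nat.beq p 2409 then 519 else 0)) else (bif Nat.ble 2408 p then (bif Nat.beq p 2408 then 5510 else 0) else (bif Nat.beq p 2407 then 6515 else 0))))) else (bif Nat.ble 2397 p then (bif Nat.ble 2401 p then (bif Nat.ble 2405 p then (bif Nat.ble 2406 p then (bif Nat.beq p 2406 then 5085 else 0) else (bif Nat.beq p 2405 then 1984 else 0)) else (bif Nat.ble 2404 p then (bif Nat.beq p 2404 then 2645 else 0) else (bif Nat.beq p 2401 then 3248 else 0))) else (bif Nat.ble 2399 p then (bif Nat.ble 2400 p then (bif Nat.beq p 2400 then 1083 else 0) else (bif Nat.beq p 2399 then 722 else 0)) else (bif Nat.ble 2398 p then (bif Nat.beq p 2398 then 4211 else 0) else (bif Nat.beq p 2397 then 3069 else 0)))) else (bif Nat.ble 1817 p then (bif Nat.ble 1819 p then (bif Nat.ble 2396 p then (bif Nat.beq p 2396 then 1570 else 0) else (bif Nat.beq p 1819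 then 794 else 0)) else (bif Nat.ble 1818 p then (bif Nat.beq p 1818 then 1201 else 0) else (bif Nat.beq p 1817 then 275 else 0))) else (bif Nat.ble 1814 p then (bif Nat.ble 1816 p then (bif Nat.beq p 1816 then 5391 else 0) else (bif Nat.beq p 1814 then 4088 else 0)) else (bif Nat.ble 1813 p then (bif Nat.beq p 1813 then 4327 else 0) else (bif Nat.beq p 1812 then 2773 else 0))))))))) else (bif Nat.ble 716 p then (bif Nat.ble 1322 p then (bif Nat.ble 1777 p then (bif Nat.ble 1794 p then (bif Nat.ble 1802 p then (bif Nat.ble 1806 p then (bif Nat.ble 1808 p then (bif Nat.ble 1810 p then (bif Nat.ble 1811 p then (bif Nat.beq p 1811 then 5829 else 0) else (bif Nat.beq p 1810 then 3164 else 0)) else (bif Nat.beq p 1808 then 4830 else 0)) else (bif Nat.ble 1807 p then (bif Nat.beq p 1807 then 5479 else 0) else (bif Nat.beq p 1806 then 1351 else 0))) else (bif Nat.ble 1804 p then (bif Nat.ble 1805 p then (bif Nat.beq p 1805 then 3633 else 0) else (bif Nat.beq p 1804 then 4238 else 0)) else (bif Nat.ble 1803 p then (bif Nat.beq p 1803 then 4752 else 0) else (bif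 Nat.beq p 1802 then 2636 else 0)))) else (bif Nat.ble 1798 p then (bif Nat.ble 1800 p then (bif Nat.ble 1801 p then (bif Nat.beq p 1801 then 6521 else 0) else (bif Nat.beq p 1800 then 343 else 0)) else (bif Nat.ble 1799 p then (bif Nat.beq p 1799 then 2741 else 0) else (bif Nat.beq p 1798 then 1263 else 0))) else (bif Nat.ble 1796 p then (bif Nat.ble 1797 p then (bif Nat.beq p 1797 then 1927 else 0) else (bif Nat.beq p 1796 then 548 else 0)) else (bif Nat.ble 1795 p then (bif Nat.beq p 1795 then 1812 else 0) else (bif Nat.beq p 1794 then 3328 else 0))))) else (bif Nat.ble 1785 p then (bif Nat.ble 1789 p then (bif Nat.ble 1791 p then (bif Nat.ble 1792 p then (bif Nat.ble 1793 p then (bif Nat.beq p 1793 then 2404 else 0) else (bif Nat.beq p 1792 then 3636 else 0)) else (bif Nat.beq p 1791 then 1676 else 0)) else (bif Nat.ble 1790 p then (bif Nat.beq p 1790 then 5081 else 0) else (bif Nat.beq p 1789 then 4339 else 0))) else (bif Nat.ble 1787 p then (bif Nat.ble 1788 p then (bif Nat.beq p 1788 then 4299 else 0) else (bif Nat.beq p 1787 then 3221 else 0))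 else (bif Nat.ble 1786 p then (bif Nat.beq p 1786 then 4032 else 0) else (bif Nat.beq p 1785 then 5349 else 0)))) else (bif Nat.ble 1781 p then (bif Nat.ble 1783 p then (bif Nat.ble 1784 p then (bif Nat.beq p 1784 then 1744 else 0) else (bif Nat.beq p 1783 then 600 else 0)) else (bif Nat.ble 1782 p then (bif Nat.beq p 1782 then 2010 else 0) else (bif Nat.beq p 1781 then 1180 else 0))) else (bif Nat.ble 1779 p then (bif Nat.ble 1780 p then (bif Nat.beq p 1780 then 6234 else 0) else (bif Nat.beq p 1779 then 4109 else 0)) else (bif Nat.ble 1778 p then (bif Nat.beq p 1778 then 325 else 0) else (bif Nat.beq p 1777 then 2230 else 0)))))) else (bif Nat.ble 1339 p then (bif Nat.ble 1348 p then (bif Nat.ble 1771 p then (bif Nat.ble 1773 p then (bif Nat.ble 1775 p then (bif Nat.ble 1776 p then (bif Nat.beq p 1776 then 3097 else 0) else (bif Nat.beq p 1775 then 2943 else 0)) else (bif Nat.beq p 1773 then 887 else 0)) else (bif Nat.ble 1772 p then (bif Nat.beq p 1772 then 6523 else 0) else (bif Nat.beq p 1771 then 5631 else 0))) else (bif Nat.ble 1769 p then (bif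 Nat.ble 1770 p then (bif Nat.beq p 1770 then 2501 else 0) else (bif Nat.beq p 1769 then 6239 else 0)) else (bif Nat.ble 1768 p then (bif Nat.beq p 1768 then 1717 else 0) else (bif Nat.beq p 1348 then 103 else 0)))) else (bif Nat.ble 1343 p then (bif Nat.ble 1345 p then (bif Nat.ble 1346 p then (bif Nat.beq p 1346 then 1348 else 0) else (bif Nat.beq p 1345 then 3012 else 0)) else (bif Nat.ble 1344 p then (bif Nat.beq p 1344 then 852 else 0) else (bif Nat.beq p 1343 then 2869 else 0))) else (bif Nat.ble 1341 p then (bif Nat.ble 1342 p then (bif Nat.beq p 1342 then 4443 else 0) else (bif Nat.beq p 1341 then 4795 else 0)) else (bif Nat.ble 1340 p then (bif Nat.beq p 1340 then 3401 else 0) else (bif Nat.beq p 1339 then 4899 else 0))))) else (bif Nat.ble 1330 p then (bif Nat.ble 1334 p then (bif Nat.ble 1336 p then (bif Nat.ble 1337 p then (bif Nat.ble 1338 p then (bif Nat.beq p 1338 then 1732 else 0) else (bif Nat.beq p 1337 then 6131 else 0)) else (bif Nat.beq p 1336 then 3162 else 0)) else (bif Nat.ble 1335 p then (bif Nat.beq p 1335 then 2327 else 0) else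 (bif Nat.beq p 1334 then 2739 else 0))) else (bif Nat.ble 1332 p then (bif Nat.ble 1333 p then (bif Nat.beq p 1333 then 6486 else 0) else (bif Nat.beq p 1332 then 1356 else 0)) else (bif Nat.ble 1331 p then (bif Nat.beq p 1331 then 2151 else 0) else (bif Nat.beq p 1330 then 1205 else 0)))) else (bif Nat.ble 1326 p then (bif Nat.ble 1328 p then (bif Nat.ble 1329 p then (bif Nat.beq p 1329 then 4932 else 0) else (bif Nat.beq p 1328 then 6473 else 0)) else (bif Nat.ble 1327 p then (bif Nat.beq p 1327 then 2698 else 0) else (bif Nat.beq p 1326 then 5415 else 0))) else (bif Nat.ble 1324 p then (bif Nat.ble 1325 p then (bif Nat.beq p 1325 then 1484 else 0) else (bif Nat.beq p 1324 then 3730 else 0)) else (bif Nat.ble 1323 p then (bif Nat.beq p 1323 then 3020 else 0) else (bif Nat.beq p 1322 then 2521 else 0))))))) else (bif Nat.ble 978 p then (bif Nat.ble 995 p then (bif Nat.ble 1313 p then (bif Nat.ble 1317 p then (bif Nat.ble 1319 p then (bif Nat.ble 1320 p then (bif Nat.ble 1321 p then (bif Nat.beq p 1321 then 3870 else 0) else (bif Nat.beq p 1320 then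 3665 else 0)) else (bif Nat.beq p 1319 then 609 else 0)) else (bif Nat.ble 1318 p then (bif Nat.beq p 1318 then 3940 else 0) else (bif Nat.beq p 1317 then 5920 else 0))) else (bif Nat.ble 1315 p then (bif Nat.ble 1316 p then (bif Nat.beq p 1316 then 2217 else 0) else (bif Nat.beq p 1315 then 2336 else 0)) else (bif Nat.ble 1314 p then (bif Nat.beq p 1314 then 5810 else 0) else (bif Nat.beq p 1313 then 5553 else 0)))) else (bif Nat.ble 1309 p then (bif Nat.ble 1311 p then (bif Nat.ble 1312 p then (bif Nat.beq p 1312 then 3629 else 0) else (bif Nat.beq p 1311 then 4946 else 0)) else (bif Nat.ble 1310 p then (bif Nat.beq p 1310 then 4064 else 0) else (bif Nat.beq p 1309 then 6467 else 0))) else (bif Nat.ble 997 p then (bif Nat.ble 1308 p then (bif Nat.beq p 1308 then 3219 else 0) else (bif Nat.beq p 997 then 997 else 0)) else (bif Nat.ble 996 p then (bif Nat.beq p 996 then 4556 else 0) else (bif Nat.beq p 995 then 3231 else 0))))) else (bif Nat.ble 986 p then (bif Nat.ble 990 p then (bif Nat.ble 992 p then (bif Nat.ble 993 p then (bif Nat.ble 994 p then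 (bif Nat.beq p 994 then 4867 else 0) else (bif Nat.beq p 993 then 118 else 0)) else (bif Nat.beq p 992 then 5296 else 0)) else (bif Nat.ble 991 p then (bif Nat.beq p 991 then 5857 else 0) else (bif Nat.beq p 990 then 2400 else 0))) else (bif Nat.ble 988 p then (bif Nat.ble 989 p then (bif Nat.beq p 989 then 425 else 0) else (bif Nat.beq p 988 then 4708 else 0)) else (bif Nat.ble 987 p then (bif Nat.beq p 987 then 5207 else 0) else (bif Nat.beq p 986 then 6123 else 0)))) else (bif Nat.ble 982 p then (bif Nat.ble 984 p then (bif Nat.ble 985 p then (bif Nat.beq p 985 then 1530 else 0) else (bif Nat.beq p 984 then 6065 else 0)) else (bif Nat.ble 983 p then (bif Nat.beq p 983 then 5755 else 0) else (bif Nat.beq p 982 then 5562 else 0))) else (bif Nat.ble 980 p then (bif Nat.ble 981 p then (bif Nat.beq p 981 then 4673 else 0) else (bif Nat.beq p 980 then 2051 else 0)) else (bif Nat.ble 979 p then (bif Nat.beq p 979 then 1919 else 0) else (bif Nat.beq p 978 then 1827 else 0)))))) else (bif Nat.ble 732 p then (bif Nat.ble 969 p then (bif Nat.ble 973 p then (bif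 Nat.ble 975 p then (bif Nat.ble 976 p then (bif Nat.ble 977 p then (bif Nat.beq p 977 then 3708 else 0) else (bif Nat.beq p 976 then 4661 else 0)) else (bif Nat.beq p 975 then 6529 else 0)) else (bif Nat.ble 974 p then (bif Nat.beq p 974 then 4699 else 0) else (bif Nat.beq p 973 then 2530 else 0))) else (bif Nat.ble 971 p then (bif Nat.ble 972 p then (bif Nat.beq p 972 then 6314 else 0) else (bif Nat.beq p 971 then 4876 else 0)) else (bif Nat.ble 970 p then (bif Nat.beq p 970 then 771 else 0) else (bif Nat.beq p 969 then 5851 else 0)))) else (bif Nat.ble 965 p then (bif Nat.ble 967 p then (bif Nat.ble 968 p then (bif Nat.beq p 968 then 2236 else 0) else (bif Nat.beq p 967 then 5158 else 0)) else (bif Nat.ble 966 p then (bif Nat.beq p 966 then 5267 else 0) else (bif Nat.beq p 965 then 3876 else 0))) else (bif Nat.ble 734 p then (bif Nat.ble 964 p then (bif Nat.beq p 964 then 2031 else 0) else (bif Nat.beq p 734 then 5747 else 0)) else (bif Nat.ble 733 p then (bif Nat.beq p 733 then 503 else 0) else (bif Nat.beq p 732 then 4747 else 0))))) else (bif Nat.ble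 724 p then (bif Nat.ble 728 p then (bif Nat.ble 730 p then (bif Nat.ble 731 p then (bif Nat.beq p 731 then 3393 else 0) else (bif Nat.beq p 730 then 4316 else 0)) else (bif Nat.ble 729 p then (bif Nat.beq p 729 then 5667 else 0) else (bif Nat.beq p 728 then 2041 else 0))) else (bif Nat.ble 726 p then (bif Nat.ble 727 p then (bif Nat.beq p 727 then 439 else 0) else (bif Nat.beq p 726 then 3552 else 0)) else (bif Nat.ble 725 p then (bif Nat.beq p 725 then 5789 else 0) else (bif Nat.beq p 724 then 4196 else 0)))) else (bif Nat.ble 720 p then (bif Nat.ble 722 p then (bif Nat.ble 723 p then (bif Nat.beq p 723 then 3424 else 0) else (bif Nat.beq p 722 then 2632 else 0)) else (bif Nat.ble 721 p then (bif Nat.beq p 721 then 3590 else 0) else (bif Nat.beq p 720 then 1375 else 0))) else (bif Nat.ble 718 p then (bif Nat.ble 719 p then (bif Nat.beq p 719 then 3254 else 0) else (bif Nat.beq p 718 then 1854 else 0)) else (bif Nat.ble 717 p then (bif Nat.beq p 717 then 4218 else 0) else (bif Nat.beq p 716 then 2731 else 0)))))))) else (bif Nat.ble 261 p then (bif Nat.ble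 511 p then (bif Nat.ble 528 p then (bif Nat.ble 707 p then (bif Nat.ble 711 p then (bif Nat.ble 713 p then (bif Nat.ble 714 p then (bif Nat.ble 715 p then (bif Nat.beq p 715 then 2897 else 0) else (bif Nat.beq p 714 then 5447 else 0)) else (bif Nat.beq p 713 then 4049 else 0)) else (bif Nat.ble 712 p then (bif Nat.beq p 712 then 6295 else 0) else (bif Nat.beq p 711 then 4868 else 0))) else (bif Nat.ble 709 p then (bif Nat.ble 710 p then (bif Nat.beq p 710 then 6047 else 0) else (bif Nat.beq p 709 then 3183 else 0)) else (bif Nat.ble 708 p then (bif Nat.beq p 708 then 6410 else 0) else (bif Nat.beq p 707 then 3917 else 0)))) else (bif Nat.ble 532 p then (bif Nat.ble 534 p then (bif Nat.ble 535 p then (bif Nat.beq p 535 then 2234 else 0) else (bif Nat.beq p 534 then 6062 else 0)) else (bif Nat.ble 533 p then (bif Nat.beq p 533 then 5357 else 0) else (bif Nat.beq p 532 then 5853 else 0))) else (bif Nat.ble 530 p then (bif Nat.ble 531 p then (bif Nat.beq p 531 then 1657 else 0) else (bif Nat.beq p 530 then 4524 else 0)) else (bif Nat.ble 529 p then (bif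 Nat.beq p 529 then 1531 else 0) else (bif Nat.beq p 528 then 2360 else 0))))) else (bif Nat.ble 519 p then (bif Nat.ble 523 p then (bif Nat.ble 525 p then (bif Nat.ble 526 p then (bif Nat.ble 527 p then (bif Nat.beq p 527 then 3324 else 0) else (bif Nat.beq p 526 then 5945 else 0)) else (bif Nat.beq p 525 then 3053 else 0)) else (bif Nat.ble 524 p then (bif Nat.beq p 524 then 4562 else 0) else (bif Nat.beq p 523 then 1985 else 0))) else (bif Nat.ble 521 p then (bif Nat.ble 522 p then (bif Nat.beq p 522 then 5196 else 0) else (bif Nat.beq p 521 then 3668 else 0)) else (bif Nat.ble 520 p then (bif Nat.beq p 520 then 6220 else 0) else (bif Nat.beq p 519 then 5309 else 0)))) else (bif Nat.ble 515 p then (bif Nat.ble 517 p then (bif Nat.ble 518 p then (bif Nat.beq p 518 then 4160 else 0) else (bif Nat.beq p 517 then 2899 else 0)) else (bif Nat.ble 516 p then (bif Nat.beq p 516 then 4311 else 0) else (bif Nat.beq p 515 then 4234 else 0))) else (bif Nat.ble 513 p then (bif Nat.ble 514 p then (bif Nat.beq p 514 then 5723 else 0) else (bif Nat.beq p 513 then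 4800 else 0)) else (bif Nat.ble 512 p then (bif Nat.beq p 512 then 2298 else 0) else (bif Nat.beq p 511 then 4614 else 0)))))) else (bif Nat.ble 368 p then (bif Nat.ble 376 p then (bif Nat.ble 380 p then (bif Nat.ble 382 p then (bif Nat.ble 383 p then (bif Nat.ble 510 p then (bif Nat.beq p 510 then 2867 else 0) else (bif Nat.beq p 383 then 3093 else 0)) else (bif Nat.beq p 382 then 6209 else 0)) else (bif Nat.ble 381 p then (bif Nat.beq p 381 then 5219 else 0) else (bif Nat.beq p 380 then 2005 else 0))) else (bif Nat.ble 378 p then (bif Nat.ble 379 p then (bif Nat.beq p 379 then 613 else 0) else (bif Nat.beq p 378 then 157 else 0)) else (bif Nat.ble 377 p then (bif Nat.beq p 377 then 6090 else 0) else (bif Nat.beq p 376 then 6247 else 0)))) else (bif Nat.ble 372 p then (bif Nat.ble 374 p then (bif Nat.ble 375 p then (bif Nat.beq p 375 then 3776 else 0) else (bif Nat.beq p 374 then 4901 else 0)) else (bif Nat.ble 373 p then (bif Nat.beq p 373 then 2945 else 0) else (bif Nat.beq p 372 then 2760 else 0))) else (bif Nat.ble 370 p then (bif Nat.ble 371 p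 then (bif Nat.beq p 371 then 2225 else 0) else (bif Nat.beq p 370 then 4710 else 0)) else (bif Nat.ble 369 p then (bif Nat.beq p 369 then 1537 else 0) else (bif Nat.beq p 368 then 4829 else 0))))) else (bif Nat.ble 269 p then (bif Nat.ble 363 p then (bif Nat.ble 365 p then (bif Nat.ble 366 p then (bif Nat.ble 367 p then (bif Nat.beq p 367 then 5850 else 0) else (bif Nat.beq p 366 then 5576 else 0)) else (bif Nat.beq p 365 then 6110 else 0)) else (bif Nat.ble 364 p then (bif Nat.beq p 364 then 4320 else 0) else (bif Nat.beq p 363 then 3441 else 0))) else (bif Nat.ble 361 p then (bif Nat.ble 362 p then (bif Nat.beq p 362 then 3887 else 0) else (bif Nat.beq p 361 then 6393 else 0)) else (bif Nat.ble 270 p then (bif Nat.beq p 270 then 3312 else 0) else (bif Nat.beq p 269 then 2697 else 0)))) else (bif Nat.ble 265 p then (bif Nat.ble 267 p then (bif Nat.ble 268 p then (bif Nat.beq p 268 then 5561 else 0) else (bif Nat.beq p 267 then 1881 else 0)) else (bif Nat.ble 266 p then (bif Nat.beq p 266 then 617 else 0) else (bif Nat.beq p 265 then 2789 else 0))) else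 (bif Nat.ble 263 p then (bif Nat.ble 264 p then (bif Nat.beq p 264 then 4053 else 0) else (bif Nat.beq p 263 then 3362 else 0)) else (bif Nat.ble 262 p then (bif Nat.beq p 262 then 3563 else 0) else (bif Nat.beq p 261 then 4331 else 0))))))) else (bif Nat.ble 124 p then (bif Nat.ble 183 p then (bif Nat.ble 252 p then (bif Nat.ble 256 p then (bif Nat.ble 258 p then (bif Nat.ble 259 p then (bif Nat.ble 260 p then (bif Nat.beq p 260 then 3740 else 0) else (bif Nat.beq p 259 then 160 else 0)) else (bif Nat.beq p 258 then 2156 else 0)) else (bif Nat.ble 257 p then (bif Nat.beq p 257 then 4439 else 0) else (bif Nat.beq p 256 then 3868 else 0))) else (bif Nat.ble 254 p then (bif Nat.ble 255 p then (bif Nat.beq p 255 then 3121 else 0) else (bif Nat.beq p 254 then 1386 else 0)) else (bif Nat.ble 253 p then (bif Nat.beq p 253 then 6215 else 0) else (bif Nat.beq p 252 then 5094 else 0)))) else (bif Nat.ble 187 p then (bif Nat.ble 250 p then (bif Nat.ble 251 p then (bif Nat.beq p 251 then 5371 else 0) else (bif Nat.beq p 250 then 5059 else 0)) else (bif Nat.ble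 249 p then (bif Nat.beq p 249 then 1889 else 0) else (bif Nat.beq p 187 then 6482 else 0))) else (bif Nat.ble 185 p then (bif Nat.ble 186 p then (bif Nat.beq p 186 then 1885 else 0) else (bif Nat.beq p 185 then 4672 else 0)) else (bif Nat.ble 184 p then (bif Nat.beq p 184 then 5948 else 0) else (bif Nat.beq p 183 then 1224 else 0))))) else (bif Nat.ble 174 p then (bif Nat.ble 178 p then (bif Nat.ble 180 p then (bif Nat.ble 181 p then (bif Nat.ble 182 p then (bif Nat.beq p 182 then 2669 else 0) else (bif Nat.beq p 181 then 6394 else 0)) else (bif Nat.beq p 180 then 5620 else 0)) else (bif Nat.ble 179 p then (bif Nat.beq p 179 then 1810 else 0) else (bif Nat.beq p 178 then 350 else 0))) else (bif Nat.ble 176 p then (bif Nat.ble 177 p then (bif Nat.beq p 177 then 1733 else 0) else (bif Nat.beq p 176 then 5825 else 0)) else (bif Nat.ble 175 p then (bif Nat.beq p 175 then 1191 else 0) else (bif Nat.beq p 174 then 6443 else 0)))) else (bif Nat.ble 170 p then (bif Nat.ble 172 p then (bif Nat.ble 173 p then (bif Nat.beq p 173 then 2316 else 0) else (bif Nat.beq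 p 172 then 2239 else 0)) else (bif Nat.ble 171 p then (bif Nat.beq p 171 then 2366 else 0) else (bif Nat.beq p 170 then 699 else 0))) else (bif Nat.ble 126 p then (bif Nat.ble 127 p then (bif Nat.beq p 127 then 3859 else 0) else (bif Nat.beq p 126 then 85 else 0)) else (bif Nat.ble 125 p then (bif Nat.beq p 125 then 2363 else 0) else (bif Nat.beq p 124 then 3773 else 0)))))) else (bif Nat.ble 79 p then (bif Nat.ble 115 p then (bif Nat.ble 119 p then (bif Nat.ble 121 p then (bif Nat.ble 122 p then (bif Nat.ble 123 p then (bif Nat.beq p 123 then 3056 else 0) else (bif Nat.beq p 122 then 2988 else 0)) else (bif Nat.beq p 121 then 998 else 0)) else (bif Nat.ble 120 p then (bif Nat.beq p 120 then 1847 else 0) else (bif Nat.beq p 119 then 2123 else 0))) else (bif Nat.ble 117 p then (bif Nat.ble 118 p then (bif Nat.beq p 118 then 2085 else 0) else (bif Nat.beq p 117 then 5852 else 0)) else (bif Nat.ble 116 p then (bif Nat.beq p 116 then 4670 else 0) else (bif Nat.beq p 115 then 5748 else 0)))) else (bif Nat.ble 83 p then (bif Nat.ble 113 p then (bif Nat.ble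 114 p then (bif Nat.beq p 114 then 309 else 0) else (bif Nat.beq p 113 then 1580 else 0)) else (bif Nat.ble 84 p then (bif Nat.beq p 84 then 5753 else 0) else (bif Nat.beq p 83 then 6395 else 0))) else (bif Nat.ble 81 p then (bif Nat.ble 82 p then (bif Nat.beq p 82 then 3893 else 0) else (bif Nat.beq p 81 then 5712 else 0)) else (bif Nat.ble 80 p then (bif Nat.beq p 80 then 704 else 0) else (bif Nat.beq p 79 then 1628 else 0))))) else (bif Nat.ble 52 p then (bif Nat.ble 56 p then (bif Nat.ble 77 p then (bif Nat.ble 78 p then (bif Nat.beq p 78 then 3059 else 0) else (bif Nat.beq p 77 then 2512 else 0)) else (bif Nat.ble 76 p then (bif Nat.beq p 76 then 1081 else 0) else (bif Nat.beq p 56 then 2510 else 0))) else (bif Nat.ble 54 p then (bif Nat.ble 55 p then (bif Nat.beq p 55 then 6167 else 0) else (bif Nat.beq p 54 then 1990 else 0)) else (bif Nat.ble 53 p then (bif Nat.beq p 53 then 1532 else 0) else (bif Nat.beq p 52 then 5472 else 0)))) else (bif Nat.ble 35 p then (bif Nat.ble 37 p then (bif Nat.ble 51 p then (bif Nat.beq p 51 then 618 else 0) else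 (bif Nat.beq p 37 then 4283 else 0)) else (bif Nat.ble 36 p then (bif Nat.beq p 36 then 933 else 0) else (bif Nat.beq p 35 then 6091 else 0))) else (bif Nat.ble 24 p then (bif Nat.ble 25 p then (bif Nat.beq p 25 then 899 else 0) else (bif Nat.beq p 24 then 3278 else 0)) else (bif Nat.ble 17 p then (bif Nat.beq p 17 then 1265 else 0) else (bif Nat.beq p 12 then 4791 else 0)))))))))))

/-- The code of the parent of a point. -/
def parT (p : Nat) : Nat := (bif Nat.ble 6031 p then (bif Nat.ble 13636 p then (bif Nat.ble 22556 p then (bif Nat.ble 36797 p then (bif Nat.ble 46571 p then (bif Nat.ble 46588 p then (bif Nat.ble 58406 p then (bif Nat.ble 58410 p then (bif Nat.ble 72451 p then (bif Nat.ble 72452 p then (bif Nat.ble 72453 p then 70004526 else 50004493) else 20058408) else (bif Nat.ble 72450 p then 50013594 else 70017528)) else (bif Nat.ble 58408 p then (bif Nat.ble 58409 p then 46584 else 30010521) else (bif Nat.ble 58407 p then 50002401 else 60013608))) else (bif Nat.ble 58402 p then (bif Nat.ble 58404 p then (bif Nat.ble 58405 p then 30006027 else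 30006015) else (bif Nat.ble 58403 p then 10010520 else 70010475)) else (bif Nat.ble 58400 p then (bif Nat.ble 58401 p then 40000081 else 70010469) else (bif Nat.ble 46589 p then 20028886 else 20028887)))) else (bif Nat.ble 46579 p then (bif Nat.ble 46583 p then (bif Nat.ble 46585 p then (bif Nat.ble 46586 p then (bif Nat.ble 46587 p then 20028878 else 20017578) else 20036804) else (bif Nat.ble 46584 p then 20058404 else 30013650)) else (bif Nat.ble 46581 p then (bif Nat.ble 46582 p then 50003265 else 70006009) else (bif Nat.ble 46580 p then 70008082 else 70022580))) else (bif Nat.ble 46575 p then (bif Nat.ble 46577 p then (bif Nat.ble 46578 p then 70008049 else 30013660) else (bif Nat.ble 46576 p then 36807 else 50017539)) else (bif Nat.ble 46573 p then (bif Nat.ble 46574 p then 70022527 else 30022529) else (bif Nat.ble 46572 p then 70036796 else 30022541))))) else (bif Nat.ble 36814 p then (bif Nat.ble 36822 p then (bif Nat.ble 36826 p then (bif Nat.ble 46568 p then (bif Nat.ble 46569 p then (bif Nat.ble 46570 p then 20017547 else 60000373) else 20036808)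 else (bif Nat.ble 46567 p then 60010484 else 20028867)) else (bif Nat.ble 36824 p then (bif Nat.ble 36825 p then 10006038 else 60008049) else (bif Nat.ble 36823 p then 46568 else 46586))) else (bif Nat.ble 36818 p then (bif Nat.ble 36820 p then (bif Nat.ble 36821 p then 10013681 else 70008002) else (bif Nat.ble 36819 p then 30000965 else 10008002)) else (bif Nat.ble 36816 p then (bif Nat.ble 36817 p then 30017590 else 30017581) else (bif Nat.ble 36815 p then 28896 else 70013619)))) else (bif Nat.ble 36805 p then (bif Nat.ble 36809 p then (bif Nat.ble 36811 p then (bif Nat.ble 36812 p then (bif Nat.ble 36813 p then 70022534 else 40003259) else 70010575) else (bif Nat.ble 36810 p then 70017597 else 70010550)) else (bif Nat.ble 36807 p then (bif Nat.ble 36808 p then 30010536 else 60000512) else (bif Nat.ble 36806 p then 60006024 else 10022575))) else (bif Nat.ble 36801 p then (bif Nat.ble 36803 p then (bif Nat.ble 36804 p then 30006003 else 20022570) else (bif Nat.ble 36802 p then 70002419 else 30006004)) else (bif Nat.ble 36799 p then (bif Nat.ble 36800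 p then 50007995 else 40001801) else (bif Nat.ble 36798 p then 70022546 else 70010490)))))) else (bif Nat.ble 28872 p then (bif Nat.ble 28889 p then (bif Nat.ble 28899 p then (bif Nat.ble 28904 p then (bif Nat.ble 28906 p then (bif Nat.ble 36795 p then (bif Nat.ble 36796 p then 20017597 else 30003272) else 60028879) else (bif Nat.ble 28905 p then 70001776 else 70017547)) else (bif Nat.ble 28901 p then (bif Nat.ble 28902 p then 60004460 else 70013617) else (bif Nat.ble 28900 p then 70017535 else 40008064))) else (bif Nat.ble 28894 p then (bif Nat.ble 28896 p then (bif Nat.ble 28897 p then 70017556 else 20046571) else (bif Nat.ble 28895 p then 20046576 else 20046577)) else (bif Nat.ble 28891 p then (bif Nat.ble 28893 p then 70007987 else 30013620) else (bif Nat.ble 28890 p then 70007999 else 30000718)))) else (bif Nat.ble 28880 p then (bif Nat.ble 28884 p then (bif Nat.ble 28886 p then (bif Nat.ble 28887 p then (bif Nat.ble 28888 p then 10010551 else 30022555) else 30022543) else (bif Nat.ble 28885 p then 30036813 else 20010505)) else (bif Nat.ble 28882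 p then (bif Nat.ble 28883 p then 60001781 else 22550) else (bif Nat.ble 28881 p then 40001346 else 40017585))) else (bif Nat.ble 28876 p then (bif Nat.ble 28878 p then (bif Nat.ble 28879 p then 10006024 else 30022560) else (bif Nat.ble 28877 p then 60007994 else 10010571)) else (bif Nat.ble 28874 p then (bif Nat.ble 28875 p then 30007993 else 36803) else (bif Nat.ble 28873 p then 22540 else 50010534))))) else (bif Nat.ble 22575 p then (bif Nat.ble 28863 p then (bif Nat.ble 28867 p then (bif Nat.ble 28869 p then (bif Nat.ble 28870 p then (bif Nat.ble 28871 p then 60003289 else 70008021) else 10058409) else (bif Nat.ble 28868 p then 70006002 else 22581)) else (bif Nat.ble 28865 p then (bif Nat.ble 28866 p then 40000526 else 20036819) else (bif Nat.ble 28864 p then 50028869 else 10005983))) else (bif Nat.ble 22581 p then (bif Nat.ble 22583 p then (bif Nat.ble 28862 p then 70004451 else 20017531) else (bif Nat.ble 22582 p then 28866 else 60002414)) else (bif Nat.ble 22577 p then (bif Nat.ble 22580 p then 60004442 else 30017557) else (bif Nat.ble 22576 p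 then 10013606 else 28865)))) else (bif Nat.ble 22565 p then (bif Nat.ble 22571 p then (bif Nat.ble 22573 p then (bif Nat.ble 22574 p then 30028890 else 28894) else (bif Nat.ble 22572 p then 60017528 else 40010570)) else (bif Nat.ble 22567 p then (bif Nat.ble 22570 p then 30017582 else 28881) else (bif Nat.ble 22566 p then 30028893 else 40001771))) else (bif Nat.ble 22560 p then (bif Nat.ble 22563 p then (bif Nat.ble 22564 p then 70006038 else 30028895) else (bif Nat.ble 22562 p then 17568 else 70010501)) else (bif Nat.ble 22558 p then (bif Nat.ble 22559 p then 20013613 else 40001796) else (bif Nat.ble 22557 p then 40001311 else 20008012))))))) else (bif Nat.ble 17554 p then (bif Nat.ble 17598 p then (bif Nat.ble 22539 p then (bif Nat.ble 22547 p then (bif Nat.ble 22551 p then (bif Nat.ble 22553 p then (bif Nat.ble 22554 p then (bif Nat.ble 22555 p then 70004468 else 70010494) else 30028900) else (bif Nat.ble 22552 p then 28884 else 28883)) else (bif Nat.ble 22549 p then (bif Nat.ble 22550 p then 40000250 else 17550) else (bif Nat.ble 22548 p then 17549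 else 30017589))) else (bif Nat.ble 22543 p then (bif Nat.ble 22545 p then (bif Nat.ble 22546 p then 60017553 else 17570) else (bif Nat.ble 22544 p then 70013606 else 70000719)) else (bif Nat.ble 22541 p then (bif Nat.ble 22542 p then 10010523 else 70001788) else (bif Nat.ble 22540 p then 20046573 else 50008030)))) else (bif Nat.ble 22530 p then (bif Nat.ble 22534 p then (bif Nat.ble 22536 p then (bif Nat.ble 22537 p then (bif Nat.ble 22538 p then 28871 else 70010527) else 17537) else (bif Nat.ble 22535 p then 70004476 else 60002419)) else (bif Nat.ble 22532 p then (bif Nat.ble 22533 p then 40036822 else 70046570) else (bif Nat.ble 22531 p then 70004449 else 30007970))) else (bif Nat.ble 22526 p then (bif Nat.ble 22528 p then (bif Nat.ble 22529 p then 70028906 else 70072452) else (bif Nat.ble 22527 p then 40004509 else 60017577)) else (bif Nat.ble 17600 p then (bif Nat.ble 17602 p then 50001796 else 70010481) else (bif Nat.ble 17599 p then 30010463 else 70003274))))) else (bif Nat.ble 17576 p then (bif Nat.ble 17584 p then (bif Nat.ble 17589 p then (bif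 Nat.ble 17595 p then (bif Nat.ble 17596 p then (bif Nat.ble 17597 p then 22580 else 20008031) else 10013588) else (bif Nat.ble 17590 p then 70006023 else 70007994)) else (bif Nat.ble 17586 p then (bif Nat.ble 17588 p then 30022564 else 22556) else (bif Nat.ble 17585 p then 13651 else 13683))) else (bif Nat.ble 17580 p then (bif Nat.ble 17582 p then (bif Nat.ble 17583 p then 60001791 else 70005991) else (bif Nat.ble 17581 p then 70000966 else 22571)) else (bif Nat.ble 17578 p then (bif Nat.ble 17579 p then 10028873 else 30013643) else (bif Nat.ble 17577 p then 13638 else 60003260)))) else (bif Nat.ble 17562 p then (bif Nat.ble 17568 p then (bif Nat.ble 17570 p then (bif Nat.ble 17571 p then (bif Nat.ble 17575 p then 70010576 else 70022545) else 40002401) else (bif Nat.ble 17569 p then 60001775 else 20028889)) else (bif Nat.ble 17566 p then (bif Nat.ble 17567 p then 13628 else 40001795) else (bif Nat.ble 17563 p then 22559 else 22558))) else (bif Nat.ble 17558 p then (bif Nat.ble 17560 p then (bif Nat.ble 17561 p then 60022567 else 40017547) else (bif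 Nat.ble 17559 p then 70010477 else 13621)) else (bif Nat.ble 17556 p then (bif Nat.ble 17557 p then 70000513 else 20010527) else (bif Nat.ble 17555 p then 70036807 else 40046570)))))) else (bif Nat.ble 13679 p then (bif Nat.ble 17537 p then (bif Nat.ble 17545 p then (bif Nat.ble 17549 p then (bif Nat.ble 17551 p then (bif Nat.ble 17552 p then (bif Nat.ble 17553 p then 40001328 else 30003262) else 30058402) else (bif Nat.ble 17550 p then 20028891 else 20010496)) else (bif Nat.ble 17547 p then (bif Nat.ble 17548 p then 30022554 else 22546) else (bif Nat.ble 17546 p then 50006073 else 40036796))) else (bif Nat.ble 17541 p then (bif Nat.ble 17543 p then (bif Nat.ble 17544 p then 70004469 else 70013645) else (bif Nat.ble 17542 p then 20017588 else 20028885)) else (bif Nat.ble 17539 p then (bif Nat.ble 17540 p then 10008015 else 10003261) else (bif Nat.ble 17538 p then 10022562 else 60004518)))) else (bif Nat.ble 17528 p then (bif Nat.ble 17532 p then (bif Nat.ble 17534 p then (bif Nat.ble 17535 p then (bif Nat.ble 17536 p then 70006035 else 22534) else 70008010)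 else (bif Nat.ble 17533 p then 20007979 else 20022582)) else (bif Nat.ble 17530 p then (bif Nat.ble 17531 p then 30007984 else 70028888) else (bif Nat.ble 17529 p then 60008022 else 10006035))) else (bif Nat.ble 13683 p then (bif Nat.ble 17526 p then (bif Nat.ble 17527 p then 70003302 else 30046570) else (bif Nat.ble 17525 p then 50022571 else 40000533)) else (bif Nat.ble 13681 p then (bif Nat.ble 13682 p then 60004485 else 10563) else (bif Nat.ble 13680 p then 30001337 else 40003260))))) else (bif Nat.ble 13655 p then (bif Nat.ble 13669 p then (bif Nat.ble 13674 p then (bif Nat.ble 13676 p then (bif Nat.ble 13677 p then (bif Nat.ble 13678 p then 10560 else 20004505) else 10576) else (bif Nat.ble 13675 p then 70000268 else 10001812)) else (bif Nat.ble 13672 p then (bif Nat.ble 13673 p then 50000533 else 70036818) else (bif Nat.ble 13670 p then 17554 else 10544))) else (bif Nat.ble 13662 p then (bif Nat.ble 13664 p then (bif Nat.ble 13665 p then 17541 else 17596) else (bif Nat.ble 13663 p then 30010479 else 10001791)) else (bif Nat.ble 13660 p then (bif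 Nat.ble 13661 p then 70003295 else 70005980) else (bif Nat.ble 13659 p then 70046582 else 70017570)))) else (bif Nat.ble 13645 p then (bif Nat.ble 13651 p then (bif Nat.ble 13653 p then (bif Nat.ble 13654 p then 17553 else 60010502) else (bif Nat.ble 13652 p then 30004434 else 20013614)) else (bif Nat.ble 13649 p then (bif Nat.ble 13650 p then 70017545 else 10519) else (bif Nat.ble 13648 p then 70022581 else 40001333))) else (bif Nat.ble 13641 p then (bif Nat.ble 13643 p then (bif Nat.ble 13644 p then 70046576 else 70004445) else (bif Nat.ble 13642 p then 20008060 else 20010545)) else (bif Nat.ble 13638 p then (bif Nat.ble 13640 p then 30001325 else 20022577) else (bif Nat.ble 13637 p then 10022549 else 60010571)))))))) else (bif Nat.ble 10463 p then (bif Nat.ble 10545 p then (bif Nat.ble 13598 p then (bif Nat.ble 13615 p then (bif Nat.ble 13624 p then (bif Nat.ble 13628 p then (bif Nat.ble 13633 p then (bif Nat.ble 13634 p then (bif Nat.ble 13635 p then 70013676 else 50010570) else 20007985) else (bif Nat.ble 13629 p then 20022576 else 20022553)) else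 (bif Nat.ble 13626 p then (bif Nat.ble 13627 p then 70010528 else 17566) else (bif Nat.ble 13625 p then 30017536 else 50000265))) else (bif Nat.ble 13619 p then (bif Nat.ble 13621 p then (bif Nat.ble 13622 p then 70008029 else 20008004) else (bif Nat.ble 13620 p then 70000372 else 17556)) else (bif Nat.ble 13617 p then (bif Nat.ble 13618 p then 20010517 else 50010527) else (bif Nat.ble 13616 p then 20004462 else 10510)))) else (bif Nat.ble 13606 p then (bif Nat.ble 13610 p then (bif Nat.ble 13612 p then (bif Nat.ble 13613 p then (bif Nat.ble 13614 p then 30006032 else 30010538) else 60028882) else (bif Nat.ble 13611 p then 20006039 else 40006073)) else (bif Nat.ble 13608 p then (bif Nat.ble 13609 p then 20022567 else 17545) else (bif Nat.ble 13607 p then 70006024 else 10481))) else (bif Nat.ble 13602 p then (bif Nat.ble 13604 p then (bif Nat.ble 13605 p then 10013670 else 30006040) else (bif Nat.ble 13603 p then 10537 else 70006017)) else (bif Nat.ble 13600 p then (bif Nat.ble 13601 p then 60010528 else 60008026) else (bif Nat.ble 13599 p then 70010516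 else 17533))))) else (bif Nat.ble 10567 p then (bif Nat.ble 13589 p then (bif Nat.ble 13593 p then (bif Nat.ble 13595 p then (bif Nat.ble 13596 p then (bif Nat.ble 13597 p then 40000378 else 20017599) else 50004499) else (bif Nat.ble 13594 p then 10004475 else 30001315)) else (bif Nat.ble 13591 p then (bif Nat.ble 13592 p then 40002464 else 70002427) else (bif Nat.ble 13590 p then 30036814 else 60002421))) else (bif Nat.ble 10572 p then (bif Nat.ble 10576 p then (bif Nat.ble 13588 p then 10464 else 20008021) else (bif Nat.ble 10575 p then 20004526 else 70000369)) else (bif Nat.ble 10570 p then (bif Nat.ble 10571 p then 13642 else 10004496) else (bif Nat.ble 10568 p then 20006060 else 8073)))) else (bif Nat.ble 10557 p then (bif Nat.ble 10561 p then (bif Nat.ble 10563 p then (bif Nat.ble 10565 p then (bif Nat.ble 10566 p then 30001772 else 60000250) else 20017552) else (bif Nat.ble 10562 p then 30001807 else 40022552)) else (bif Nat.ble 10559 p then (bif Nat.ble 10560 p then 20010554 else 8059) else (bif Nat.ble 10558 p then 70006070 else 70002459)))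 else (bif Nat.ble 10553 p then (bif Nat.ble 10555 p then (bif Nat.ble 10556 p then 20003314 else 70036826) else (bif Nat.ble 10554 p then 30002429 else 8075)) else (bif Nat.ble 10551 p then (bif Nat.ble 10552 p then 60003346 else 50003311) else (bif Nat.ble 10550 p then 8049 else 30013661)))))) else (bif Nat.ble 10497 p then (bif Nat.ble 10520 p then (bif Nat.ble 10533 p then (bif Nat.ble 10537 p then (bif Nat.ble 10542 p then (bif Nat.ble 10543 p then (bif Nat.ble 10544 p then 60003275 else 8040) else 30036820) else (bif Nat.ble 10538 p then 70004481 else 20013625)) else (bif Nat.ble 10535 p then (bif Nat.ble 10536 p then 70007969 else 70058407) else (bif Nat.ble 10534 p then 8030 else 20004473))) else (bif Nat.ble 10524 p then (bif Nat.ble 10527 p then (bif Nat.ble 10528 p then 13645 else 10028867) else (bif Nat.ble 10525 p then 20004470 else 30036811)) else (bif Nat.ble 10522 p then (bif Nat.ble 10523 p then 8076 else 70000978) else (bif Nat.ble 10521 p then 70013608 else 13612)))) else (bif Nat.ble 10508 p then (bif Nat.ble 10512 p then (bif Nat.ble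 10517 p then (bif Nat.ble 10518 p then (bif Nat.ble 10519 p then 40003265 else 70028867) else 30036809) else (bif Nat.ble 10516 p then 60001779 else 70002416)) else (bif Nat.ble 10510 p then (bif Nat.ble 10511 p then 13641 else 20006001) else (bif Nat.ble 10509 p then 30001769 else 30004467))) else (bif Nat.ble 10503 p then (bif Nat.ble 10505 p then (bif Nat.ble 10507 p then 70013595 else 30058410) else (bif Nat.ble 10504 p then 50013674 else 70004464)) else (bif Nat.ble 10501 p then (bif Nat.ble 10502 p then 13633 else 20013606) else (bif Nat.ble 10500 p then 30003300 else 70001317))))) else (bif Nat.ble 10479 p then (bif Nat.ble 10487 p then (bif Nat.ble 10491 p then (bif Nat.ble 10494 p then (bif Nat.ble 10495 p then (bif Nat.ble 10496 p then 30022535 else 50000368) else 40002440) else (bif Nat.ble 10492 p then 60005983 else 13618)) else (bif Nat.ble 10489 p then (bif Nat.ble 10490 p then 50008021 else 13616) else (bif Nat.ble 10488 p then 70022572 else 40000012))) else (bif Nat.ble 10483 p then (bif Nat.ble 10485 p then (bif Nat.ble 10486 p then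 70002405 else 8039) else (bif Nat.ble 10484 p then 8011 else 20004477)) else (bif Nat.ble 10481 p then (bif Nat.ble 10482 p then 60006048 else 40004493) else (bif Nat.ble 10480 p then 30005980 else 70017554)))) else (bif Nat.ble 10471 p then (bif Nat.ble 10475 p then (bif Nat.ble 10477 p then (bif Nat.ble 10478 p then 40004496 else 40017597) else (bif Nat.ble 10476 p then 20004472 else 60006035)) else (bif Nat.ble 10473 p then (bif Nat.ble 10474 p then 40028874 else 40000529) else (bif Nat.ble 10472 p then 70036825 else 30013599))) else (bif Nat.ble 10467 p then (bif Nat.ble 10469 p then (bif Nat.ble 10470 p then 10003290 else 60006017) else (bif Nat.ble 10468 p then 60022549 else 30028897)) else (bif Nat.ble 10465 p then (bif Nat.ble 10466 p then 30004471 else 60001786) else (bif Nat.ble 10464 p then 20013593 else 70001309))))))) else (bif Nat.ble 7992 p then (bif Nat.ble 8037 p then (bif Nat.ble 8060 p then (bif Nat.ble 8072 p then (bif Nat.ble 8076 p then (bif Nat.ble 8081 p then (bif Nat.ble 8082 p then (bif Nat.ble 8083 p then 30003305 else 10575)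 else 50000269) else (bif Nat.ble 8080 p then 70002401 else 20013652)) else (bif Nat.ble 8074 p then (bif Nat.ble 8075 p then 20004501 else 30001338) else (bif Nat.ble 8073 p then 60000170 else 6073))) else (bif Nat.ble 8065 p then (bif Nat.ble 8067 p then (bif Nat.ble 8071 p then 50022582 else 40000370) else (bif Nat.ble 8066 p then 6080 else 10556)) else (bif Nat.ble 8063 p then (bif Nat.ble 8064 p then 10565 else 6065) else (bif Nat.ble 8062 p then 6064 else 30000363)))) else (bif Nat.ble 8051 p then (bif Nat.ble 8055 p then (bif Nat.ble 8057 p then (bif Nat.ble 8058 p then (bif Nat.ble 8059 p then 20013674 else 70004505) else 70003341) else (bif Nat.ble 8056 p then 30003351 else 10006089)) else (bif Nat.ble 8053 p then (bif Nat.ble 8054 p then 60000054 else 20013680) else (bif Nat.ble 8052 p then 30001312 else 60002459))) else (bif Nat.ble 8043 p then (bif Nat.ble 8049 p then (bif Nat.ble 8050 p then 30017534 else 10002419) else (bif Nat.ble 8048 p then 70002397 else 30017598)) else (bif Nat.ble 8039 p then (bif Nat.ble 8040 p then 20017551 else 20010508)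 else (bif Nat.ble 8038 p then 30046581 else 30017600))))) else (bif Nat.ble 8013 p then (bif Nat.ble 8022 p then (bif Nat.ble 8028 p then (bif Nat.ble 8030 p then (bif Nat.ble 8031 p then (bif Nat.ble 8036 p then 70022539 else 30010486) else 20017539) else (bif Nat.ble 8029 p then 40006077 else 10533)) else (bif Nat.ble 8026 p then (bif Nat.ble 8027 p then 60003274 else 50000081) else (bif Nat.ble 8023 p then 30046580 else 10525))) else (bif Nat.ble 8017 p then (bif Nat.ble 8020 p then (bif Nat.ble 8021 p then 10017547 else 60028872) else (bif Nat.ble 8019 p then 70022576 else 60006038)) else (bif Nat.ble 8015 p then (bif Nat.ble 8016 p then 70001308 else 6081) else (bif Nat.ble 8014 p then 10022552 else 40004499)))) else (bif Nat.ble 8002 p then (bif Nat.ble 8008 p then (bif Nat.ble 8010 p then (bif Nat.ble 8011 p then (bif Nat.ble 8012 p then 30046578 else 20004459) else 10017535) else (bif Nat.ble 8009 p then 70036824 else 10036822)) else (bif Nat.ble 8004 p then (bif Nat.ble 8005 p then 20013654 else 30003286) else (bif Nat.ble 8003 p then 70010551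 else 50013676))) else (bif Nat.ble 7997 p then (bif Nat.ble 7999 p then (bif Nat.ble 8000 p then 20022547 else 20022545) else (bif Nat.ble 7998 p then 30004432 else 70017560)) else (bif Nat.ble 7994 p then (bif Nat.ble 7995 p then 10017577 else 10494) else (bif Nat.ble 7993 p then 70000373 else 20013649)))))) else (bif Nat.ble 6077 p then (bif Nat.ble 7975 p then (bif Nat.ble 7983 p then (bif Nat.ble 7987 p then (bif Nat.ble 7989 p then (bif Nat.ble 7990 p then (bif Nat.ble 7991 p then 70028895 else 0) else 30006093) else (bif Nat.ble 7988 p then 20013640 else 50017556)) else (bif Nat.ble 7985 p then (bif Nat.ble 7986 p then 30000519 else 30010472) else (bif Nat.ble 7984 p then 70013670 else 20003273))) else (bif Nat.ble 7979 p then (bif Nat.ble 7981 p then (bif Nat.ble 7982 p then 60013662 else 10003283) else (bif Nat.ble 7980 p then 20004431 else 30005994)) else (bif Nat.ble 7977 p then (bif Nat.ble 7978 p then 40022538 else 60000372) else (bif Nat.ble 7976 p then 20004487 else 50013610)))) else (bif Nat.ble 6090 p then (bif Nat.ble 7970 p then (bif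 Nat.ble 7972 p then (bif Nat.ble 7973 p then (bif Nat.ble 7974 p then 60028873 else 30003288) else 70022563) else (bif Nat.ble 7971 p then 70013649 else 70000979)) else (bif Nat.ble 7968 p then (bif Nat.ble 7969 p then 5980 else 30013672) else (bif Nat.ble 6093 p then 70006031 else 50000370))) else (bif Nat.ble 6086 p then (bif Nat.ble 6088 p then (bif Nat.ble 6089 p then 8053 else 70003265) else (bif Nat.ble 6087 p then 4525 else 4523)) else (bif Nat.ble 6080 p then (bif Nat.ble 6081 p then 20004465 else 20008083) else (bif Nat.ble 6078 p then 40000518 else 4516))))) else (bif Nat.ble 6057 p then (bif Nat.ble 6066 p then (bif Nat.ble 6072 p then (bif Nat.ble 6074 p then (bif Nat.ble 6075 p then (bif Nat.ble 6076 p then 50017579 else 50028882) else 60013609) else (bif Nat.ble 6073 p then 20010570 else 30001773)) else (bif Nat.ble 6070 p then (bif Nat.ble 6071 p then 50028866 else 30004499) else (bif Nat.ble 6069 p then 60000012 else 70000531))) else (bif Nat.ble 6061 p then (bif Nat.ble 6064 p then (bif Nat.ble 6065 p then 20010562 else 60000254) else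 (bif Nat.ble 6063 p then 70010568 else 20010566)) else (bif Nat.ble 6059 p then (bif Nat.ble 6060 p then 30002464 else 10002458) else (bif Nat.ble 6058 p then 20004503 else 60000081)))) else (bif Nat.ble 6044 p then (bif Nat.ble 6050 p then (bif Nat.ble 6055 p then (bif Nat.ble 6056 p then 70008056 else 70000995) else (bif Nat.ble 6051 p then 10017563 else 70003261)) else (bif Nat.ble 6048 p then (bif Nat.ble 6049 p then 30017543 else 4486) else (bif Nat.ble 6045 p then 30022531 else 60003282))) else (bif Nat.ble 6037 p then (bif Nat.ble 6039 p then (bif Nat.ble 6040 p then 20013669 else 30022544) else (bif Nat.ble 6038 p then 50013619 else 70028872)) else (bif Nat.ble 6035 p then (bif Nat.ble 6036 p then 60003279 else 50000054) else (bif Nat.ble 6032 p then 70010470 else 60013670))))))))) else (bif Nat.ble 1812 p then (bif Nat.ble 3341 p then (bif Nat.ble 4504 p then (bif Nat.ble 5992 p then (bif Nat.ble 6009 p then (bif Nat.ble 6019 p then (bif Nat.ble 6025 p then (bif Nat.ble 6027 p then (bif Nat.ble 6029 p then (bif Nat.ble 6030 p then 50000118 else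 30007972) else 70001779) else (bif Nat.ble 6026 p then 60008002 else 70028879)) else (bif Nat.ble 6023 p then (bif Nat.ble 6024 p then 4469 else 30000979) else (bif Nat.ble 6020 p then 20008023 else 10013603))) else (bif Nat.ble 6014 p then (bif Nat.ble 6017 p then (bif Nat.ble 6018 p then 70017562 else 4464) else (bif Nat.ble 6015 p then 70000714 else 70046569)) else (bif Nat.ble 6012 p then (bif Nat.ble 6013 p then 10013598 else 20007989) else (bif Nat.ble 6010 p then 20010520 else 50010576)))) else (bif Nat.ble 6000 p then (bif Nat.ble 6004 p then (bif Nat.ble 6006 p then (bif Nat.ble 6007 p then (bif Nat.ble 6008 p then 30008009 else 70006078) else 70022557) else (bif Nat.ble 6005 p then 60036825 else 70003347)) else (bif Nat.ble 6002 p then (bif Nat.ble 6003 p then 70000514 else 60001308) else (bif Nat.ble 6001 p then 30004531 else 50001813))) else (bif Nat.ble 5996 p then (bif Nat.ble 5998 p then (bif Nat.ble 5999 p then 70017602 else 70010466) else (bif Nat.ble 5997 p then 70058406 else 20010500)) else (bif Nat.ble 5994 p then (bif Nat.ble 5995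 p then 7983 else 70000972) else (bif Nat.ble 5993 p then 50001346 else 70010519))))) else (bif Nat.ble 4526 p then (bif Nat.ble 5980 p then (bif Nat.ble 5987 p then (bif Nat.ble 5989 p then (bif Nat.ble 5990 p then (bif Nat.ble 5991 p then 60013676 else 60028876) else 20008050) else (bif Nat.ble 5988 p then 70000715 else 20013590)) else (bif Nat.ble 5984 p then (bif Nat.ble 5986 p then 70017569 else 60007995) else (bif Nat.ble 5983 p then 4435 else 20010470))) else (bif Nat.ble 4536 p then (bif Nat.ble 5978 p then (bif Nat.ble 5979 p then 30017530 else 30017544) else (bif Nat.ble 4538 p then 30010488 else 70022558)) else (bif Nat.ble 4531 p then (bif Nat.ble 4535 p then 70004457 else 70008027) else (bif Nat.ble 4530 p then 20001806 else 10017597)))) else (bif Nat.ble 4515 p then (bif Nat.ble 4521 p then (bif Nat.ble 4523 p then (bif Nat.ble 4524 p then (bif Nat.ble 4525 p then 60002437 else 70006060) else 40000974) else (bif Nat.ble 4522 p then 3327 else 30000264)) else (bif Nat.ble 4517 p then (bif Nat.ble 4518 p then 10022548 else 50022542) else (bif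 Nat.ble 4516 p then 60001799 else 30006063))) else (bif Nat.ble 4509 p then (bif Nat.ble 4511 p then (bif Nat.ble 4514 p then 70000516 else 20003322) else (bif Nat.ble 4510 p then 50022550 else 3346)) else (bif Nat.ble 4506 p then (bif Nat.ble 4508 p then 50007981 else 40006048) else (bif Nat.ble 4505 p then 30003311 else 0)))))) else (bif Nat.ble 4461 p then (bif Nat.ble 4482 p then (bif Nat.ble 4494 p then (bif Nat.ble 4498 p then (bif Nat.ble 4500 p then (bif Nat.ble 4501 p then (bif Nat.ble 4503 p then 30003316 else 30001800) else 70013677) else (bif Nat.ble 4499 p then 20001796 else 50017532)) else (bif Nat.ble 4496 p then (bif Nat.ble 4497 p then 6058 else 3309) else (bif Nat.ble 4495 p then 10008071 else 60000084))) else (bif Nat.ble 4487 p then (bif Nat.ble 4491 p then (bif Nat.ble 4493 p then 20002401 else 70007973) else (bif Nat.ble 4490 p then 30000261 else 30013627)) else (bif Nat.ble 4485 p then (bif Nat.ble 4486 p then 20005979 else 3299) else (bif Nat.ble 4483 p then 30017532 else 6044)))) else (bif Nat.ble 4470 p then (bif Nat.ble 4475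 p then (bif Nat.ble 4477 p then (bif Nat.ble 4478 p then (bif Nat.ble 4481 p then 60004457 else 20010542) else 6036) else (bif Nat.ble 4476 p then 40000053 else 3291)) else (bif Nat.ble 4472 p then (bif Nat.ble 4473 p then 30003271 else 30005986) else (bif Nat.ble 4471 p then 20001768 else 30046574))) else (bif Nat.ble 4465 p then (bif Nat.ble 4468 p then (bif Nat.ble 4469 p then 40001343 else 30001309) else (bif Nat.ble 4467 p then 70010480 else 30001783)) else (bif Nat.ble 4463 p then (bif Nat.ble 4464 p then 40004526 else 20001782) else (bif Nat.ble 4462 p then 30003280 else 6012))))) else (bif Nat.ble 4444 p then (bif Nat.ble 4452 p then (bif Nat.ble 4456 p then (bif Nat.ble 4458 p then (bif Nat.ble 4459 p then (bif Nat.ble 4460 p then 3281 else 30003287) else 30006014) else (bif Nat.ble 4457 p then 10010528 else 6005)) else (bif Nat.ble 4454 p then (bif Nat.ble 4455 p then 30046572 else 10028874) else (bif Nat.ble 4453 p then 50002457 else 40000084))) else (bif Nat.ble 4448 p then (bif Nat.ble 4450 p then (bif Nat.ble 4451 p then 60007999 else 5984)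 else (bif Nat.ble 4449 p then 40000979 else 40006087)) else (bif Nat.ble 4446 p then (bif Nat.ble 4447 p then 10010511 else 60008082) else (bif Nat.ble 4445 p then 60010534 else 50058403)))) else (bif Nat.ble 4431 p then (bif Nat.ble 4439 p then (bif Nat.ble 4442 p then (bif Nat.ble 4443 p then 60001770 else 50001328) else (bif Nat.ble 4440 p then 30000182 else 70000518)) else (bif Nat.ble 4434 p then (bif Nat.ble 4435 p then 20003303 else 70036806) else (bif Nat.ble 4432 p then 70002418 else 30013607))) else (bif Nat.ble 3347 p then (bif Nat.ble 3352 p then (bif Nat.ble 4430 p then 60022550 else 30007991) else (bif Nat.ble 3351 p then 20001346 else 40010575)) else (bif Nat.ble 3343 p then (bif Nat.ble 3346 p then 10000985 else 30000986) else (bif Nat.ble 3342 p then 20001342 else 30000260))))))) else (bif Nat.ble 2465 p then (bif Nat.ble 3297 p then (bif Nat.ble 3316 p then (bif Nat.ble 3326 p then (bif Nat.ble 3332 p then (bif Nat.ble 3336 p then (bif Nat.ble 3337 p then (bif Nat.ble 3340 p then 70008052 else 60001801) else 70000970) else (bif Nat.ble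 3333 p then 40003283 else 4530)) else (bif Nat.ble 3328 p then (bif Nat.ble 3331 p then 70001311 else 70004493) else (bif Nat.ble 3327 p then 60001811 else 30000367))) else (bif Nat.ble 3321 p then (bif Nat.ble 3323 p then (bif Nat.ble 3325 p then 70001817 else 50058401) else (bif Nat.ble 3322 p then 30004500 else 70000377)) else (bif Nat.ble 3318 p then (bif Nat.ble 3320 p then 2439 else 50036821) else (bif Nat.ble 3317 p then 50006051 else 70000127)))) else (bif Nat.ble 3307 p then (bif Nat.ble 3311 p then (bif Nat.ble 3313 p then (bif Nat.ble 3314 p then (bif Nat.ble 3315 p then 70001811 else 30002436) else 40022575) else (bif Nat.ble 3312 p then 30002440 else 4499)) else (bif Nat.ble 3309 p then (bif Nat.ble 3310 p then 60000035 else 60001797) else (bif Nat.ble 3308 p then 10010567 else 40010491))) else (bif Nat.ble 3302 p then (bif Nat.ble 3305 p then (bif Nat.ble 3306 p then 30000257 else 70008073) else (bif Nat.ble 3303 p then 30000365 else 60017562)) else (bif Nat.ble 3299 p then (bif Nat.ble 3300 p then 70003290 else 40013674) else (bif Nat.ble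 3298 p then 40022573 else 20008043))))) else (bif Nat.ble 3279 p then (bif Nat.ble 3287 p then (bif Nat.ble 3291 p then (bif Nat.ble 3294 p then (bif Nat.ble 3295 p then (bif Nat.ble 3296 p then 30022532 else 4481) else 20001323) else (bif Nat.ble 3292 p then 70046575 else 20007986)) else (bif Nat.ble 3289 p then (bif Nat.ble 3290 p then 2418 else 50000250) else (bif Nat.ble 3288 p then 20003259 else 70013629))) else (bif Nat.ble 3283 p then (bif Nat.ble 3285 p then (bif Nat.ble 3286 p then 70013605 else 10017586) else (bif Nat.ble 3284 p then 70008013 else 4463)) else (bif Nat.ble 3281 p then (bif Nat.ble 3282 p then 40000035 else 40003277) else (bif Nat.ble 3280 p then 70003270 else 10008022)))) else (bif Nat.ble 3270 p then (bif Nat.ble 3274 p then (bif Nat.ble 3276 p then (bif Nat.ble 3277 p then (bif Nat.ble 3278 p then 70000512 else 10022538) else 70017526) else (bif Nat.ble 3275 p then 40000187 else 4449)) else (bif Nat.ble 3272 p then (bif Nat.ble 3273 p then 30036802 else 70007992) else (bif Nat.ble 3271 p then 70000716 else 50003308))) else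 (bif Nat.ble 3262 p then (bif Nat.ble 3266 p then (bif Nat.ble 3269 p then 70013604 else 70000382) else (bif Nat.ble 3265 p then 10006087 else 70028877)) else (bif Nat.ble 3260 p then (bif Nat.ble 3261 p then 2397 else 2425) else (bif Nat.ble 3259 p then 4430 else 60013592)))))) else (bif Nat.ble 2424 p then (bif Nat.ble 2442 p then (bif Nat.ble 2453 p then (bif Nat.ble 2458 p then (bif Nat.ble 2460 p then (bif Nat.ble 2463 p then (bif Nat.ble 2464 p then 3351 else 60006060) else 50004447) else (bif Nat.ble 2459 p then 30000187 else 3342)) else (bif Nat.ble 2455 p then (bif Nat.ble 2457 p then 10010553 else 60006089) else (bif Nat.ble 2454 p then 70006072 else 20000991))) else (bif Nat.ble 2447 p then (bif Nat.ble 2450 p then (bif Nat.ble 2451 p then 70001313 else 40010502) else (bif Nat.ble 2448 p then 70013601 else 60000268)) else (bif Nat.ble 2445 p then (bif Nat.ble 2446 p then 70000989 else 60004506) else (bif Nat.ble 2443 p then 60000265 else 70002463)))) else (bif Nat.ble 2433 p then (bif Nat.ble 2437 p then (bif Nat.ble 2439 p then (bif Nat.ble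 2440 p then (bif Nat.ble 2441 p then 20000968 else 20006077) else 20003343) else (bif Nat.ble 2438 p then 50013654 else 10002438)) else (bif Nat.ble 2435 p then (bif Nat.ble 2436 p then 70000179 else 60004497) else (bif Nat.ble 2434 p then 40010543 else 30003315))) else (bif Nat.ble 2429 p then (bif Nat.ble 2431 p then (bif Nat.ble 2432 p then 30003328 else 60001771) else (bif Nat.ble 2430 p then 60000376 else 70010567)) else (bif Nat.ble 2426 p then (bif Nat.ble 2427 p then 60022545 else 20001321) else (bif Nat.ble 2425 p then 20007968 else 40010553))))) else (bif Nat.ble 2407 p then (bif Nat.ble 2415 p then (bif Nat.ble 2419 p then (bif Nat.ble 2421 p then (bif Nat.ble 2422 p then (bif Nat.ble 2423 p then 60010487 else 10008028) else 3294) else (bif Nat.ble 2420 p then 20000967 else 50000170)) else (bif Nat.ble 2417 p then (bif Nat.ble 2418 p then 60008005 else 20002396) else (bif Nat.ble 2416 p then 40008021 else 10005995))) else (bif Nat.ble 2411 p then (bif Nat.ble 2413 p then (bif Nat.ble 2414 p then 40000268 else 30003284) else (bif Nat.ble 2412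 p then 20006008 else 60036818)) else (bif Nat.ble 2409 p then (bif Nat.ble 2410 p then 30028862 else 60022548) else (bif Nat.ble 2408 p then 50004518 else 30010555)))) else (bif Nat.ble 2397 p then (bif Nat.ble 2401 p then (bif Nat.ble 2405 p then (bif Nat.ble 2406 p then 70002414 else 60013619) else (bif Nat.ble 2404 p then 30022528 else 10000518)) else (bif Nat.ble 2399 p then (bif Nat.ble 2400 p then 20000727 else 20000720) else (bif Nat.ble 2398 p then 20004490 else 60013654))) else (bif Nat.ble 1817 p then (bif Nat.ble 1819 p then (bif Nat.ble 2396 p then 30013635 else 20004538) else (bif Nat.ble 1818 p then 10000728 else 60000123)) else (bif Nat.ble 1814 p then (bif Nat.ble 1816 p then 70003327 else 70003312) else (bif Nat.ble 1813 p then 10004497 else 1341)))))))) else (bif Nat.ble 716 p then (bif Nat.ble 1322 p then (bif Nat.ble 1777 p then (bif Nat.ble 1794 p then (bif Nat.ble 1802 p then (bif Nat.ble 1806 p then (bif Nat.ble 1808 p then (bif Nat.ble 1810 p then (bif Nat.ble 1811 p then 20002459 else 2453) else 40017586) else (bif Nat.ble 1807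 p then 70000054 else 30001331)) else (bif Nat.ble 1804 p then (bif Nat.ble 1805 p then 60000377 else 2445) else (bif Nat.ble 1803 p then 60003323 else 20004521))) else (bif Nat.ble 1798 p then (bif Nat.ble 1800 p then (bif Nat.ble 1801 p then 2441 else 70000723) else (bif Nat.ble 1799 p then 50017553 else 60003332)) else (bif Nat.ble 1796 p then (bif Nat.ble 1797 p then 10006075 else 10006077) else (bif Nat.ble 1795 p then 20004496 else 20004440)))) else (bif Nat.ble 1785 p then (bif Nat.ble 1789 p then (bif Nat.ble 1791 p then (bif Nat.ble 1792 p then (bif Nat.ble 1793 p then 60000179 else 50000710) else 2398) else (bif Nat.ble 1790 p then 2426 else 30017575)) else (bif Nat.ble 1787 p then (bif Nat.ble 1788 p then 60013605 else 0) else (bif Nat.ble 1786 p then 2420 else 70017539))) else (bif Nat.ble 1781 p then (bif Nat.ble 1783 p then (bif Nat.ble 1784 p then 40036823 else 70001775) else (bif Nat.ble 1782 p then 30002448 else 20004460)) else (bif Nat.ble 1779 p then (bif Nat.ble 1780 p then 60017579 else 40010568) else (bif Nat.ble 1778 p then 50000526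 else 60017585))))) else (bif Nat.ble 1339 p then (bif Nat.ble 1348 p then (bif Nat.ble 1771 p then (bif Nat.ble 1773 p then (bif Nat.ble 1775 p then (bif Nat.ble 1776 p then 40003261 else 10000372) else 20000529) else (bif Nat.ble 1772 p then 70000993 else 2400)) else (bif Nat.ble 1769 p then (bif Nat.ble 1770 p then 2399 else 70008030) else (bif Nat.ble 1768 p then 1324 else 30003276))) else (bif Nat.ble 1343 p then (bif Nat.ble 1345 p then (bif Nat.ble 1346 p then 10000529 else 40000180) else (bif Nat.ble 1344 p then 70004522 else 20000518)) else (bif Nat.ble 1341 p then (bif Nat.ble 1342 p then 30000381 else 60006075) else (bif Nat.ble 1340 p then 70001328 else 30008058)))) else (bif Nat.ble 1330 p then (bif Nat.ble 1334 p then (bif Nat.ble 1336 p then (bif Nat.ble 1337 p then (bif Nat.ble 1338 p then 70001343 else 70000078) else 70001333) else (bif Nat.ble 1335 p then 60000177 else 1803)) else (bif Nat.ble 1332 p then (bif Nat.ble 1333 p then 20001311 else 50000974) else (bif Nat.ble 1331 p then 70000173 else 40022562))) else (bif Nat.ble 1326 p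 then (bif Nat.ble 1328 p then (bif Nat.ble 1329 p then 40022551 else 30000250) else (bif Nat.ble 1327 p then 70008054 else 50000523)) else (bif Nat.ble 1324 p then (bif Nat.ble 1325 p then 70010534 else 60058401) else (bif Nat.ble 1323 p then 30001316 else 20001310)))))) else (bif Nat.ble 978 p then (bif Nat.ble 995 p then (bif Nat.ble 1313 p then (bif Nat.ble 1317 p then (bif Nat.ble 1319 p then (bif Nat.ble 1320 p then (bif Nat.ble 1321 p then 30004535 else 60058409) else 10010491) else (bif Nat.ble 1318 p then 70004448 else 60013649)) else (bif Nat.ble 1315 p then (bif Nat.ble 1316 p then 70007977 else 70008017) else (bif Nat.ble 1314 p then 60013626 else 60000985))) else (bif Nat.ble 1309 p then (bif Nat.ble 1311 p then (bif Nat.ble 1312 p then 20001334 else 989) else (bif Nat.ble 1310 p then 30008003 else 20003290)) else (bif Nat.ble 997 p then (bif Nat.ble 1308 p then 40006060 else 60010553) else (bif Nat.ble 996 p then 733 else 60010568)))) else (bif Nat.ble 986 p then (bif Nat.ble 990 p then (bif Nat.ble 992 p then (bif Nat.ble 993 p then (bif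 Nat.ble 994 p then 30000115 else 20000970) else 40008014) else (bif Nat.ble 991 p then 30000530 else 30010558)) else (bif Nat.ble 988 p then (bif Nat.ble 989 p then 60001328 else 60013679) else (bif Nat.ble 987 p then 60000258 else 70000170))) else (bif Nat.ble 982 p then (bif Nat.ble 984 p then (bif Nat.ble 985 p then 50008005 else 50003279) else (bif Nat.ble 983 p then 70002440 else 60002450)) else (bif Nat.ble 980 p then (bif Nat.ble 981 p then 40017540 else 30010507) else (bif Nat.ble 979 p then 20003261 else 50010519))))) else (bif Nat.ble 732 p then (bif Nat.ble 969 p then (bif Nat.ble 973 p then (bif Nat.ble 975 p then (bif Nat.ble 976 p then (bif Nat.ble 977 p then 40010520 else 40001812) else 70004442) else (bif Nat.ble 974 p then 10000180 else 70008005)) else (bif Nat.ble 971 p then (bif Nat.ble 972 p then 60007969 else 20000708) else (bif Nat.ble 970 p then 1313 else 60000379))) else (bif Nat.ble 965 p then (bif Nat.ble 967 p then (bif Nat.ble 968 p then 30003321 else 30006025) else (bif Nat.ble 966 p then 60007992 else 70006026)) else (bif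 Nat.ble 734 p then (bif Nat.ble 964 p then 60006013 else 70002447) else (bif Nat.ble 733 p then 60000984 else 70008051)))) else (bif Nat.ble 724 p then (bif Nat.ble 728 p then (bif Nat.ble 730 p then (bif Nat.ble 731 p then 70010552 else 20001812) else (bif Nat.ble 729 p then 30000174 else 969)) else (bif Nat.ble 726 p then (bif Nat.ble 727 p then 30004514 else 30001327) else (bif Nat.ble 725 p then 20001339 else 10000125))) else (bif Nat.ble 720 p then (bif Nat.ble 722 p then (bif Nat.ble 723 p then 40005980 else 30001336) else (bif Nat.ble 721 p then 40022542 else 30008019)) else (bif Nat.ble 718 p then (bif Nat.ble 719 p then 50008010 else 70008020) else (bif Nat.ble 717 p then 40002457 else 40003295))))))) else (bif Nat.ble 261 p then (bif Nat.ble 511 p then (bif Nat.ble 528 p then (bif Nat.ble 707 p then (bif Nat.ble 711 p then (bif Nat.ble 713 p then (bif Nat.ble 714 p then (bif Nat.ble 715 p then 30010483 else 40000970) else 70004525) else (bif Nat.ble 712 p then 60004510 else 70006077)) else (bif Nat.ble 709 p then (bif Nat.ble 710 p then 10003259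 else 70013654) else (bif Nat.ble 708 p then 30006037 else 30000973))) else (bif Nat.ble 532 p then (bif Nat.ble 534 p then (bif Nat.ble 535 p then 10001804 else 70006087) else (bif Nat.ble 533 p then 10001801 else 40003285)) else (bif Nat.ble 530 p then (bif Nat.ble 531 p then 0 else 70003308) else (bif Nat.ble 529 p then 712 else 70004516)))) else (bif Nat.ble 519 p then (bif Nat.ble 523 p then (bif Nat.ble 525 p then (bif Nat.ble 526 p then (bif Nat.ble 527 p then 0 else 10000084) else 60000187) else (bif Nat.ble 524 p then 70002437 else 10004482)) else (bif Nat.ble 521 p then (bif Nat.ble 522 p then 70017553 else 30008036) else (bif Nat.ble 520 p then 40004477 else 70004446))) else (bif Nat.ble 515 p then (bif Nat.ble 517 p then (bif Nat.ble 518 p then 382 else 20000726) else (bif Nat.ble 516 p then 40010470 else 40036821)) else (bif Nat.ble 513 p then (bif Nat.ble 514 p then 373 else 40000993) else (bif Nat.ble 512 p then 40002459 else 60017580))))) else (bif Nat.ble 368 p then (bif Nat.ble 376 p then (bif Nat.ble 380 p then (bif Nat.ble 382 p then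 (bif Nat.ble 383 p then (bif Nat.ble 510 p then 40010480 else 10001334) else 60002438) else (bif Nat.ble 381 p then 70000510 else 70001793)) else (bif Nat.ble 378 p then (bif Nat.ble 379 p then 40001770 else 517) else (bif Nat.ble 377 p then 516 else 515))) else (bif Nat.ble 372 p then (bif Nat.ble 374 p then (bif Nat.ble 375 p then 70000116 else 30006055) else (bif Nat.ble 373 p then 40001811 else 513)) else (bif Nat.ble 370 p then (bif Nat.ble 371 p then 30005997 else 10001771) else (bif Nat.ble 369 p then 30000025 else 40013594)))) else (bif Nat.ble 269 p then (bif Nat.ble 363 p then (bif Nat.ble 365 p then (bif Nat.ble 366 p then (bif Nat.ble 367 p then 70003346 else 262) else 70004456) else (bif Nat.ble 364 p then 20000265 else 70002411)) else (bif Nat.ble 361 p then (bif Nat.ble 362 p then 60022573 else 30000983) else (bif Nat.ble 270 p then 30001814 else 10003332))) else (bif Nat.ble 265 p then (bif Nat.ble 267 p then (bif Nat.ble 268 p then 30000035 else 50008067) else (bif Nat.ble 266 p then 60006076 else 368)) else (bif Nat.ble 263 p then (bif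 Nat.ble 264 p then 70004509 else 30004493) else (bif Nat.ble 262 p then 60028869 else 70006005)))))) else (bif Nat.ble 124 p then (bif Nat.ble 183 p then (bif Nat.ble 252 p then (bif Nat.ble 256 p then (bif Nat.ble 258 p then (bif Nat.ble 259 p then (bif Nat.ble 260 p then 20000383 else 70003311) else 40001786) else (bif Nat.ble 257 p then 70000037 else 30002451)) else (bif Nat.ble 254 p then (bif Nat.ble 255 p then 20000371 else 40010484) else (bif Nat.ble 253 p then 70001796 else 20000181))) else (bif Nat.ble 187 p then (bif Nat.ble 250 p then (bif Nat.ble 251 p then 50000535 else 20000081) else (bif Nat.ble 249 p then 50002422 else 260)) else (bif Nat.ble 185 p then (bif Nat.ble 186 p then 30000114 else 70004499) else (bif Nat.ble 184 p then 40008015 else 60008072)))) else (bif Nat.ble 174 p then (bif Nat.ble 178 p then (bif Nat.ble 180 p then (bif Nat.ble 181 p then (bif Nat.ble 182 p then 70000053 else 30003336) else 255) else (bif Nat.ble 179 p then 127 else 50013683)) else (bif Nat.ble 176 p then (bif Nat.ble 177 p then 40002421 else 50022558)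 else (bif Nat.ble 175 p then 60013598 else 70000263))) else (bif Nat.ble 170 p then (bif Nat.ble 172 p then (bif Nat.ble 173 p then 40003290 else 40013681) else (bif Nat.ble 171 p then 40013598 else 40013619)) else (bif Nat.ble 126 p then (bif Nat.ble 127 p then 40001309 else 20000079) else (bif Nat.ble 125 p then 50017584 else 40010523))))) else (bif Nat.ble 79 p then (bif Nat.ble 115 p then (bif Nat.ble 119 p then (bif Nat.ble 121 p then (bif Nat.ble 122 p then (bif Nat.ble 123 p then 50017562 else 60036823) else 20000186) else (bif Nat.ble 120 p then 70001799 else 60010559)) else (bif Nat.ble 117 p then (bif Nat.ble 118 p then 0 else 40004475) else (bif Nat.ble 116 p then 50002416 else 70000985))) else (bif Nat.ble 83 p then (bif Nat.ble 113 p then (bif Nat.ble 114 p then 70001805 else 20000036) else (bif Nat.ble 84 p then 121 else 70002438)) else (bif Nat.ble 81 p then (bif Nat.ble 82 p then 60002464 else 10000012) else (bif Nat.ble 80 p then 70000123 else 30001344)))) else (bif Nat.ble 52 p then (bif Nat.ble 56 p then (bif Nat.ble 77 p then (bif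 Nat.ble 78 p then 40004468 else 30000731) else (bif Nat.ble 76 p then 50000717 else 70000176)) else (bif Nat.ble 54 p then (bif Nat.ble 55 p then 30001816 else 40013676) else (bif Nat.ble 53 p then 30000993 else 30000185))) else (bif Nat.ble 35 p then (bif Nat.ble 37 p then (bif Nat.ble 51 p then 30000380 else 30001343) else (bif Nat.ble 36 p then 30000259 else 20000012)) else (bif Nat.ble 24 p then (bif Nat.ble 25 p then 0 else 17) else (bif Nat.ble 17 p then 20000051 else 0))))))))))

/-- The depth of a point. -/
def depT (p : Nat) : Nat := (bif Nat.ble 6031 p then (bif Nat.ble 13636 p then (bif Nat.ble 22556 p then (bif Nat.ble 36797 p then (bif Nat.ble 46571 p then (bif Nat.ble 46588 p then (bif Nat.ble 58406 p then (bif Nat.ble 58410 p then (bif Nat.ble 72451 p then (bif Nat.ble 72452 p then (bif Nat.ble 72453 p then 8 else 11) else 12) else (bif Nat.ble 72450 p then 16 else 13)) else (bif Nat.ble 58408 p then (bif Nat.ble 58409 p then 14 else 11) else (bif Nat.ble 58407 p then 10 else 10))) else (bif Nat.ble 58402 p then (bif Nat.ble 58404 p then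 (bif Nat.ble 58405 p then 14 else 12) else (bif Nat.ble 58403 p then 7 else 13)) else (bif Nat.ble 58400 p then (bif Nat.ble 58401 p then 2 else 11) else (bif Nat.ble 46589 p then 17 else 13)))) else (bif Nat.ble 46579 p then (bif Nat.ble 46583 p then (bif Nat.ble 46585 p then (bif Nat.ble 46586 p then (bif Nat.ble 46587 p then 16 else 14) else 15) else (bif Nat.ble 46584 p then 13 else 10)) else (bif Nat.ble 46581 p then (bif Nat.ble 46582 p then 11 else 10) else (bif Nat.ble 46580 p then 10 else 6))) else (bif Nat.ble 46575 p then (bif Nat.ble 46577 p then (bif Nat.ble 46578 p then 12 else 12) else (bif Nat.ble 46576 p then 12 else 9)) else (bif Nat.ble 46573 p then (bif Nat.ble 46574 p then 11 else 15) else (bif Nat.ble 46572 p then 8 else 13))))) else (bif Nat.ble 36814 p then (bif Nat.ble 36822 p then (bif Nat.ble 36826 p then (bif Nat.ble 46568 p then (bif Nat.ble 46569 p then (bif Nat.ble 46570 p then 7 else 12) else 14) else (bif Nat.ble 46567 p then 19 else 6)) else (bif Nat.ble 36824 p then (bif Nat.ble 36825 p then 10 else 12) else (bif Nat.ble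 36823 p then 15 else 15))) else (bif Nat.ble 36818 p then (bif Nat.ble 36820 p then (bif Nat.ble 36821 p then 16 else 11) else (bif Nat.ble 36819 p then 13 else 11)) else (bif Nat.ble 36816 p then (bif Nat.ble 36817 p then 11 else 16) else (bif Nat.ble 36815 p then 15 else 9)))) else (bif Nat.ble 36805 p then (bif Nat.ble 36809 p then (bif Nat.ble 36811 p then (bif Nat.ble 36812 p then (bif Nat.ble 36813 p then 12 else 6) else 9) else (bif Nat.ble 36810 p then 7 else 13)) else (bif Nat.ble 36807 p then (bif Nat.ble 36808 p then 13 else 11) else (bif Nat.ble 36806 p then 12 else 16))) else (bif Nat.ble 36801 p then (bif Nat.ble 36803 p then (bif Nat.ble 36804 p then 14 else 13) else (bif Nat.ble 36802 p then 11 else 11)) else (bif Nat.ble 36799 p then (bif Nat.ble 36800 p then 17 else 16) else (bif Nat.ble 36798 p then 6 else 9)))))) else (bif Nat.ble 28872 p then (bif Nat.ble 28889 p then (bif Nat.ble 28899 p then (bif Nat.ble 28904 p then (bif Nat.ble 28906 p then (bif Nat.ble 36795 p then (bif Nat.ble 36796 p then 7 else 15) else 13) else (bif Nat.ble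 28905 p then 9 else 7)) else (bif Nat.ble 28901 p then (bif Nat.ble 28902 p then 9 else 8) else (bif Nat.ble 28900 p then 13 else 5))) else (bif Nat.ble 28894 p then (bif Nat.ble 28896 p then (bif Nat.ble 28897 p then 8 else 14) else (bif Nat.ble 28895 p then 13 else 13)) else (bif Nat.ble 28891 p then (bif Nat.ble 28893 p then 9 else 14) else (bif Nat.ble 28890 p then 13 else 14)))) else (bif Nat.ble 28880 p then (bif Nat.ble 28884 p then (bif Nat.ble 28886 p then (bif Nat.ble 28887 p then (bif Nat.ble 28888 p then 12 else 12) else 16) else (bif Nat.ble 28885 p then 13 else 15)) else (bif Nat.ble 28882 p then (bif Nat.ble 28883 p then 10 else 4) else (bif Nat.ble 28881 p then 8 else 14))) else (bif Nat.ble 28876 p then (bif Nat.ble 28878 p then (bif Nat.ble 28879 p then 12 else 15) else (bif Nat.ble 28877 p then 11 else 17)) else (bif Nat.ble 28874 p then (bif Nat.ble 28875 p then 13 else 14) else (bif Nat.ble 28873 p then 17 else 11))))) else (bif Nat.ble 22575 p then (bif Nat.ble 28863 p then (bif Nat.ble 28867 p then (bif Nat.ble 28869 p then (bif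 Nat.ble 28870 p then (bif Nat.ble 28871 p then 4 else 8) else 15) else (bif Nat.ble 28868 p then 13 else 5)) else (bif Nat.ble 28865 p then (bif Nat.ble 28866 p then 18 else 14) else (bif Nat.ble 28864 p then 16 else 17))) else (bif Nat.ble 22581 p then (bif Nat.ble 22583 p then (bif Nat.ble 28862 p then 14 else 12) else (bif Nat.ble 22582 p then 19 else 4)) else (bif Nat.ble 22577 p then (bif Nat.ble 22580 p then 5 else 13) else (bif Nat.ble 22576 p then 13 else 15)))) else (bif Nat.ble 22565 p then (bif Nat.ble 22571 p then (bif Nat.ble 22573 p then (bif Nat.ble 22574 p then 14 else 14) else (bif Nat.ble 22572 p then 13 else 10)) else (bif Nat.ble 22567 p then (bif Nat.ble 22570 p then 12 else 9) else (bif Nat.ble 22566 p then 10 else 15))) else (bif Nat.ble 22560 p then (bif Nat.ble 22563 p then (bif Nat.ble 22564 p then 10 else 14) else (bif Nat.ble 22562 p then 16 else 14)) else (bif Nat.ble 22558 p then (bif Nat.ble 22559 p then 13 else 9) else (bif Nat.ble 22557 p then 6 else 14))))))) else (bif Nat.ble 17554 p then (bif Nat.ble 17598 p then (bif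 Nat.ble 22539 p then (bif Nat.ble 22547 p then (bif Nat.ble 22551 p then (bif Nat.ble 22553 p then (bif Nat.ble 22554 p then (bif Nat.ble 22555 p then 11 else 10) else 14) else (bif Nat.ble 22552 p then 16 else 11)) else (bif Nat.ble 22549 p then (bif Nat.ble 22550 p then 3 else 16) else (bif Nat.ble 22548 p then 16 else 12))) else (bif Nat.ble 22543 p then (bif Nat.ble 22545 p then (bif Nat.ble 22546 p then 5 else 11) else (bif Nat.ble 22544 p then 13 else 15)) else (bif Nat.ble 22541 p then (bif Nat.ble 22542 p then 17 else 12) else (bif Nat.ble 22540 p then 16 else 10)))) else (bif Nat.ble 22530 p then (bif Nat.ble 22534 p then (bif Nat.ble 22536 p then (bif Nat.ble 22537 p then (bif Nat.ble 22538 p then 5 else 7) else 19) else (bif Nat.ble 22535 p then 13 else 11)) else (bif Nat.ble 22532 p then (bif Nat.ble 22533 p then 16 else 8) else (bif Nat.ble 22531 p then 10 else 10))) else (bif Nat.ble 22526 p then (bif Nat.ble 22528 p then (bif Nat.ble 22529 p then 14 else 12) else (bif Nat.ble 22527 p then 10 else 16)) else (bif Nat.ble 17600 p then (bif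 Nat.ble 17602 p then 9 else 12) else (bif Nat.ble 17599 p then 11 else 11))))) else (bif Nat.ble 17576 p then (bif Nat.ble 17584 p then (bif Nat.ble 17589 p then (bif Nat.ble 17595 p then (bif Nat.ble 17596 p then (bif Nat.ble 17597 p then 6 else 12) else 15) else (bif Nat.ble 17590 p then 10 else 11)) else (bif Nat.ble 17586 p then (bif Nat.ble 17588 p then 11 else 15) else (bif Nat.ble 17585 p then 13 else 18))) else (bif Nat.ble 17580 p then (bif Nat.ble 17582 p then (bif Nat.ble 17583 p then 16 else 11) else (bif Nat.ble 17581 p then 15 else 11)) else (bif Nat.ble 17578 p then (bif Nat.ble 17579 p then 18 else 13) else (bif Nat.ble 17577 p then 15 else 16)))) else (bif Nat.ble 17562 p then (bif Nat.ble 17568 p then (bif Nat.ble 17570 p then (bif Nat.ble 17571 p then (bif Nat.ble 17575 p then 9 else 12) else 10) else (bif Nat.ble 17569 p then 14 else 15)) else (bif Nat.ble 17566 p then (bif Nat.ble 17567 p then 16 else 10) else (bif Nat.ble 17563 p then 14 else 10))) else (bif Nat.ble 17558 p then (bif Nat.ble 17560 p then (bif Nat.ble 17561 p then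 10 else 7) else (bif Nat.ble 17559 p then 8 else 14)) else (bif Nat.ble 17556 p then (bif Nat.ble 17557 p then 12 else 7) else (bif Nat.ble 17555 p then 12 else 8)))))) else (bif Nat.ble 13679 p then (bif Nat.ble 17537 p then (bif Nat.ble 17545 p then (bif Nat.ble 17549 p then (bif Nat.ble 17551 p then (bif Nat.ble 17552 p then (bif Nat.ble 17553 p then 4 else 13) else 14) else (bif Nat.ble 17550 p then 15 else 15)) else (bif Nat.ble 17547 p then (bif Nat.ble 17548 p then 11 else 6) else (bif Nat.ble 17546 p then 11 else 8))) else (bif Nat.ble 17541 p then (bif Nat.ble 17543 p then (bif Nat.ble 17544 p then 11 else 8) else (bif Nat.ble 17542 p then 12 else 14)) else (bif Nat.ble 17539 p then (bif Nat.ble 17540 p then 18 else 8) else (bif Nat.ble 17538 p then 17 else 18)))) else (bif Nat.ble 17528 p then (bif Nat.ble 17532 p then (bif Nat.ble 17534 p then (bif Nat.ble 17535 p then (bif Nat.ble 17536 p then 12 else 12) else 14) else (bif Nat.ble 17533 p then 15 else 20)) else (bif Nat.ble 17530 p then (bif Nat.ble 17531 p then 11 else 13) else (bif Nat.ble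 17529 p then 15 else 12))) else (bif Nat.ble 13683 p then (bif Nat.ble 17526 p then (bif Nat.ble 17527 p then 12 else 8) else (bif Nat.ble 17525 p then 11 else 17)) else (bif Nat.ble 13681 p then (bif Nat.ble 13682 p then 11 else 15) else (bif Nat.ble 13680 p then 13 else 16))))) else (bif Nat.ble 13655 p then (bif Nat.ble 13669 p then (bif Nat.ble 13674 p then (bif Nat.ble 13676 p then (bif Nat.ble 13677 p then (bif Nat.ble 13678 p then 15 else 12) else 9) else (bif Nat.ble 13675 p then 3 else 8)) else (bif Nat.ble 13672 p then (bif Nat.ble 13673 p then 17 else 12) else (bif Nat.ble 13670 p then 9 else 11))) else (bif Nat.ble 13662 p then (bif Nat.ble 13664 p then (bif Nat.ble 13665 p then 15 else 13) else (bif Nat.ble 13663 p then 10 else 16)) else (bif Nat.ble 13660 p then (bif Nat.ble 13661 p then 12 else 11) else (bif Nat.ble 13659 p then 12 else 11)))) else (bif Nat.ble 13645 p then (bif Nat.ble 13651 p then (bif Nat.ble 13653 p then (bif Nat.ble 13654 p then 5 else 15) else (bif Nat.ble 13652 p then 14 else 12)) else (bif Nat.ble 13649 p then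 (bif Nat.ble 13650 p then 9 else 12) else (bif Nat.ble 13648 p then 5 else 7))) else (bif Nat.ble 13641 p then (bif Nat.ble 13643 p then (bif Nat.ble 13644 p then 13 else 12) else (bif Nat.ble 13642 p then 15 else 14)) else (bif Nat.ble 13638 p then (bif Nat.ble 13640 p then 12 else 14) else (bif Nat.ble 13637 p then 17 else 17)))))))) else (bif Nat.ble 10463 p then (bif Nat.ble 10545 p then (bif Nat.ble 13598 p then (bif Nat.ble 13615 p then (bif Nat.ble 13624 p then (bif Nat.ble 13628 p then (bif Nat.ble 13633 p then (bif Nat.ble 13634 p then (bif Nat.ble 13635 p then 10 else 10) else 13) else (bif Nat.ble 13629 p then 14 else 15)) else (bif Nat.ble 13626 p then (bif Nat.ble 13627 p then 9 else 11) else (bif Nat.ble 13625 p then 13 else 18))) else (bif Nat.ble 13619 p then (bif Nat.ble 13621 p then (bif Nat.ble 13622 p then 9 else 13) else (bif Nat.ble 13620 p then 13 else 8)) else (bif Nat.ble 13617 p then (bif Nat.ble 13618 p then 15 else 7) else (bif Nat.ble 13616 p then 16 else 15)))) else (bif Nat.ble 13606 p then (bif Nat.ble 13610 p then (bif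 Nat.ble 13612 p then (bif Nat.ble 13613 p then (bif Nat.ble 13614 p then 11 else 12) else 5) else (bif Nat.ble 13611 p then 15 else 11)) else (bif Nat.ble 13608 p then (bif Nat.ble 13609 p then 10 else 9) else (bif Nat.ble 13607 p then 12 else 12))) else (bif Nat.ble 13602 p then (bif Nat.ble 13604 p then (bif Nat.ble 13605 p then 10 else 13) else (bif Nat.ble 13603 p then 15 else 10)) else (bif Nat.ble 13600 p then (bif Nat.ble 13601 p then 9 else 3) else (bif Nat.ble 13599 p then 14 else 16))))) else (bif Nat.ble 10567 p then (bif Nat.ble 13589 p then (bif Nat.ble 13593 p then (bif Nat.ble 13595 p then (bif Nat.ble 13596 p then (bif Nat.ble 13597 p then 16 else 12) else 10) else (bif Nat.ble 13594 p then 15 else 12)) else (bif Nat.ble 13591 p then (bif Nat.ble 13592 p then 10 else 13) else (bif Nat.ble 13590 p then 10 else 18))) else (bif Nat.ble 10572 p then (bif Nat.ble 10576 p then (bif Nat.ble 13588 p then 14 else 8) else (bif Nat.ble 10575 p then 8 else 2)) else (bif Nat.ble 10570 p then (bif Nat.ble 10571 p then 16 else 9) else (bif Nat.ble 10568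 p then 11 else 11)))) else (bif Nat.ble 10557 p then (bif Nat.ble 10561 p then (bif Nat.ble 10563 p then (bif Nat.ble 10565 p then (bif Nat.ble 10566 p then 12 else 3) else 14) else (bif Nat.ble 10562 p then 12 else 17)) else (bif Nat.ble 10559 p then (bif Nat.ble 10560 p then 14 else 10) else (bif Nat.ble 10558 p then 11 else 10))) else (bif Nat.ble 10553 p then (bif Nat.ble 10555 p then (bif Nat.ble 10556 p then 14 else 7) else (bif Nat.ble 10554 p then 13 else 15)) else (bif Nat.ble 10551 p then (bif Nat.ble 10552 p then 9 else 11) else (bif Nat.ble 10550 p then 12 else 13)))))) else (bif Nat.ble 10497 p then (bif Nat.ble 10520 p then (bif Nat.ble 10533 p then (bif Nat.ble 10537 p then (bif Nat.ble 10542 p then (bif Nat.ble 10543 p then (bif Nat.ble 10544 p then 10 else 16) else 12) else (bif Nat.ble 10538 p then 11 else 14)) else (bif Nat.ble 10535 p then (bif Nat.ble 10536 p then 12 else 11) else (bif Nat.ble 10534 p then 10 else 15))) else (bif Nat.ble 10524 p then (bif Nat.ble 10527 p then (bif Nat.ble 10528 p then 8 else 6) else (bif Nat.ble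 10525 p then 13 else 10)) else (bif Nat.ble 10522 p then (bif Nat.ble 10523 p then 16 else 13) else (bif Nat.ble 10521 p then 10 else 6)))) else (bif Nat.ble 10508 p then (bif Nat.ble 10512 p then (bif Nat.ble 10517 p then (bif Nat.ble 10518 p then (bif Nat.ble 10519 p then 11 else 6) else 14) else (bif Nat.ble 10516 p then 13 else 9)) else (bif Nat.ble 10510 p then (bif Nat.ble 10511 p then 15 else 14) else (bif Nat.ble 10509 p then 11 else 13))) else (bif Nat.ble 10503 p then (bif Nat.ble 10505 p then (bif Nat.ble 10507 p then 11 else 14) else (bif Nat.ble 10504 p then 9 else 9)) else (bif Nat.ble 10501 p then (bif Nat.ble 10502 p then 14 else 13) else (bif Nat.ble 10500 p then 10 else 14))))) else (bif Nat.ble 10479 p then (bif Nat.ble 10487 p then (bif Nat.ble 10491 p then (bif Nat.ble 10494 p then (bif Nat.ble 10495 p then (bif Nat.ble 10496 p then 14 else 17) else 9) else (bif Nat.ble 10492 p then 17 else 16)) else (bif Nat.ble 10489 p then (bif Nat.ble 10490 p then 8 else 17) else (bif Nat.ble 10488 p then 14 else 1))) else (bif Nat.ble 10483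 p then (bif Nat.ble 10485 p then (bif Nat.ble 10486 p then 10 else 15) else (bif Nat.ble 10484 p then 18 else 18)) else (bif Nat.ble 10481 p then (bif Nat.ble 10482 p then 17 else 11) else (bif Nat.ble 10480 p then 11 else 9)))) else (bif Nat.ble 10471 p then (bif Nat.ble 10475 p then (bif Nat.ble 10477 p then (bif Nat.ble 10478 p then 9 else 7) else (bif Nat.ble 10476 p then 17 else 12)) else (bif Nat.ble 10473 p then (bif Nat.ble 10474 p then 15 else 7) else (bif Nat.ble 10472 p then 11 else 15))) else (bif Nat.ble 10467 p then (bif Nat.ble 10469 p then (bif Nat.ble 10470 p then 9 else 10) else (bif Nat.ble 10468 p then 17 else 9)) else (bif Nat.ble 10465 p then (bif Nat.ble 10466 p then 6 else 17) else (bif Nat.ble 10464 p then 13 else 10))))))) else (bif Nat.ble 7992 p then (bif Nat.ble 8037 p then (bif Nat.ble 8060 p then (bif Nat.ble 8072 p then (bif Nat.ble 8076 p then (bif Nat.ble 8081 p then (bif Nat.ble 8082 p then (bif Nat.ble 8083 p then 12 else 9) else 15) else (bif Nat.ble 8080 p then 10 else 15)) else (bif Nat.ble 8074 p then (bif Nat.ble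 8075 p then 14 else 11) else (bif Nat.ble 8073 p then 10 else 11))) else (bif Nat.ble 8065 p then (bif Nat.ble 8067 p then (bif Nat.ble 8071 p then 20 else 16) else (bif Nat.ble 8066 p then 14 else 15)) else (bif Nat.ble 8063 p then (bif Nat.ble 8064 p then 4 else 14) else (bif Nat.ble 8062 p then 21 else 14)))) else (bif Nat.ble 8051 p then (bif Nat.ble 8055 p then (bif Nat.ble 8057 p then (bif Nat.ble 8058 p then (bif Nat.ble 8059 p then 9 else 12) else 9) else (bif Nat.ble 8056 p then 9 else 16)) else (bif Nat.ble 8053 p then (bif Nat.ble 8054 p then 11 else 14) else (bif Nat.ble 8052 p then 7 else 10))) else (bif Nat.ble 8043 p then (bif Nat.ble 8049 p then (bif Nat.ble 8050 p then 15 else 11) else (bif Nat.ble 8048 p then 7 else 12)) else (bif Nat.ble 8039 p then (bif Nat.ble 8040 p then 15 else 14) else (bif Nat.ble 8038 p then 11 else 13))))) else (bif Nat.ble 8013 p then (bif Nat.ble 8022 p then (bif Nat.ble 8028 p then (bif Nat.ble 8030 p then (bif Nat.ble 8031 p then (bif Nat.ble 8036 p then 11 else 11) else 9) else (bif Nat.ble 8029 p then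 8 else 16)) else (bif Nat.ble 8026 p then (bif Nat.ble 8027 p then 11 else 2) else (bif Nat.ble 8023 p then 11 else 14))) else (bif Nat.ble 8017 p then (bif Nat.ble 8020 p then (bif Nat.ble 8021 p then 7 else 12) else (bif Nat.ble 8019 p then 14 else 10)) else (bif Nat.ble 8015 p then (bif Nat.ble 8016 p then 12 else 17) else (bif Nat.ble 8014 p then 17 else 10)))) else (bif Nat.ble 8002 p then (bif Nat.ble 8008 p then (bif Nat.ble 8010 p then (bif Nat.ble 8011 p then (bif Nat.ble 8012 p then 13 else 17) else 13) else (bif Nat.ble 8009 p then 13 else 16)) else (bif Nat.ble 8004 p then (bif Nat.ble 8005 p then 6 else 12) else (bif Nat.ble 8003 p then 12 else 10))) else (bif Nat.ble 7997 p then (bif Nat.ble 7999 p then (bif Nat.ble 8000 p then 13 else 12) else (bif Nat.ble 7998 p then 9 else 8)) else (bif Nat.ble 7994 p then (bif Nat.ble 7995 p then 16 else 10) else (bif Nat.ble 7993 p then 12 else 13)))))) else (bif Nat.ble 6077 p then (bif Nat.ble 7975 p then (bif Nat.ble 7983 p then (bif Nat.ble 7987 p then (bif Nat.ble 7989 p then (bif Nat.ble 7990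 p then (bif Nat.ble 7991 p then 14 else 0) else 12) else (bif Nat.ble 7988 p then 13 else 8)) else (bif Nat.ble 7985 p then (bif Nat.ble 7986 p then 12 else 12) else (bif Nat.ble 7984 p then 10 else 13))) else (bif Nat.ble 7979 p then (bif Nat.ble 7981 p then (bif Nat.ble 7982 p then 17 else 14) else (bif Nat.ble 7980 p then 14 else 14)) else (bif Nat.ble 7977 p then (bif Nat.ble 7978 p then 6 else 13) else (bif Nat.ble 7976 p then 11 else 12)))) else (bif Nat.ble 6090 p then (bif Nat.ble 7970 p then (bif Nat.ble 7972 p then (bif Nat.ble 7973 p then (bif Nat.ble 7974 p then 18 else 7) else 15) else (bif Nat.ble 7971 p then 13 else 9)) else (bif Nat.ble 7968 p then (bif Nat.ble 7969 p then 11 else 13) else (bif Nat.ble 6093 p then 11 else 16))) else (bif Nat.ble 6086 p then (bif Nat.ble 6088 p then (bif Nat.ble 6089 p then 15 else 11) else (bif Nat.ble 6087 p then 9 else 17)) else (bif Nat.ble 6080 p then (bif Nat.ble 6081 p then 16 else 13) else (bif Nat.ble 6078 p then 9 else 7))))) else (bif Nat.ble 6057 p then (bif Nat.ble 6066 p then (bif Nat.ble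 6072 p then (bif Nat.ble 6074 p then (bif Nat.ble 6075 p then (bif Nat.ble 6076 p then 19 else 5) else 11) else (bif Nat.ble 6073 p then 10 else 8)) else (bif Nat.ble 6070 p then (bif Nat.ble 6071 p then 19 else 10) else (bif Nat.ble 6069 p then 1 else 1))) else (bif Nat.ble 6061 p then (bif Nat.ble 6064 p then (bif Nat.ble 6065 p then 13 else 20) else (bif Nat.ble 6063 p then 12 else 13)) else (bif Nat.ble 6059 p then (bif Nat.ble 6060 p then 10 else 17) else (bif Nat.ble 6058 p then 13 else 2)))) else (bif Nat.ble 6044 p then (bif Nat.ble 6050 p then (bif Nat.ble 6055 p then (bif Nat.ble 6056 p then 10 else 13) else (bif Nat.ble 6051 p then 15 else 8)) else (bif Nat.ble 6048 p then (bif Nat.ble 6049 p then 9 else 16) else (bif Nat.ble 6045 p then 11 else 3))) else (bif Nat.ble 6037 p then (bif Nat.ble 6039 p then (bif Nat.ble 6040 p then 12 else 14) else (bif Nat.ble 6038 p then 9 else 12)) else (bif Nat.ble 6035 p then (bif Nat.ble 6036 p then 16 else 11) else (bif Nat.ble 6032 p then 10 else 10))))))))) else (bif Nat.ble 1812 p then (bif Nat.ble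 3341 p then (bif Nat.ble 4504 p then (bif Nat.ble 5992 p then (bif Nat.ble 6009 p then (bif Nat.ble 6019 p then (bif Nat.ble 6025 p then (bif Nat.ble 6027 p then (bif Nat.ble 6029 p then (bif Nat.ble 6030 p then 1 else 16) else 13) else (bif Nat.ble 6026 p then 11 else 13)) else (bif Nat.ble 6023 p then (bif Nat.ble 6024 p then 11 else 9) else (bif Nat.ble 6020 p then 12 else 16))) else (bif Nat.ble 6014 p then (bif Nat.ble 6017 p then (bif Nat.ble 6018 p then 11 else 9) else (bif Nat.ble 6015 p then 11 else 13)) else (bif Nat.ble 6012 p then (bif Nat.ble 6013 p then 17 else 13) else (bif Nat.ble 6010 p then 7 else 9)))) else (bif Nat.ble 6000 p then (bif Nat.ble 6004 p then (bif Nat.ble 6006 p then (bif Nat.ble 6007 p then (bif Nat.ble 6008 p then 14 else 10) else 7) else (bif Nat.ble 6005 p then 11 else 10)) else (bif Nat.ble 6002 p then (bif Nat.ble 6003 p then 13 else 12) else (bif Nat.ble 6001 p then 13 else 16))) else (bif Nat.ble 5996 p then (bif Nat.ble 5998 p then (bif Nat.ble 5999 p then 10 else 7) else (bif Nat.ble 5997 p then 11 else 11))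 else (bif Nat.ble 5994 p then (bif Nat.ble 5995 p then 14 else 13) else (bif Nat.ble 5993 p then 8 else 12))))) else (bif Nat.ble 4526 p then (bif Nat.ble 5980 p then (bif Nat.ble 5987 p then (bif Nat.ble 5989 p then (bif Nat.ble 5990 p then (bif Nat.ble 5991 p then 10 else 18) else 16) else (bif Nat.ble 5988 p then 20 else 11)) else (bif Nat.ble 5984 p then (bif Nat.ble 5986 p then 15 else 17) else (bif Nat.ble 5983 p then 16 else 10))) else (bif Nat.ble 4536 p then (bif Nat.ble 5978 p then (bif Nat.ble 5979 p then 14 else 12) else (bif Nat.ble 4538 p then 15 else 10)) else (bif Nat.ble 4531 p then (bif Nat.ble 4535 p then 10 else 12) else (bif Nat.ble 4530 p then 12 else 7)))) else (bif Nat.ble 4515 p then (bif Nat.ble 4521 p then (bif Nat.ble 4523 p then (bif Nat.ble 4524 p then (bif Nat.ble 4525 p then 8 else 11) else 16) else (bif Nat.ble 4522 p then 12 else 11)) else (bif Nat.ble 4517 p then (bif Nat.ble 4518 p then 17 else 18) else (bif Nat.ble 4516 p then 6 else 13))) else (bif Nat.ble 4509 p then (bif Nat.ble 4511 p then (bif Nat.ble 4514 p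 then 11 else 15) else (bif Nat.ble 4510 p then 4 else 9)) else (bif Nat.ble 4506 p then (bif Nat.ble 4508 p then 15 else 17) else (bif Nat.ble 4505 p then 11 else 0)))))) else (bif Nat.ble 4461 p then (bif Nat.ble 4482 p then (bif Nat.ble 4494 p then (bif Nat.ble 4498 p then (bif Nat.ble 4500 p then (bif Nat.ble 4501 p then (bif Nat.ble 4503 p then 12 else 13) else 13) else (bif Nat.ble 4499 p then 9 else 21)) else (bif Nat.ble 4496 p then (bif Nat.ble 4497 p then 14 else 8) else (bif Nat.ble 4495 p then 21 else 17))) else (bif Nat.ble 4487 p then (bif Nat.ble 4491 p then (bif Nat.ble 4493 p then 10 else 8) else (bif Nat.ble 4490 p then 13 else 10)) else (bif Nat.ble 4485 p then (bif Nat.ble 4486 p then 15 else 10) else (bif Nat.ble 4483 p then 21 else 4)))) else (bif Nat.ble 4470 p then (bif Nat.ble 4475 p then (bif Nat.ble 4477 p then (bif Nat.ble 4478 p then (bif Nat.ble 4481 p then 10 else 13) else 17) else (bif Nat.ble 4476 p then 12 else 14)) else (bif Nat.ble 4472 p then (bif Nat.ble 4473 p then 14 else 16) else (bif Nat.ble 4471 p then 5 else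 12))) else (bif Nat.ble 4465 p then (bif Nat.ble 4468 p then (bif Nat.ble 4469 p then 10 else 10) else (bif Nat.ble 4467 p then 12 else 15)) else (bif Nat.ble 4463 p then (bif Nat.ble 4464 p then 8 else 12) else (bif Nat.ble 4462 p then 15 else 14))))) else (bif Nat.ble 4444 p then (bif Nat.ble 4452 p then (bif Nat.ble 4456 p then (bif Nat.ble 4458 p then (bif Nat.ble 4459 p then (bif Nat.ble 4460 p then 8 else 16) else 14) else (bif Nat.ble 4457 p then 9 else 12)) else (bif Nat.ble 4454 p then (bif Nat.ble 4455 p then 9 else 15) else (bif Nat.ble 4453 p then 17 else 17))) else (bif Nat.ble 4448 p then (bif Nat.ble 4450 p then (bif Nat.ble 4451 p then 13 else 18) else (bif Nat.ble 4449 p then 9 else 10)) else (bif Nat.ble 4446 p then (bif Nat.ble 4447 p then 16 else 10) else (bif Nat.ble 4445 p then 11 else 8)))) else (bif Nat.ble 4431 p then (bif Nat.ble 4439 p then (bif Nat.ble 4442 p then (bif Nat.ble 4443 p then 18 else 4) else (bif Nat.ble 4440 p then 13 else 9)) else (bif Nat.ble 4434 p then (bif Nat.ble 4435 p then 15 else 13) else (bif Nat.ble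 4432 p then 8 else 13))) else (bif Nat.ble 3347 p then (bif Nat.ble 3352 p then (bif Nat.ble 4430 p then 4 else 15) else (bif Nat.ble 3351 p then 8 else 9)) else (bif Nat.ble 3343 p then (bif Nat.ble 3346 p then 8 else 11) else (bif Nat.ble 3342 p then 15 else 8))))))) else (bif Nat.ble 2465 p then (bif Nat.ble 3297 p then (bif Nat.ble 3316 p then (bif Nat.ble 3326 p then (bif Nat.ble 3332 p then (bif Nat.ble 3336 p then (bif Nat.ble 3337 p then (bif Nat.ble 3340 p then 8 else 16) else 10) else (bif Nat.ble 3333 p then 14 else 13)) else (bif Nat.ble 3328 p then (bif Nat.ble 3331 p then 6 else 11) else (bif Nat.ble 3327 p then 11 else 10))) else (bif Nat.ble 3321 p then (bif Nat.ble 3323 p then (bif Nat.ble 3325 p then 13 else 3) else (bif Nat.ble 3322 p then 14 else 12)) else (bif Nat.ble 3318 p then (bif Nat.ble 3320 p then 13 else 17) else (bif Nat.ble 3317 p then 16 else 11)))) else (bif Nat.ble 3307 p then (bif Nat.ble 3311 p then (bif Nat.ble 3313 p then (bif Nat.ble 3314 p then (bif Nat.ble 3315 p then 11 else 13) else 16) else (bif Nat.ble 3312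 p then 9 else 10)) else (bif Nat.ble 3309 p then (bif Nat.ble 3310 p then 2 else 7) else (bif Nat.ble 3308 p then 12 else 17))) else (bif Nat.ble 3302 p then (bif Nat.ble 3305 p then (bif Nat.ble 3306 p then 12 else 11) else (bif Nat.ble 3303 p then 14 else 11)) else (bif Nat.ble 3299 p then (bif Nat.ble 3300 p then 9 else 9) else (bif Nat.ble 3298 p then 15 else 13))))) else (bif Nat.ble 3279 p then (bif Nat.ble 3287 p then (bif Nat.ble 3291 p then (bif Nat.ble 3294 p then (bif Nat.ble 3295 p then (bif Nat.ble 3296 p then 9 else 11) else 16) else (bif Nat.ble 3292 p then 10 else 13)) else (bif Nat.ble 3289 p then (bif Nat.ble 3290 p then 8 else 3) else (bif Nat.ble 3288 p then 6 else 15))) else (bif Nat.ble 3283 p then (bif Nat.ble 3285 p then (bif Nat.ble 3286 p then 11 else 16) else (bif Nat.ble 3284 p then 11 else 13)) else (bif Nat.ble 3281 p then (bif Nat.ble 3282 p then 2 else 7) else (bif Nat.ble 3280 p then 14 else 15)))) else (bif Nat.ble 3270 p then (bif Nat.ble 3274 p then (bif Nat.ble 3276 p then (bif Nat.ble 3277 p then (bif Nat.ble 3278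 p then 11 else 6) else 9) else (bif Nat.ble 3275 p then 9 else 10)) else (bif Nat.ble 3272 p then (bif Nat.ble 3273 p then 12 else 14) else (bif Nat.ble 3271 p then 13 else 13))) else (bif Nat.ble 3262 p then (bif Nat.ble 3266 p then (bif Nat.ble 3269 p then 14 else 8) else (bif Nat.ble 3265 p then 10 else 12)) else (bif Nat.ble 3260 p then (bif Nat.ble 3261 p then 7 else 15) else (bif Nat.ble 3259 p then 5 else 11)))))) else (bif Nat.ble 2424 p then (bif Nat.ble 2442 p then (bif Nat.ble 2453 p then (bif Nat.ble 2458 p then (bif Nat.ble 2460 p then (bif Nat.ble 2463 p then (bif Nat.ble 2464 p then 9 else 11) else 17) else (bif Nat.ble 2459 p then 9 else 16)) else (bif Nat.ble 2455 p then (bif Nat.ble 2457 p then 16 else 16) else (bif Nat.ble 2454 p then 9 else 15))) else (bif Nat.ble 2447 p then (bif Nat.ble 2450 p then (bif Nat.ble 2451 p then 9 else 15) else (bif Nat.ble 2448 p then 10 else 3)) else (bif Nat.ble 2445 p then (bif Nat.ble 2446 p then 5 else 18) else (bif Nat.ble 2443 p then 18 else 12)))) else (bif Nat.ble 2433 p then (bif Nat.ble 2437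 p then (bif Nat.ble 2439 p then (bif Nat.ble 2440 p then (bif Nat.ble 2441 p then 14 else 8) else 12) else (bif Nat.ble 2438 p then 6 else 7)) else (bif Nat.ble 2435 p then (bif Nat.ble 2436 p then 12 else 15) else (bif Nat.ble 2434 p then 17 else 12))) else (bif Nat.ble 2429 p then (bif Nat.ble 2431 p then (bif Nat.ble 2432 p then 12 else 15) else (bif Nat.ble 2430 p then 19 else 12)) else (bif Nat.ble 2426 p then (bif Nat.ble 2427 p then 12 else 12) else (bif Nat.ble 2425 p then 14 else 16))))) else (bif Nat.ble 2407 p then (bif Nat.ble 2415 p then (bif Nat.ble 2419 p then (bif Nat.ble 2421 p then (bif Nat.ble 2422 p then (bif Nat.ble 2423 p then 2 else 17) else 17) else (bif Nat.ble 2420 p then 15 else 10)) else (bif Nat.ble 2417 p then (bif Nat.ble 2418 p then 7 else 12) else (bif Nat.ble 2416 p then 8 else 15))) else (bif Nat.ble 2411 p then (bif Nat.ble 2413 p then (bif Nat.ble 2414 p then 3 else 12) else (bif Nat.ble 2412 p then 15 else 12)) else (bif Nat.ble 2409 p then (bif Nat.ble 2410 p then 15 else 17) else (bif Nat.ble 2408 p then 18 else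 8)))) else (bif Nat.ble 2397 p then (bif Nat.ble 2401 p then (bif Nat.ble 2405 p then (bif Nat.ble 2406 p then 4 else 9) else (bif Nat.ble 2404 p then 13 else 9)) else (bif Nat.ble 2399 p then (bif Nat.ble 2400 p then 13 else 16) else (bif Nat.ble 2398 p then 14 else 6))) else (bif Nat.ble 1817 p then (bif Nat.ble 1819 p then (bif Nat.ble 2396 p then 11 else 16) else (bif Nat.ble 1818 p then 21 else 12)) else (bif Nat.ble 1814 p then (bif Nat.ble 1816 p then 12 else 10) else (bif Nat.ble 1813 p then 15 else 7)))))))) else (bif Nat.ble 716 p then (bif Nat.ble 1322 p then (bif Nat.ble 1777 p then (bif Nat.ble 1794 p then (bif Nat.ble 1802 p then (bif Nat.ble 1806 p then (bif Nat.ble 1808 p then (bif Nat.ble 1810 p then (bif Nat.ble 1811 p then 10 else 16) else 16) else (bif Nat.ble 1807 p then 11 else 11)) else (bif Nat.ble 1804 p then (bif Nat.ble 1805 p then 12 else 19) else (bif Nat.ble 1803 p then 4 else 12))) else (bif Nat.ble 1798 p then (bif Nat.ble 1800 p then (bif Nat.ble 1801 p then 15 else 12) else (bif Nat.ble 1799 p then 5 else 14)) else (bif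 Nat.ble 1796 p then (bif Nat.ble 1797 p then 6 else 8) else (bif Nat.ble 1795 p then 9 else 14)))) else (bif Nat.ble 1785 p then (bif Nat.ble 1789 p then (bif Nat.ble 1791 p then (bif Nat.ble 1792 p then (bif Nat.ble 1793 p then 12 else 7) else 15) else (bif Nat.ble 1790 p then 13 else 10)) else (bif Nat.ble 1787 p then (bif Nat.ble 1788 p then 11 else 0) else (bif Nat.ble 1786 p then 16 else 9))) else (bif Nat.ble 1781 p then (bif Nat.ble 1783 p then (bif Nat.ble 1784 p then 16 else 14) else (bif Nat.ble 1782 p then 11 else 9)) else (bif Nat.ble 1779 p then (bif Nat.ble 1780 p then 19 else 12) else (bif Nat.ble 1778 p then 18 else 14))))) else (bif Nat.ble 1339 p then (bif Nat.ble 1348 p then (bif Nat.ble 1771 p then (bif Nat.ble 1773 p then (bif Nat.ble 1775 p then (bif Nat.ble 1776 p then 8 else 13) else 7) else (bif Nat.ble 1772 p then 11 else 14)) else (bif Nat.ble 1769 p then (bif Nat.ble 1770 p then 17 else 10) else (bif Nat.ble 1768 p then 4 else 10))) else (bif Nat.ble 1343 p then (bif Nat.ble 1345 p then (bif Nat.ble 1346 p then 7 else 15)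 else (bif Nat.ble 1344 p then 13 else 9)) else (bif Nat.ble 1341 p then (bif Nat.ble 1342 p then 14 else 6) else (bif Nat.ble 1340 p then 4 else 13)))) else (bif Nat.ble 1330 p then (bif Nat.ble 1334 p then (bif Nat.ble 1336 p then (bif Nat.ble 1337 p then (bif Nat.ble 1338 p then 10 else 12) else 7) else (bif Nat.ble 1335 p then 19 else 5)) else (bif Nat.ble 1332 p then (bif Nat.ble 1333 p then 6 else 16) else (bif Nat.ble 1331 p then 10 else 17))) else (bif Nat.ble 1326 p then (bif Nat.ble 1328 p then (bif Nat.ble 1329 p then 12 else 3) else (bif Nat.ble 1327 p then 12 else 6)) else (bif Nat.ble 1324 p then (bif Nat.ble 1325 p then 11 else 3) else (bif Nat.ble 1323 p then 15 else 14)))))) else (bif Nat.ble 978 p then (bif Nat.ble 995 p then (bif Nat.ble 1313 p then (bif Nat.ble 1317 p then (bif Nat.ble 1319 p then (bif Nat.ble 1320 p then (bif Nat.ble 1321 p then 11 else 15) else 17) else (bif Nat.ble 1318 p then 11 else 13)) else (bif Nat.ble 1315 p then (bif Nat.ble 1316 p then 14 else 11) else (bif Nat.ble 1314 p then 12 else 8))) else (bif Nat.ble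 1309 p then (bif Nat.ble 1311 p then (bif Nat.ble 1312 p then 6 else 5) else (bif Nat.ble 1310 p then 13 else 9)) else (bif Nat.ble 997 p then (bif Nat.ble 1308 p then 11 else 16) else (bif Nat.ble 996 p then 18 else 12)))) else (bif Nat.ble 986 p then (bif Nat.ble 990 p then (bif Nat.ble 992 p then (bif Nat.ble 993 p then (bif Nat.ble 994 p then 9 else 10) else 18) else (bif Nat.ble 991 p then 14 else 12)) else (bif Nat.ble 988 p then (bif Nat.ble 989 p then 4 else 17) else (bif Nat.ble 987 p then 18 else 10))) else (bif Nat.ble 982 p then (bif Nat.ble 984 p then (bif Nat.ble 985 p then 7 else 16) else (bif Nat.ble 983 p then 9 else 16)) else (bif Nat.ble 980 p then (bif Nat.ble 981 p then 19 else 12) else (bif Nat.ble 979 p then 8 else 12))))) else (bif Nat.ble 732 p then (bif Nat.ble 969 p then (bif Nat.ble 973 p then (bif Nat.ble 975 p then (bif Nat.ble 976 p then (bif Nat.ble 977 p then 7 else 8) else 5) else (bif Nat.ble 974 p then 15 else 7)) else (bif Nat.ble 971 p then (bif Nat.ble 972 p then 12 else 14) else (bif Nat.ble 970 p then 9 else 19)))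 else (bif Nat.ble 965 p then (bif Nat.ble 967 p then (bif Nat.ble 968 p then 13 else 14) else (bif Nat.ble 966 p then 14 else 12)) else (bif Nat.ble 734 p then (bif Nat.ble 964 p then 18 else 4) else (bif Nat.ble 733 p then 17 else 11)))) else (bif Nat.ble 724 p then (bif Nat.ble 728 p then (bif Nat.ble 730 p then (bif Nat.ble 731 p then 10 else 8) else (bif Nat.ble 729 p then 13 else 20)) else (bif Nat.ble 726 p then (bif Nat.ble 727 p then 12 else 13) else (bif Nat.ble 725 p then 14 else 20))) else (bif Nat.ble 720 p then (bif Nat.ble 722 p then (bif Nat.ble 723 p then 11 else 8) else (bif Nat.ble 721 p then 18 else 15)) else (bif Nat.ble 718 p then (bif Nat.ble 719 p then 14 else 13) else (bif Nat.ble 717 p then 17 else 12))))))) else (bif Nat.ble 261 p then (bif Nat.ble 511 p then (bif Nat.ble 528 p then (bif Nat.ble 707 p then (bif Nat.ble 711 p then (bif Nat.ble 713 p then (bif Nat.ble 714 p then (bif Nat.ble 715 p then 19 else 10) else 9) else (bif Nat.ble 712 p then 5 else 8)) else (bif Nat.ble 709 p then (bif Nat.ble 710 p then 6 else 6) else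 (bif Nat.ble 708 p then 13 else 8))) else (bif Nat.ble 532 p then (bif Nat.ble 534 p then (bif Nat.ble 535 p then 20 else 10) else (bif Nat.ble 533 p then 16 else 17)) else (bif Nat.ble 530 p then (bif Nat.ble 531 p then 0 else 13) else (bif Nat.ble 529 p then 6 else 7)))) else (bif Nat.ble 519 p then (bif Nat.ble 523 p then (bif Nat.ble 525 p then (bif Nat.ble 526 p then (bif Nat.ble 527 p then 0 else 17) else 9) else (bif Nat.ble 524 p then 8 else 5)) else (bif Nat.ble 521 p then (bif Nat.ble 522 p then 5 else 12) else (bif Nat.ble 520 p then 18 else 11))) else (bif Nat.ble 515 p then (bif Nat.ble 517 p then (bif Nat.ble 518 p then 8 else 14) else (bif Nat.ble 516 p then 10 else 17)) else (bif Nat.ble 513 p then (bif Nat.ble 514 p then 12 else 11) else (bif Nat.ble 512 p then 10 else 12))))) else (bif Nat.ble 368 p then (bif Nat.ble 376 p then (bif Nat.ble 380 p then (bif Nat.ble 382 p then (bif Nat.ble 383 p then (bif Nat.ble 510 p then 12 else 6) else 7) else (bif Nat.ble 381 p then 13 else 13)) else (bif Nat.ble 378 p then (bif Nat.ble 379 p then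 18 else 15) else (bif Nat.ble 377 p then 11 else 18))) else (bif Nat.ble 372 p then (bif Nat.ble 374 p then (bif Nat.ble 375 p then 10 else 14) else (bif Nat.ble 373 p then 11 else 12)) else (bif Nat.ble 370 p then (bif Nat.ble 371 p then 12 else 15) else (bif Nat.ble 369 p then 1 else 16)))) else (bif Nat.ble 269 p then (bif Nat.ble 363 p then (bif Nat.ble 365 p then (bif Nat.ble 366 p then (bif Nat.ble 367 p then 9 else 17) else 13) else (bif Nat.ble 364 p then 18 else 13)) else (bif Nat.ble 361 p then (bif Nat.ble 362 p then 15 else 10) else (bif Nat.ble 270 p then 11 else 14))) else (bif Nat.ble 265 p then (bif Nat.ble 267 p then (bif Nat.ble 268 p then 2 else 17) else (bif Nat.ble 266 p then 20 else 17)) else (bif Nat.ble 263 p then (bif Nat.ble 264 p then 10 else 11) else (bif Nat.ble 262 p then 16 else 12)))))) else (bif Nat.ble 124 p then (bif Nat.ble 183 p then (bif Nat.ble 252 p then (bif Nat.ble 256 p then (bif Nat.ble 258 p then (bif Nat.ble 259 p then (bif Nat.ble 260 p then 7 else 11) else 17) else (bif Nat.ble 257 p then 11 else 10)) else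 (bif Nat.ble 254 p then (bif Nat.ble 255 p then 13 else 19) else (bif Nat.ble 253 p then 9 else 12))) else (bif Nat.ble 187 p then (bif Nat.ble 250 p then (bif Nat.ble 251 p then 21 else 2) else (bif Nat.ble 249 p then 18 else 8)) else (bif Nat.ble 185 p then (bif Nat.ble 186 p then 14 else 10) else (bif Nat.ble 184 p then 18 else 12)))) else (bif Nat.ble 174 p then (bif Nat.ble 178 p then (bif Nat.ble 180 p then (bif Nat.ble 181 p then (bif Nat.ble 182 p then 12 else 11) else 14) else (bif Nat.ble 179 p then 11 else 18)) else (bif Nat.ble 176 p then (bif Nat.ble 177 p then 18 else 10) else (bif Nat.ble 175 p then 17 else 12))) else (bif Nat.ble 170 p then (bif Nat.ble 172 p then (bif Nat.ble 173 p then 9 else 16) else (bif Nat.ble 171 p then 17 else 9)) else (bif Nat.ble 126 p then (bif Nat.ble 127 p then 10 else 15) else (bif Nat.ble 125 p then 19 else 17))))) else (bif Nat.ble 79 p then (bif Nat.ble 115 p then (bif Nat.ble 119 p then (bif Nat.ble 121 p then (bif Nat.ble 122 p then (bif Nat.ble 123 p then 11 else 16) else 15) else (bif Nat.ble 120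 p then 6 else 11)) else (bif Nat.ble 117 p then (bif Nat.ble 118 p then 0 else 15) else (bif Nat.ble 116 p then 9 else 8))) else (bif Nat.ble 83 p then (bif Nat.ble 113 p then (bif Nat.ble 114 p then 13 else 13) else (bif Nat.ble 84 p then 16 else 7)) else (bif Nat.ble 81 p then (bif Nat.ble 82 p then 10 else 1) else (bif Nat.ble 80 p then 12 else 14)))) else (bif Nat.ble 52 p then (bif Nat.ble 56 p then (bif Nat.ble 77 p then (bif Nat.ble 78 p then 11 else 11) else (bif Nat.ble 76 p then 18 else 11)) else (bif Nat.ble 54 p then (bif Nat.ble 55 p then 13 else 10) else (bif Nat.ble 53 p then 11 else 11))) else (bif Nat.ble 35 p then (bif Nat.ble 37 p then (bif Nat.ble 51 p then 14 else 10) else (bif Nat.ble 36 p then 12 else 1)) else (bif Nat.ble 24 p then (bif Nat.ble 25 p then 0 else 16) else (bif Nat.ble 17 p then 15 else 0))))))))))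

/-- The point of a vector code. -/
def uT (p : Nat) : Nat := (bif Nat.ble 3323 p then (bif Nat.ble 4942 p then (bif Nat.ble 5753 p then (bif Nat.ble 6157 p then (bif Nat.ble 6355 p then (bif Nat.ble 6461 p then (bif Nat.ble 6510 p then (bif Nat.ble 6534 p then (bif Nat.ble 6547 p then (bif Nat.ble 6553 p then (bif Nat.ble 6555 p then (bif Nat.ble 6560 p then (bif Nat.beq p 6560 then 4521 else 0) else (bif Nat.beq p 6555 then 6055 else 0)) else (bif Nat.beq p 6553 then 24 else 0)) else (bif Nat.ble 6549 p then (bif Nat.beq p 6549 then 8003 else 0) else (bif Nat.beq p 6547 then 17531 else 0))) else (bif Nat.ble 6541 p then (bif Nat.ble 6545 p then (bif Nat.beq p 6545 then 6020 else 0) else (bif Nat.beq p 6541 then 13596 else 0)) else (bif Nat.ble 6539 p then (bif Nat.beq p 6539 then 10484 else 0) else (bif Nat.beq p 6534 then 8016 else 0)))) else (bif Nat.ble 6523 p then (bif Nat.ble 6529 p then (bif Nat.ble 6531 p then (bif Nat.beq p 6531 then 22575 else 0) else (bif Nat.beq p 6529 then 975 else 0)) else (bif Nat.ble 6527 p then (bif Nat.beq p 6527 then 17563 else 0) else (bif Nat.beq p 6523 then 1772 else 0))) else (bif Nat.ble 6516 p then (bif Nat.ble 6521 p then (bif Nat.beq p 6521 then 1801 else 0) else (bif Nat.beq p 6516 then 270 else 0)) else (bif Nat.ble 6515 p then (bif Nat.beq p 6515 then 2407 else 0) else (bif Nat.beq p 6510 then 22548 else 0))))) else (bif Nat.ble 6484 p then (bif Nat.ble 6497 p then (bif Nat.ble 6503 p then (bif Nat.ble 6505 p then (bif Nat.ble 6508 p then (bif Nat.beq p 6508 then 10521 else 0) else (bif Nat.beq p 6505 then 719 else 0)) else (bif Nat.beq p 6503 then 28902 else 0)) else (bif Nat.ble 6498 p then (bif Nat.beq p 6498 then 13654 else 0) else (bif Nat.beq p 6497 then 17566 else 0))) else (bif Nat.ble 6490 p then (bif Nat.ble 6492 p then (bif Nat.beq p 6492 then 3274 else 0) else (bif Nat.beq p 6490 then 8013 else 0)) else (bif Nat.ble 6486 p then (bif Nat.beq p 6486 then 1333 else 0) else (bif Nat.beq p 6484 then 2401 else 0)))) else (bif Nat.ble 6473 p then (bif Nat.ble 6478 p then (bif Nat.ble 6482 p then (bif Nat.beq p 6482 then 187 else 0) else (bif Nat.beq p 6478 then 263 else 0)) else (bif Nat.ble 6474 p then (bif Nat.beq p 6474 then 10552 else 0) else (bif Nat.beq p 6473 then 1328 else 0))) else (bif Nat.ble 6467 p then (bif Nat.ble 6468 p then (bif Nat.beq p 6468 then 4464 else 0) else (bif Nat.beq p 6467 then 1309 else 0)) else (bif Nat.ble 6463 p then (bif Nat.beq p 6463 then 8010 else 0) else (bif Nat.beq p 6461 then 10528 else 0)))))) else (bif Nat.ble 6410 p then (bif Nat.ble 6433 p then (bif Nat.ble 6445 p then (bif Nat.ble 6450 p then (bif Nat.ble 6453 p then (bif Nat.ble 6457 p then (bif Nat.beq p 6457 then 58407 else 0) else (bif Nat.beq p 6453 then 17569 else 0)) else (bif Nat.beq p 6450 then 10503 else 0)) else (bif Nat.ble 6449 p then (bif Nat.beq p 6449 then 17534 else 0) else (bif Nat.beq p 6445 then 10463 else 0))) else (bif Nat.ble 6439 p then (bif Nat.ble 6443 p then (bif Nat.beq p 6443 then 174 else 0) else (bif Nat.beq p 6439 then 1340 else 0)) else (bif Nat.ble 6435 p then (bif Nat.beq p 6435 then 731 else 0) else (bif Nat.beq p 6433 then 13627 else 0)))) else (bif Nat.ble 6421 p then (bif Nat.ble 6428 p then (bif Nat.ble 6429 p then (bif Nat.beq p 6429 then 5986 else 0) else (bif Nat.beq p 6428 then 10535 else 0)) else (bif Nat.ble 6425 p then (bif Nat.beq p 6425 then 10543 else 0) else (bif Nat.beq p 6421 then 22547 else 0))) else (bif Nat.ble 6415 p then (bif Nat.ble 6417 p then (bif Nat.beq p 6417 then 36823 else 0) else (bif Nat.beq p 6415 then 2421 else 0)) else (bif Nat.ble 6411 p then (bif Nat.beq p 6411 then 17558 else 0) else (bif Nat.beq p 6410 then 708 else 0))))) else (bif Nat.ble 6387 p then (bif Nat.ble 6394 p then (bif Nat.ble 6400 p then (bif Nat.ble 6404 p then (bif Nat.ble 6405 p then (bif Nat.beq p 6405 then 527 else 0) else (bif Nat.beq p 6404 then 1794 else 0)) else (bif Nat.beq p 6400 then 6061 else 0)) else (bif Nat.ble 6395 p then (bif Nat.beq p 6395 then 83 else 0) else (bif Nat.beq p 6394 then 181 else 0))) else (bif Nat.ble 6389 p then (bif Nat.ble 6393 p then (bif Nat.beq p 6393 then 361 else 0) else (bif Nat.beq p 6389 then 13607 else 0)) else (bif Nat.ble 6388 p then (bif Nat.beq p 6388 then 72451 else 0) else (bif Nat.beq p 6387 then 10523 else 0)))) else (bif Nat.ble 6371 p then (bif Nat.ble 6373 p then (bif Nat.ble 6374 p then (bif Nat.beq p 6374 then 46572 else 0) else (bif Nat.beq p 6373 then 10489 else 0)) else (bif Nat.ble 6372 p then (bif Nat.beq p 6372 then 17577 else 0) else (bif Nat.beq p 6371 then 4451 else 0))) else (bif Nat.ble 6369 p then (bif Nat.ble 6370 p then (bif Nat.beq p 6370 then 28881 else 0) else (bif Nat.beq p 6369 then 10551 else 0)) else (bif Nat.ble 6356 p then (bif Nat.beq p 6356 then 3311 else 0) else (bif Nat.beq p 6355 then 8059 else 0))))))) else (bif Nat.ble 6255 p then (bif Nat.ble 6307 p then (bif Nat.ble 6331 p then (bif Nat.ble 6338 p then (bif Nat.ble 6349 p then (bif Nat.ble 6350 p then (bif Nat.ble 6354 p then (bif Nat.beq p 6354 then 995 else 0) else (bif Nat.beq p 6350 then 13649 else 0)) else (bif Nat.beq p 6349 then 1787 else 0)) else (bif Nat.ble 6348 p then (bif Nat.beq p 6348 then 1308 else 0) else (bif Nat.beq p 6338 then 13615 else 0))) else (bif Nat.ble 6336 p then (bif Nat.ble 6337 p then (bif Nat.beq p 6337 then 7976 else 0) else (bif Nat.beq p 6336 then 17598 else 0)) else (bif Nat.ble 6332 p then (bif Nat.beq p 6332 then 3296 else 0) else (bif Nat.beq p 6331 then 10500 else 0)))) else (bif Nat.ble 6324 p then (bif Nat.ble 6326 p then (bif Nat.ble 6330 p then (bif Nat.beq p 6330 then 709 else 0) else (bif Nat.beq p 6326 then 4497 else 0)) else (bif Nat.ble 6325 p then (bif Nat.beq p 6325 then 1810 else 0) else (bif Nat.beq p 6324 then 1336 else 0))) else (bif Nat.ble 6314 p then (bif Nat.ble 6315 p then (bif Nat.beq p 6315 then 6078 else 0) else (bif Nat.beq p 6314 then 972 else 0)) else (bif Nat.ble 6310 p then (bif Nat.beq p 6310 then 2419 else 0) else (bif Nat.beq p 6307 then 7969 else 0))))) else (bif Nat.ble 6281 p then (bif Nat.ble 6291 p then (bif Nat.ble 6299 p then (bif Nat.ble 6302 p then (bif Nat.ble 6303 p then (bif Nat.beq p 6303 then 8029 else 0) else (bif Nat.beq p 6302 then 22534 else 0)) else (bif Nat.beq p 6299 then 4510 else 0)) else (bif Nat.ble 6295 p then (bif Nat.beq p 6295 then 712 else 0) else (bif Nat.beq p 6291 then 4504 else 0))) else (bif Nat.ble 6285 p then (bif Nat.ble 6289 p then (bif Nat.beq p 6289 then 4506 else 0) else (bif Nat.beq p 6285 then 726 else 0)) else (bif Nat.ble 6284 p then (bif Nat.beq p 6284 then 2430 else 0) else (bif Nat.beq p 6281 then 13683 else 0)))) else (bif Nat.ble 6269 p then (bif Nat.ble 6273 p then (bif Nat.ble 6277 p then (bif Nat.beq p 6277 then 262 else 0) else (bif Nat.beq p 6273 then 4490 else 0)) else (bif Nat.ble 6270 p then (bif Nat.beq p 6270 then 17527 else 0) else (bif Nat.beq p 6269 then 7993 else 0))) else (bif Nat.ble 6263 p then (bif Nat.ble 6265 p then (bif Nat.beq p 6265 then 17575 else 0) else (bif Nat.beq p 6263 then 28869 else 0)) else (bif Nat.ble 6259 p then (bif Nat.beq p 6259 then 4447 else 0) else (bif Nat.beq p 6255 then 7985 else 0)))))) else (bif Nat.ble 6204 p then (bif Nat.ble 6230 p then (bif Nat.ble 6240 p then (bif Nat.ble 6247 p then (bif Nat.ble 6251 p then (bif Nat.ble 6252 p then (bif Nat.beq p 6252 then 10562 else 0) else (bif Nat.beq p 6251 then 2445 else 0)) else (bif Nat.beq p 6247 then 376 else 0)) else (bif Nat.ble 6244 p then (bif Nat.beq p 6244 then 6014 else 0) else (bif Nat.beq p 6240 then 6018 else 0))) else (bif Nat.ble 6234 p then (bif Nat.ble 6239 p then (bif Nat.beq p 6239 then 1769 else 0) else (bif Nat.beq p 6234 then 1780 else 0)) else (bif Nat.ble 6232 p then (bif Nat.beq p 6232 then 28897 else 0) else (bif Nat.beq p 6230 then 10517 else 0)))) else (bif Nat.ble 6217 p then (bif Nat.ble 6222 p then (bif Nat.ble 6227 p then (bif Nat.beq p 6227 then 36817 else 0) else (bif Nat.beq p 6222 then 13672 else 0)) else (bif Nat.ble 6220 p then (bif Nat.beq p 6220 then 520 else 0) else (bif Nat.beq p 6217 then 10561 else 0))) else (bif Nat.ble 6210 p then (bif Nat.ble 6215 p then (bif Nat.beq p 6215 then 253 else 0) else (bif Nat.beq p 6210 then 2439 else 0)) else (bif Nat.ble 6209 p then (bif Nat.beq p 6209 then 382 else 0) else (bif Nat.beq p 6204 then 1805 else 0))))) else (bif Nat.ble 6181 p then (bif Nat.ble 6192 p then (bif Nat.ble 6199 p then (bif Nat.ble 6202 p then (bif Nat.beq p 6202 then 1312 else 0) else (bif Nat.beq p 6199 then 10470 else 0)) else (bif Nat.ble 6197 p then (bif Nat.beq p 6197 then 22580 else 0) else (bif Nat.beq p 6192 then 1792 else 0))) else (bif Nat.ble 6187 p then (bif Nat.ble 6189 p then (bif Nat.beq p 6189 then 22539 else 0) else (bif Nat.beq p 6187 then 4476 else 0)) else (bif Nat.ble 6185 p then (bif Nat.beq p 6185 then 2423 else 0) else (bif Nat.beq p 6181 then 7991 else 0)))) else (bif Nat.ble 6169 p then (bif Nat.ble 6174 p then (bif Nat.ble 6179 p then (bif Nat.beq p 6179 then 17578 else 0) else (bif Nat.beq p 6174 then 3279 else 0)) else (bif Nat.ble 6171 p then (bif Nat.beq p 6171 then 3305 else 0) else (bif Nat.beq p 6169 then 721 else 0))) else (bif Nat.ble 6164 p then (bif Nat.ble 6167 p then (bif Nat.beq p 6167 then 55 else 0) else (bif Nat.beq p 6164 then 10497 else 0)) else (bif Nat.ble 6159 p then (bif Nat.beq p 6159 then 13642 else 0) else (bif Nat.beq p 6157 then 7981 else 0)))))))) else (bif Nat.ble 5952 p then (bif Nat.ble 6054 p then (bif Nat.ble 6109 p then (bif Nat.ble 6129 p then (bif Nat.ble 6142 p then (bif Nat.ble 6153 p then (bif Nat.ble 6154 p then (bif Nat.ble 6155 p then (bif Nat.beq p 6155 then 4486 else 0) else (bif Nat.beq p 6154 then 13653 else 0)) else (bif Nat.beq p 6153 then 363 else 0)) else (bif Nat.ble 6143 p then (bif Nat.beq p 6143 then 10483 else 0) else (bif Nat.beq p 6142 then 17600 else 0))) else (bif Nat.ble 6131 p then (bif Nat.ble 6141 p then (bif Nat.beq p 6141 then 17579 else 0) else (bif Nat.beq p 6131 then 1337 else 0)) else (bif Nat.ble 6130 p then (bif Nat.beq p 6130 then 2455 else 0) else (bif Nat.beq p 6129 then 6080 else 0)))) else (bif Nat.ble 6113 p then (bif Nat.ble 6124 p then (bif Nat.ble 6125 p then (bif Nat.beq p 6125 then 10560 else 0) else (bif Nat.beq p 6124 then 2457 else 0)) else (bif Nat.ble 6123 p then (bif Nat.beq p 6123 then 986 else 0) else (bif Nat.beq p 6113 then 36821 else 0))) else (bif Nat.ble 6111 p then (bif Nat.ble 6112 p then (bif Nat.beq p 6112 then 28890 else 0) else (bif Nat.beq p 6111 then 6036 else 0)) else (bif Nat.ble 6110 p then (bif Nat.beq p 6110 then 365 else 0) else (bif Nat.beq p 6109 then 10492 else 0))))) else (bif Nat.ble 6079 p then (bif Nat.ble 6092 p then (bif Nat.ble 6094 p then (bif Nat.ble 6095 p then (bif Nat.ble 6108 p then (bif Nat.beq p 6108 then 2425 else 0) else (bif Nat.beq p 6095 then 7987 else 0)) else (bif Nat.beq p 6094 then 36806 else 0)) else (bif Nat.ble 6093 p then (bif Nat.beq p 6093 then 4444 else 0) else (bif Nat.beq p 6092 then 723 else 0))) else (bif Nat.ble 6090 p then (bif Nat.ble 6091 p then (bif Nat.beq p 6091 then 35 else 0) else (bif Nat.beq p 6090 then 377 else 0)) else (bif Nat.ble 6080 p then (bif Nat.beq p 6080 then 7978 else 0) else (bif Nat.beq p 6079 then 58406 else 0)))) else (bif Nat.ble 6067 p then (bif Nat.ble 6073 p then (bif Nat.ble 6078 p then (bif Nat.beq p 6078 then 6009 else 0) else (bif Nat.beq p 6073 then 7997 else 0)) else (bif Nat.ble 6070 p then (bif Nat.beq p 6070 then 17538 else 0) else (bif Nat.beq p 6067 then 3291 else 0))) else (bif Nat.ble 6062 p then (bif Nat.ble 6065 p then (bif Nat.beq p 6065 then 984 else 0) else (bif Nat.beq p 6062 then 534 else 0)) else (bif Nat.ble 6059 p then (bif Nat.beq p 6059 then 6059 else 0) else (bif Nat.beq p 6054 then 2420 else 0)))))) else (bif Nat.ble 6004 p then (bif Nat.ble 6028 p then (bif Nat.ble 6041 p then (bif Nat.ble 6047 p then (bif Nat.ble 6048 p then (bif Nat.ble 6051 p then (bif Nat.beq p 6051 then 22582 else 0) else (bif Nat.beq p 6048 then 28868 else 0)) else (bif Nat.beq p 6047 then 710 else 0)) else (bif Nat.ble 6044 p then (bif Nat.beq p 6044 then 13604 else 0) else (bif Nat.beq p 6041 then 10481 else 0))) else (bif Nat.ble 6033 p then (bif Nat.ble 6036 p then (bif Nat.beq p 6036 then 2411 else 0) else (bif Nat.beq p 6033 then 22571 else 0)) else (bif Nat.ble 6030 p then (bif Nat.beq p 6030 then 2397 else 0) else (bif Nat.beq p 6028 then 123 else 0)))) else (bif Nat.ble 6015 p then (bif Nat.ble 6022 p then (bif Nat.ble 6025 p then (bif Nat.beq p 6025 then 78 else 0) else (bif Nat.beq p 6022 then 525 else 0)) else (bif Nat.ble 6018 p then (bif Nat.beq p 6018 then 3321 else 0) else (bif Nat.beq p 6015 then 1345 else 0))) else (bif Nat.ble 6010 p then (bif Nat.ble 6012 p then (bif Nat.beq p 6012 then 3306 else 0) else (bif Nat.beq p 6010 then 1323 else 0)) else (bif Nat.ble 6007 p then (bif Nat.beq p 6007 then 28893 else 0) else (bif Nat.beq p 6004 then 22565 else 0))))) else (bif Nat.ble 5977 p then (bif Nat.ble 5990 p then (bif Nat.ble 5996 p then (bif Nat.ble 5999 p then (bif Nat.ble 6002 p then (bif Nat.beq p 6002 then 7983 else 0) else (bif Nat.beq p 5999 then 46577 else 0)) else (bif Nat.beq p 5996 then 5997 else 0)) else (bif Nat.ble 5993 p then (bif Nat.beq p 5993 then 6032 else 0) else (bif Nat.beq p 5990 then 255 else 0))) else (bif Nat.ble 5983 p then (bif Nat.ble 5987 p then (bif Nat.beq p 5987 then 13625 else 0) else (bif Nat.beq p 5983 then 3266 else 0)) else (bif Nat.ble 5980 p then (bif Nat.beq p 5980 then 2460 else 0) else (bif Nat.beq p 5977 then 3342 else 0)))) else (bif Nat.ble 5965 p then (bif Nat.ble 5970 p then (bif Nat.ble 5973 p then (bif Nat.beq p 5973 then 8036 else 0) else (bif Nat.beq p 5970 then 10545 else 0)) else (bif Nat.ble 5967 p then (bif Nat.beq p 5967 then 22526 else 0) else (bif Nat.beq p 5965 then 22530 else 0))) else (bif Nat.ble 5959 p then (bif Nat.ble 5962 p then (bif Nat.beq p 5962 then 2415 else 0) else (bif Nat.beq p 5959 then 46574 else 0)) else (bif Nat.ble 5955 p then (bif Nat.beq p 5955 then 5990 else 0) else (bif Nat.beq p 5952 then 10524 else 0))))))) else (bif Nat.ble 5856 p then (bif Nat.ble 5891 p then (bif Nat.ble 5927 p then (bif Nat.ble 5937 p then (bif Nat.ble 5945 p then (bif Nat.ble 5948 p then (bif Nat.ble 5949 p then (bif Nat.beq p 5949 then 4531 else 0) else (bif Nat.beq p 5948 then 184 else 0)) else (bif Nat.beq p 5945 then 526 else 0)) else (bif Nat.ble 5942 p then (bif Nat.beq p 5942 then 3325 else 0) else (bif Nat.beq p 5937 then 8073 else 0))) else (bif Nat.ble 5931 p then (bif Nat.ble 5934 p then (bif Nat.beq p 5934 then 383 else 0) else (bif Nat.beq p 5931 then 10568 else 0)) else (bif Nat.ble 5930 p then (bif Nat.beq p 5930 then 28895 else 0) else (bif Nat.beq p 5927 then 3299 else 0)))) else (bif Nat.ble 5914 p then (bif Nat.ble 5920 p then (bif Nat.ble 5924 p then (bif Nat.beq p 5924 then 1776 else 0) else (bif Nat.beq p 5920 then 1317 else 0)) else (bif Nat.ble 5917 p then (bif Nat.beq p 5917 then 4430 else 0) else (bif Nat.beq p 5914 then 22576 else 0))) else (bif Nat.ble 5893 p then (bif Nat.ble 5894 p then (bif Nat.beq p 5894 then 17602 else 0) else (bif Nat.beq p 5893 then 17546 else 0)) else (bif Nat.ble 5892 p then (bif Nat.beq p 5892 then 3302 else 0) else (bif Nat.beq p 5891 then 10576 else 0))))) else (bif Nat.ble 5873 p then (bif Nat.ble 5886 p then (bif Nat.ble 5888 p then (bif Nat.ble 5889 p then (bif Nat.ble 5890 p then (bif Nat.beq p 5890 then 13601 else 0) else (bif Nat.beq p 5889 then 28899 else 0)) else (bif Nat.beq p 5888 then 13669 else 0)) else (bif Nat.ble 5887 p then (bif Nat.beq p 5887 then 373 else 0) else (bif Nat.beq p 5886 then 1775 else 0))) else (bif Nat.ble 5875 p then (bif Nat.ble 5876 p then (bif Nat.beq p 5876 then 17552 else 0) else (bif Nat.beq p 5875 then 46583 else 0)) else (bif Nat.ble 5874 p then (bif Nat.beq p 5874 then 6007 else 0) else (bif Nat.beq p 5873 then 36802 else 0)))) else (bif Nat.ble 5869 p then (bif Nat.ble 5871 p then (bif Nat.ble 5872 p then (bif Nat.beq p 5872 then 4453 else 0) else (bif Nat.beq p 5871 then 13628 else 0)) else (bif Nat.ble 5870 p then (bif Nat.beq p 5870 then 13651 else 0) else (bif Nat.beq p 5869 then 5994 else 0))) else (bif Nat.ble 5858 p then (bif Nat.ble 5868 p then (bif Nat.beq p 5868 then 122 else 0) else (bif Nat.beq p 5858 then 2446 else 0)) else (bif Nat.ble 5857 p then (bif Nat.beq p 5857 then 991 else 0) else (bif Nat.beq p 5856 then 3314 else 0)))))) else (bif Nat.ble 5801 p then (bif Nat.ble 5825 p then (bif Nat.ble 5851 p then (bif Nat.ble 5853 p then (bif Nat.ble 5854 p then (bif Nat.ble 5855 p then (bif Nat.beq p 5855 then 6076 else 0) else (bif Nat.beq p 5854 then 10558 else 0)) else (bif Nat.beq p 5853 then 532 else 0)) else (bif Nat.ble 5852 p then (bif Nat.beq p 5852 then 117 else 0) else (bif Nat.beq p 5851 then 969 else 0))) else (bif Nat.ble 5829 p then (bif Nat.ble 5850 p then (bif Nat.beq p 5850 then 367 else 0) else (bif Nat.beq p 5829 then 1811 else 0)) else (bif Nat.ble 5827 p then (bif Nat.beq p 5827 then 8064 else 0) else (bif Nat.beq p 5825 then 176 else 0)))) else (bif Nat.ble 5812 p then (bif Nat.ble 5817 p then (bif Nat.ble 5822 p then (bif Nat.beq p 5822 then 7973 else 0) else (bif Nat.beq p 5817 then 17580 else 0)) else (bif Nat.ble 5815 p then (bif Nat.beq p 5815 then 3347 else 0) else (bif Nat.beq p 5812 then 13606 else 0))) else (bif Nat.ble 5805 p then (bif Nat.ble 5810 p then (bif Nat.beq p 5810 then 1314 else 0) else (bif Nat.beq p 5805 then 13670 else 0)) else (bif Nat.ble 5803 p then (bif Nat.beq p 5803 then 58405 else 0) else (bif Nat.beq p 5801 then 3300 else 0))))) else (bif Nat.ble 5777 p then (bif Nat.ble 5789 p then (bif Nat.ble 5793 p then (bif Nat.ble 5796 p then (bif Nat.beq p 5796 then 1786 else 0) else (bif Nat.beq p 5793 then 3332 else 0)) else (bif Nat.ble 5791 p then (bif Nat.beq p 5791 then 713 else 0) else (bif Nat.beq p 5789 then 725 else 0))) else (bif Nat.ble 5781 p then (bif Nat.ble 5786 p then (bif Nat.beq p 5786 then 4475 else 0) else (bif Nat.beq p 5781 then 22528 else 0)) else (bif Nat.ble 5779 p then (bif Nat.beq p 5779 then 8043 else 0) else (bif Nat.beq p 5777 then 8000 else 0)))) else (bif Nat.ble 5765 p then (bif Nat.ble 5770 p then (bif Nat.ble 5772 p then (bif Nat.beq p 5772 then 10518 else 0) else (bif Nat.beq p 5770 then 5995 else 0)) else (bif Nat.ble 5767 p then (bif Nat.beq p 5767 then 10485 else 0) else (bif Nat.beq p 5765 then 22564 else 0))) else (bif Nat.ble 5757 p then (bif Nat.ble 5760 p then (bif Nat.beq p 5760 then 4455 else 0) else (bif Nat.beq p 5757 then 4440 else 0)) else (bif Nat.ble 5755 p then (bif Nat.beq p 5755 then 983 else 0) else (bif Nat.beq p 5753 then 84 else 0))))))))) else (bif Nat.ble 5349 p then (bif Nat.ble 5547 p then (bif Nat.ble 5645 p then (bif Nat.ble 5700 p then (bif Nat.ble 5724 p then (bif Nat.ble 5736 p then (bif Nat.ble 5743 p then (bif Nat.ble 5747 p then (bif Nat.ble 5748 p then (bif Nat.beq p 5748 then 115 else 0) else (bif Nat.beq p 5747 then 734 else 0)) else (bif Nat.beq p 5743 then 1814 else 0)) else (bif Nat.ble 5740 p then (bif Nat.beq p 5740 then 17585 else 0) else (bif Nat.beq p 5736 then 17567 else 0))) else (bif Nat.ble 5732 p then (bif Nat.ble 5735 p then (bif Nat.beq p 5735 then 58408 else 0) else (bif Nat.beq p 5732 then 10542 else 0)) else (bif Nat.ble 5728 p then (bif Nat.beq p 5728 then 22549 else 0) else (bif Nat.beq p 5724 then 36815 else 0)))) else (bif Nat.ble 5712 p then (bif Nat.ble 5719 p then (bif Nat.ble 5723 p then (bif Nat.beq p 5723 then 514 else 0) else (bif Nat.beq p 5719 then 13676 else 0)) else (bif Nat.ble 5715 p then (bif Nat.beq p 5715 then 2427 else 0) else (bif Nat.beq p 5712 then 81 else 0))) else (bif Nat.ble 5707 p then (bif Nat.ble 5711 p then (bif Nat.beq p 5711 then 13674 else 0) else (bif Nat.beq p 5707 then 3309 else 0)) else (bif Nat.ble 5704 p then (bif Nat.beq p 5704 then 1779 else 0) else (bif Nat.beq p 5700 then 10469 else 0))))) else (bif Nat.ble 5675 p then (bif Nat.ble 5687 p then (bif Nat.ble 5691 p then (bif Nat.ble 5695 p then (bif Nat.ble 5699 p then (bif Nat.beq p 5699 then 46570 else 0) else (bif Nat.beq p 5695 then 1310 else 0)) else (bif Nat.beq p 5691 then 4461 else 0)) else (bif Nat.ble 5690 p then (bif Nat.beq p 5690 then 8015 else 0) else (bif Nat.beq p 5687 then 5996 else 0))) else (bif Nat.ble 5679 p then (bif Nat.ble 5683 p then (bif Nat.beq p 5683 then 36801 else 0) else (bif Nat.beq p 5679 then 5989 else 0)) else (bif Nat.ble 5676 p then (bif Nat.beq p 5676 then 264 else 0) else (bif Nat.beq p 5675 then 8058 else 0)))) else (bif Nat.ble 5667 p then (bif Nat.ble 5669 p then (bif Nat.ble 5671 p then (bif Nat.beq p 5671 then 3331 else 0) else (bif Nat.beq p 5669 then 3322 else 0)) else (bif Nat.ble 5668 p then (bif Nat.beq p 5668 then 2442 else 0) else (bif Nat.beq p 5667 then 729 else 0))) else (bif Nat.ble 5656 p then (bif Nat.ble 5657 p then (bif Nat.beq p 5657 then 1318 else 0) else (bif Nat.beq p 5656 then 4472 else 0)) else (bif Nat.ble 5655 p then (bif Nat.beq p 5655 then 8023 else 0) else (bif Nat.beq p 5645 then 17599 else 0)))))) else (bif Nat.ble 5598 p then (bif Nat.ble 5621 p then (bif Nat.ble 5634 p then (bif Nat.ble 5636 p then (bif Nat.ble 5643 p then (bif Nat.ble 5644 p then (bif Nat.beq p 5644 then 707 else 0) else (bif Nat.beq p 5643 then 28904 else 0)) else (bif Nat.beq p 5636 then 17542 else 0)) else (bif Nat.ble 5635 p then (bif Nat.beq p 5635 then 22562 else 0) else (bif Nat.beq p 5634 then 6037 else 0))) else (bif Nat.ble 5632 p then (bif Nat.ble 5633 p then (bif Nat.beq p 5633 then 2458 else 0) else (bif Nat.beq p 5632 then 6066 else 0)) else (bif Nat.ble 5631 p then (bif Nat.beq p 5631 then 1771 else 0) else (bif Nat.beq p 5621 then 17589 else 0)))) else (bif Nat.ble 5611 p then (bif Nat.ble 5619 p then (bif Nat.ble 5620 p then (bif Nat.beq p 5620 then 180 else 0) else (bif Nat.beq p 5619 then 7980 else 0)) else (bif Nat.ble 5612 p then (bif Nat.beq p 5612 then 3259 else 0) else (bif Nat.beq p 5611 then 8005 else 0))) else (bif Nat.ble 5600 p then (bif Nat.ble 5610 p then (bif Nat.beq p 5610 then 4468 else 0) else (bif Nat.beq p 5600 then 8082 else 0)) else (bif Nat.ble 5599 p then (bif Nat.beq p 5599 then 22572 else 0) else (bif Nat.beq p 5598 then 10478 else 0))))) else (bif Nat.ble 5572 p then (bif Nat.ble 5583 p then (bif Nat.ble 5595 p then (bif Nat.ble 5596 p then (bif Nat.ble 5597 p then (bif Nat.beq p 5597 then 4493 else 0) else (bif Nat.beq p 5596 then 82 else 0)) else (bif Nat.beq p 5595 then 13677 else 0)) else (bif Nat.ble 5587 p then (bif Nat.beq p 5587 then 17596 else 0) else (bif Nat.beq p 5583 then 13618 else 0))) else (bif Nat.ble 5577 p then (bif Nat.ble 5582 p then (bif Nat.beq p 5582 then 22574 else 0) else (bif Nat.beq p 5577 then 3303 else 0)) else (bif Nat.ble 5576 p then (bif Nat.beq p 5576 then 366 else 0) else (bif Nat.beq p 5572 then 17584 else 0)))) else (bif Nat.ble 5561 p then (bif Nat.ble 5566 p then (bif Nat.ble 5570 p then (bif Nat.beq p 5570 then 2443 else 0) else (bif Nat.beq p 5566 then 3343 else 0)) else (bif Nat.ble 5562 p then (bif Nat.beq p 5562 then 982 else 0) else (bif Nat.beq p 5561 then 268 else 0))) else (bif Nat.ble 5553 p then (bif Nat.ble 5557 p then (bif Nat.beq p 5557 then 37 else 0) else (bif Nat.beq p 5553 then 1313 else 0)) else (bif Nat.ble 5551 p then (bif Nat.beq p 5551 then 17535 else 0) else (bif Nat.beq p 5547 then 10477 else 0))))))) else (bif Nat.ble 5447 p then (bif Nat.ble 5496 p then (bif Nat.ble 5521 p then (bif Nat.ble 5532 p then (bif Nat.ble 5540 p then (bif Nat.ble 5541 p then (bif Nat.ble 5546 p then (bif Nat.beq p 5546 then 5980 else 0) else (bif Nat.beq p 5541 then 7977 else 0)) else (bif Nat.beq p 5540 then 4457 else 0)) else (bif Nat.ble 5536 p then (bif Nat.beq p 5536 then 46575 else 0) else (bif Nat.beq p 5532 then 46586 else 0))) else (bif Nat.ble 5527 p then (bif Nat.ble 5531 p then (bif Nat.beq p 5531 then 8037 else 0) else (bif Nat.beq p 5527 then 28884 else 0)) else (bif Nat.ble 5525 p then (bif Nat.beq p 5525 then 515 else 0) else (bif Nat.beq p 5521 then 1804 else 0)))) else (bif Nat.ble 5510 p then (bif Nat.ble 5515 p then (bif Nat.ble 5517 p then (bif Nat.beq p 5517 then 13680 else 0) else (bif Nat.beq p 5515 then 8060 else 0)) else (bif Nat.ble 5511 p then (bif Nat.beq p 5511 then 717 else 0) else (bif Nat.beq p 5510 then 2408 else 0))) else (bif Nat.ble 5502 p then (bif Nat.ble 5507 p then (bif Nat.beq p 5507 then 22533 else 0) else (bif Nat.beq p 5502 then 36816 else 0)) else (bif Nat.ble 5500 p then (bif Nat.beq p 5500 then 261 else 0) else (bif Nat.beq p 5496 then 4477 else 0))))) else (bif Nat.ble 5471 p then (bif Nat.ble 5481 p then (bif Nat.ble 5488 p then (bif Nat.ble 5492 p then (bif Nat.ble 5494 p then (bif Nat.beq p 5494 then 58410 else 0) else (bif Nat.beq p 5492 then 1789 else 0)) else (bif Nat.beq p 5488 then 8057 else 0)) else (bif Nat.ble 5486 p then (bif Nat.beq p 5486 then 1813 else 0) else (bif Nat.beq p 5481 then 364 else 0))) else (bif Nat.ble 5477 p then (bif Nat.ble 5479 p then (bif Nat.beq p 5479 then 1807 else 0) else (bif Nat.beq p 5477 then 3307 else 0)) else (bif Nat.ble 5472 p then (bif Nat.beq p 5472 then 52 else 0) else (bif Nat.beq p 5471 then 4458 else 0)))) else (bif Nat.ble 5458 p then (bif Nat.ble 5464 p then (bif Nat.ble 5466 p then (bif Nat.beq p 5466 then 22542 else 0) else (bif Nat.beq p 5464 then 10486 else 0)) else (bif Nat.ble 5460 p then (bif Nat.beq p 5460 then 7995 else 0) else (bif Nat.beq p 5458 then 5998 else 0))) else (bif Nat.ble 5451 p then (bif Nat.ble 5456 p then (bif Nat.beq p 5456 then 17583 else 0) else (bif Nat.beq p 5451 then 22581 else 0)) else (bif Nat.ble 5449 p then (bif Nat.beq p 5449 then 10473 else 0) else (bif Nat.beq p 5447 then 714 else 0)))))) else (bif Nat.ble 5392 p then (bif Nat.ble 5421 p then (bif Nat.ble 5430 p then (bif Nat.ble 5436 p then (bif Nat.ble 5441 p then (bif Nat.ble 5443 p then (bif Nat.beq p 5443 then 730 else 0) else (bif Nat.beq p 5441 then 4516 else 0)) else (bif Nat.beq p 5436 then 516 else 0)) else (bif Nat.ble 5435 p then (bif Nat.beq p 5435 then 28877 else 0) else (bif Nat.beq p 5430 then 1788 else 0))) else (bif Nat.ble 5423 p then (bif Nat.ble 5428 p then (bif Nat.beq p 5428 then 6030 else 0) else (bif Nat.beq p 5423 then 6035 else 0)) else (bif Nat.ble 5422 p then (bif Nat.beq p 5422 then 3270 else 0) else (bif Nat.beq p 5421 then 28871 else 0)))) else (bif Nat.ble 5402 p then (bif Nat.ble 5416 p then (bif Nat.ble 5417 p then (bif Nat.beq p 5417 then 8017 else 0) else (bif Nat.beq p 5416 then 10494 else 0)) else (bif Nat.ble 5415 p then (bif Nat.beq p 5415 then 1326 else 0) else (bif Nat.beq p 5402 then 8052 else 0))) else (bif Nat.ble 5400 p then (bif Nat.ble 5401 p then (bif Nat.beq p 5401 then 518 else 0) else (bif Nat.beq p 5400 then 3323 else 0)) else (bif Nat.ble 5393 p then (bif Nat.beq p 5393 then 13679 else 0) else (bif Nat.beq p 5392 then 724 else 0))))) else (bif Nat.ble 5372 p then (bif Nat.ble 5385 p then (bif Nat.ble 5387 p then (bif Nat.ble 5391 p then (bif Nat.beq p 5391 then 1816 else 0) else (bif Nat.beq p 5387 then 10482 else 0)) else (bif Nat.ble 5386 p then (bif Nat.beq p 5386 then 2398 else 0) else (bif Nat.beq p 5385 then 17530 else 0))) else (bif Nat.ble 5380 p then (bif Nat.ble 5381 p then (bif Nat.beq p 5381 then 3352 else 0) else (bif Nat.beq p 5380 then 8012 else 0)) else (bif Nat.ble 5379 p then (bif Nat.beq p 5379 then 3278 else 0) else (bif Nat.beq p 5372 then 6051 else 0)))) else (bif Nat.ble 5356 p then (bif Nat.ble 5370 p then (bif Nat.ble 5371 p then (bif Nat.beq p 5371 then 251 else 0) else (bif Nat.beq p 5370 then 17590 else 0)) else (bif Nat.ble 5357 p then (bif Nat.beq p 5357 then 533 else 0) else (bif Nat.beq p 5356 then 6065 else 0))) else (bif Nat.ble 5351 p then (bif Nat.ble 5355 p then (bif Nat.beq p 5355 then 2429 else 0) else (bif Nat.beq p 5351 then 10467 else 0)) else (bif Nat.ble 5350 p then (bif Nat.beq p 5350 then 22570 else 0) else (bif Nat.beq p 5349 then 1785 else 0)))))))) else (bif Nat.ble 5152 p then (bif Nat.ble 5244 p then (bif Nat.ble 5296 p then (bif Nat.ble 5319 p then (bif Nat.ble 5332 p then (bif Nat.ble 5339 p then (bif Nat.ble 5342 p then (bif Nat.ble 5345 p then (bif Nat.beq p 5345 then 13650 else 0) else (bif Nat.beq p 5342 then 6090 else 0)) else (bif Nat.beq p 5339 then 7979 else 0)) else (bif Nat.ble 5335 p then (bif Nat.beq p 5335 then 375 else 0) else (bif Nat.beq p 5332 then 2441 else 0))) else (bif Nat.ble 5325 p then (bif Nat.ble 5329 p then (bif Nat.beq p 5329 then 124 else 0) else (bif Nat.beq p 5325 then 3286 else 0)) else (bif Nat.ble 5322 p then (bif Nat.beq p 5322 then 58404 else 0) else (bif Nat.beq p 5319 then 28865 else 0)))) else (bif Nat.ble 5309 p then (bif Nat.ble 5313 p then (bif Nat.ble 5316 p then (bif Nat.beq p 5316 then 10522 else 0) else (bif Nat.beq p 5313 then 7974 else 0)) else (bif Nat.ble 5310 p then (bif Nat.beq p 5310 then 2422 else 0) else (bif Nat.beq p 5309 then 519 else 0))) else (bif Nat.ble 5303 p then (bif Nat.ble 5306 p then (bif Nat.beq p 5306 then 13663 else 0) else (bif Nat.beq p 5303 then 17595 else 0)) else (bif Nat.ble 5299 p then (bif Nat.beq p 5299 then 2436 else 0) else (bif Nat.beq p 5296 then 992 else 0))))) else (bif Nat.ble 5270 p then (bif Nat.ble 5280 p then (bif Nat.ble 5287 p then (bif Nat.ble 5290 p then (bif Nat.ble 5293 p then (bif Nat.beq p 5293 then 3326 else 0) else (bif Nat.beq p 5290 then 260 else 0)) else (bif Nat.beq p 5287 then 6060 else 0)) else (bif Nat.ble 5284 p then (bif Nat.beq p 5284 then 8054 else 0) else (bif Nat.beq p 5280 then 5993 else 0))) else (bif Nat.ble 5274 p then (bif Nat.ble 5277 p then (bif Nat.beq p 5277 then 4449 else 0) else (bif Nat.beq p 5274 then 46576 else 0)) else (bif Nat.ble 5273 p then (bif Nat.beq p 5273 then 1324 else 0) else (bif Nat.beq p 5270 then 13629 else 0)))) else (bif Nat.ble 5257 p then (bif Nat.ble 5263 p then (bif Nat.ble 5267 p then (bif Nat.beq p 5267 then 966 else 0) else (bif Nat.beq p 5263 then 28906 else 0)) else (bif Nat.ble 5260 p then (bif Nat.beq p 5260 then 10519 else 0) else (bif Nat.beq p 5257 then 13612 else 0))) else (bif Nat.ble 5252 p then (bif Nat.ble 5255 p then (bif Nat.beq p 5255 then 10559 else 0) else (bif Nat.beq p 5252 then 127 else 0)) else (bif Nat.ble 5249 p then (bif Nat.beq p 5249 then 8051 else 0) else (bif Nat.beq p 5244 then 8021 else 0)))))) else (bif Nat.ble 5193 p then (bif Nat.ble 5219 p then (bif Nat.ble 5229 p then (bif Nat.ble 5235 p then (bif Nat.ble 5238 p then (bif Nat.ble 5241 p then (bif Nat.beq p 5241 then 6040 else 0) else (bif Nat.beq p 5238 then 13595 else 0)) else (bif Nat.beq p 5235 then 13638 else 0)) else (bif Nat.ble 5232 p then (bif Nat.beq p 5232 then 965 else 0) else (bif Nat.beq p 5229 then 1321 else 0))) else (bif Nat.ble 5224 p then (bif Nat.ble 5227 p then (bif Nat.beq p 5227 then 22553 else 0) else (bif Nat.beq p 5224 then 362 else 0)) else (bif Nat.ble 5221 p then (bif Nat.beq p 5221 then 17544 else 0) else (bif Nat.beq p 5219 then 381 else 0)))) else (bif Nat.ble 5207 p then (bif Nat.ble 5213 p then (bif Nat.ble 5216 p then (bif Nat.beq p 5216 then 256 else 0) else (bif Nat.beq p 5213 then 2434 else 0)) else (bif Nat.ble 5210 p then (bif Nat.beq p 5210 then 6056 else 0) else (bif Nat.beq p 5207 then 987 else 0))) else (bif Nat.ble 5199 p then (bif Nat.ble 5204 p then (bif Nat.beq p 5204 then 2453 else 0) else (bif Nat.beq p 5199 then 17529 else 0)) else (bif Nat.ble 5196 p then (bif Nat.beq p 5196 then 522 else 0) else (bif Nat.beq p 5193 then 22536 else 0))))) else (bif Nat.ble 5160 p then (bif Nat.ble 5164 p then (bif Nat.ble 5185 p then (bif Nat.ble 5188 p then (bif Nat.ble 5191 p then (bif Nat.beq p 5191 then 10510 else 0) else (bif Nat.beq p 5188 then 13624 else 0)) else (bif Nat.beq p 5185 then 72453 else 0)) else (bif Nat.ble 5165 p then (bif Nat.beq p 5165 then 7970 else 0) else (bif Nat.beq p 5164 then 17532 else 0))) else (bif Nat.ble 5162 p then (bif Nat.ble 5163 p then (bif Nat.beq p 5163 then 6013 else 0) else (bif Nat.beq p 5162 then 6019 else 0)) else (bif Nat.ble 5161 p then (bif Nat.beq p 5161 then 13599 else 0) else (bif Nat.beq p 5160 then 72450 else 0)))) else (bif Nat.ble 5156 p then (bif Nat.ble 5158 p then (bif Nat.ble 5159 p then (bif Nat.beq p 5159 then 4470 else 0) else (bif Nat.beq p 5158 then 967 else 0)) else (bif Nat.ble 5157 p then (bif Nat.beq p 5157 then 13602 else 0) else (bif Nat.beq p 5156 then 3275 else 0))) else (bif Nat.ble 5154 p then (bif Nat.ble 5155 p then (bif Nat.beq p 5155 then 8049 else 0) else (bif Nat.beq p 5154 then 22563 else 0)) else (bif Nat.ble 5153 p then (bif Nat.beq p 5153 then 46582 else 0) else (bif Nat.beq p 5152 then 6074 else 0))))))) else (bif Nat.ble 5042 p then (bif Nat.ble 5092 p then (bif Nat.ble 5116 p then (bif Nat.ble 5120 p then (bif Nat.ble 5149 p then (bif Nat.ble 5150 p then (bif Nat.ble 5151 p then (bif Nat.beq p 5151 then 17570 else 0) else (bif Nat.beq p 5150 then 4445 else 0)) else (bif Nat.beq p 5149 then 13645 else 0)) else (bif Nat.ble 5148 p then (bif Nat.beq p 5148 then 977 else 0) else (bif Nat.beq p 5120 then 28901 else 0))) else (bif Nat.ble 5118 p then (bif Nat.ble 5119 p then (bif Nat.beq p 5119 then 521 else 0) else (bif Nat.beq p 5118 then 13593 else 0)) else (bif Nat.ble 5117 p then (bif Nat.beq p 5117 then 36799 else 0) else (bif Nat.beq p 5116 then 13661 else 0)))) else (bif Nat.ble 5112 p then (bif Nat.ble 5114 p then (bif Nat.ble 5115 p then (bif Nat.beq p 5115 then 13621 else 0) else (bif Nat.beq p 5114 then 3294 else 0)) else (bif Nat.ble 5113 p then (bif Nat.beq p 5113 then 1320 else 0) else (bif Nat.beq p 5112 then 17557 else 0))) else (bif Nat.ble 5099 p then (bif Nat.ble 5101 p then (bif Nat.beq p 5101 then 10553 else 0) else (bif Nat.beq p 5099 then 2454 else 0)) else (bif Nat.ble 5094 p then (bif Nat.beq p 5094 then 252 else 0) else (bif Nat.beq p 5092 then 13665 else 0))))) else (bif Nat.ble 5066 p then (bif Nat.ble 5076 p then (bif Nat.ble 5083 p then (bif Nat.ble 5085 p then (bif Nat.ble 5090 p then (bif Nat.beq p 5090 then 13681 else 0) else (bif Nat.beq p 5085 then 2406 else 0)) else (bif Nat.beq p 5083 then 36810 else 0)) else (bif Nat.ble 5081 p then (bif Nat.beq p 5081 then 1790 else 0) else (bif Nat.beq p 5076 then 4478 else 0))) else (bif Nat.ble 5070 p then (bif Nat.ble 5075 p then (bif Nat.beq p 5075 then 13619 else 0) else (bif Nat.beq p 5070 then 10504 else 0)) else (bif Nat.ble 5068 p then (bif Nat.beq p 5068 then 4448 else 0) else (bif Nat.beq p 5066 then 2463 else 0)))) else (bif Nat.ble 5052 p then (bif Nat.ble 5059 p then (bif Nat.ble 5061 p then (bif Nat.beq p 5061 then 4522 else 0) else (bif Nat.beq p 5059 then 250 else 0)) else (bif Nat.ble 5057 p then (bif Nat.beq p 5057 then 3281 else 0) else (bif Nat.beq p 5052 then 17547 else 0))) else (bif Nat.ble 5046 p then (bif Nat.ble 5050 p then (bif Nat.beq p 5050 then 7992 else 0) else (bif Nat.beq p 5046 then 4487 else 0)) else (bif Nat.ble 5044 p then (bif Nat.beq p 5044 then 46580 else 0) else (bif Nat.beq p 5042 then 1322 else 0)))))) else (bif Nat.ble 4989 p then (bif Nat.ble 5013 p then (bif Nat.ble 5026 p then (bif Nat.ble 5033 p then (bif Nat.ble 5035 p then (bif Nat.ble 5037 p then (bif Nat.beq p 5037 then 28873 else 0) else (bif Nat.beq p 5035 then 8050 else 0)) else (bif Nat.beq p 5033 then 973 else 0)) else (bif Nat.ble 5028 p then (bif Nat.beq p 5028 then 4500 else 0) else (bif Nat.beq p 5026 then 8065 else 0))) else (bif Nat.ble 5021 p then (bif Nat.ble 5024 p then (bif Nat.beq p 5024 then 77 else 0) else (bif Nat.beq p 5021 then 722 else 0)) else (bif Nat.ble 5017 p then (bif Nat.beq p 5017 then 1802 else 0) else (bif Nat.beq p 5013 then 4511 else 0)))) else (bif Nat.ble 5003 p then (bif Nat.ble 5008 p then (bif Nat.ble 5012 p then (bif Nat.beq p 5012 then 10476 else 0) else (bif Nat.beq p 5008 then 2404 else 0)) else (bif Nat.ble 5004 p then (bif Nat.beq p 5004 then 22583 else 0) else (bif Nat.beq p 5003 then 6027 else 0))) else (bif Nat.ble 4995 p then (bif Nat.ble 4999 p then (bif Nat.beq p 4999 then 22532 else 0) else (bif Nat.beq p 4995 then 58400 else 0)) else (bif Nat.ble 4993 p then (bif Nat.beq p 4993 then 10511 else 0) else (bif Nat.beq p 4989 then 17588 else 0))))) else (bif Nat.ble 4965 p then (bif Nat.ble 4979 p then (bif Nat.ble 4984 p then (bif Nat.ble 4988 p then (bif Nat.beq p 4988 then 58409 else 0) else (bif Nat.beq p 4984 then 182 else 0)) else (bif Nat.ble 4980 p then (bif Nat.beq p 4980 then 3336 else 0) else (bif Nat.beq p 4979 then 10572 else 0))) else (bif Nat.ble 4971 p then (bif Nat.ble 4975 p then (bif Nat.beq p 4975 then 4431 else 0) else (bif Nat.beq p 4971 then 13598 else 0)) else (bif Nat.ble 4970 p then (bif Nat.beq p 4970 then 13603 else 0) else (bif Nat.beq p 4965 then 3288 else 0)))) else (bif Nat.ble 4955 p then (bif Nat.ble 4960 p then (bif Nat.ble 4964 p then (bif Nat.beq p 4964 then 13592 else 0) else (bif Nat.beq p 4960 then 28883 else 0)) else (bif Nat.ble 4956 p then (bif Nat.beq p 4956 then 22558 else 0) else (bif Nat.beq p 4955 then 36824 else 0))) else (bif Nat.ble 4947 p then (bif Nat.ble 4951 p then (bif Nat.beq p 4951 then 10534 else 0) else (bif Nat.beq p 4947 then 4509 else 0)) else (bif Nat.ble 4946 p then (bif Nat.beq p 4946 then 1311 else 0) else (bif Nat.beq p 4942 then 4505 else 0)))))))))) else (bif Nat.ble 4137 p then (bif Nat.ble 4538 p then (bif Nat.ble 4738 p then (bif Nat.ble 4841 p then (bif Nat.ble 4891 p then (bif Nat.ble 4914 p then (bif Nat.ble 4924 p then (bif Nat.ble 4932 p then (bif Nat.ble 4933 p then (bif Nat.ble 4934 p then (bif Nat.beq p 4934 then 4525 else 0) else (bif Nat.beq p 4933 then 2459 else 0)) else (bif Nat.beq p 4932 then 1329 else 0)) else (bif Nat.ble 4925 p then (bif Nat.beq p 4925 then 28882 else 0) else (bif Nat.beq p 4924 then 3290 else 0))) else (bif Nat.ble 4916 p then (bif Nat.ble 4923 p then (bif Nat.beq p 4923 then 17526 else 0) else (bif Nat.beq p 4916 then 10501 else 0)) else (bif Nat.ble 4915 p then (bif Nat.beq p 4915 then 13682 else 0) else (bif Nat.beq p 4914 then 72452 else 0)))) else (bif Nat.ble 4901 p then (bif Nat.ble 4909 p then (bif Nat.ble 4910 p then (bif Nat.beq p 4910 then 6004 else 0) else (bif Nat.beq p 4909 then 1770 else 0)) else (bif Nat.ble 4908 p then (bif Nat.beq p 4908 then 8022 else 0) else (bif Nat.beq p 4901 then 374 else 0))) else (bif Nat.ble 4899 p then (bif Nat.ble 4900 p then (bif Nat.beq p 4900 then 56 else 0) else (bif Nat.beq p 4899 then 1339 else 0)) else (bif Nat.ble 4892 p then (bif Nat.beq p 4892 then 3297 else 0) else (bif Nat.beq p 4891 then 3283 else 0))))) else (bif Nat.ble 4867 p then (bif Nat.ble 4877 p then (bif Nat.ble 4885 p then (bif Nat.ble 4886 p then (bif Nat.ble 4890 p then (bif Nat.beq p 4890 then 7984 else 0) else (bif Nat.beq p 4886 then 22573 else 0)) else (bif Nat.beq p 4885 then 10555 else 0)) else (bif Nat.ble 4884 p then (bif Nat.beq p 4884 then 8028 else 0) else (bif Nat.beq p 4877 then 13588 else 0))) else (bif Nat.ble 4875 p then (bif Nat.ble 4876 p then (bif Nat.beq p 4876 then 971 else 0) else (bif Nat.beq p 4875 then 36820 else 0)) else (bif Nat.ble 4868 p then (bif Nat.beq p 4868 then 711 else 0) else (bif Nat.beq p 4867 then 994 else 0)))) else (bif Nat.ble 4851 p then (bif Nat.ble 4859 p then (bif Nat.ble 4866 p then (bif Nat.beq p 4866 then 10566 else 0) else (bif Nat.beq p 4859 then 17540 else 0)) else (bif Nat.ble 4855 p then (bif Nat.beq p 4855 then 5979 else 0) else (bif Nat.beq p 4851 then 10474 else 0))) else (bif Nat.ble 4846 p then (bif Nat.ble 4850 p then (bif Nat.beq p 4850 then 46578 else 0) else (bif Nat.beq p 4846 then 13643 else 0)) else (bif Nat.ble 4842 p then (bif Nat.beq p 4842 then 13655 else 0) else (bif Nat.beq p 4841 then 8083 else 0)))))) else (bif Nat.ble 4790 p then (bif Nat.ble 4812 p then (bif Nat.ble 4825 p then (bif Nat.ble 4830 p then (bif Nat.ble 4833 p then (bif Nat.ble 4837 p then (bif Nat.beq p 4837 then 265 else 0) else (bif Nat.beq p 4833 then 2450 else 0)) else (bif Nat.beq p 4830 then 1808 else 0)) else (bif Nat.ble 4829 p then (bif Nat.beq p 4829 then 368 else 0) else (bif Nat.beq p 4825 then 10554 else 0))) else (bif Nat.ble 4820 p then (bif Nat.ble 4821 p then (bif Nat.beq p 4821 then 17571 else 0) else (bif Nat.beq p 4820 then 17582 else 0)) else (bif Nat.ble 4816 p then (bif Nat.beq p 4816 then 36809 else 0) else (bif Nat.beq p 4812 then 13597 else 0)))) else (bif Nat.ble 4800 p then (bif Nat.ble 4807 p then (bif Nat.ble 4811 p then (bif Nat.beq p 4811 then 7968 else 0) else (bif Nat.beq p 4807 then 13637 else 0)) else (bif Nat.ble 4804 p then (bif Nat.beq p 4804 then 13617 else 0) else (bif Nat.beq p 4800 then 513 else 0))) else (bif Nat.ble 4795 p then (bif Nat.ble 4799 p then (bif Nat.beq p 4799 then 3295 else 0) else (bif Nat.beq p 4795 then 1341 else 0)) else (bif Nat.ble 4791 p then (bif Nat.beq p 4791 then 12 else 0) else (bif Nat.beq p 4790 then 1812 else 0))))) else (bif Nat.ble 4761 p then (bif Nat.ble 4775 p then (bif Nat.ble 4781 p then (bif Nat.ble 4782 p then (bif Nat.ble 4786 p then (bif Nat.beq p 4786 then 4481 else 0) else (bif Nat.beq p 4782 then 372 else 0)) else (bif Nat.beq p 4781 then 10490 else 0)) else (bif Nat.ble 4777 p then (bif Nat.beq p 4777 then 13600 else 0) else (bif Nat.beq p 4775 then 4469 else 0))) else (bif Nat.ble 4768 p then (bif Nat.ble 4770 p then (bif Nat.beq p 4770 then 10480 else 0) else (bif Nat.beq p 4768 then 10475 else 0)) else (bif Nat.ble 4766 p then (bif Nat.beq p 4766 then 7990 else 0) else (bif Nat.beq p 4761 then 6026 else 0)))) else (bif Nat.ble 4749 p then (bif Nat.ble 4757 p then (bif Nat.ble 4759 p then (bif Nat.beq p 4759 then 510 else 0) else (bif Nat.beq p 4757 then 1343 else 0)) else (bif Nat.ble 4752 p then (bif Nat.beq p 4752 then 1803 else 0) else (bif Nat.beq p 4749 then 4523 else 0))) else (bif Nat.ble 4745 p then (bif Nat.ble 4747 p then (bif Nat.beq p 4747 then 732 else 0) else (bif Nat.beq p 4745 then 517 else 0)) else (bif Nat.ble 4740 p then (bif Nat.beq p 4740 then 17576 else 0) else (bif Nat.beq p 4738 then 8067 else 0))))))) else (bif Nat.ble 4638 p then (bif Nat.ble 4682 p then (bif Nat.ble 4710 p then (bif Nat.ble 4724 p then (bif Nat.ble 4729 p then (bif Nat.ble 4731 p then (bif Nat.ble 4736 p then (bif Nat.beq p 4736 then 5992 else 0) else (bif Nat.beq p 4731 then 28870 else 0)) else (bif Nat.beq p 4729 then 715 else 0)) else (bif Nat.ble 4727 p then (bif Nat.beq p 4727 then 22556 else 0) else (bif Nat.beq p 4724 then 13633 else 0))) else (bif Nat.ble 4717 p then (bif Nat.ble 4719 p then (bif Nat.beq p 4719 then 4450 else 0) else (bif Nat.beq p 4717 then 10512 else 0)) else (bif Nat.ble 4715 p then (bif Nat.beq p 4715 then 6088 else 0) else (bif Nat.beq p 4710 then 370 else 0)))) else (bif Nat.ble 4699 p then (bif Nat.ble 4706 p then (bif Nat.ble 4708 p then (bif Nat.beq p 4708 then 988 else 0) else (bif Nat.beq p 4706 then 36803 else 0)) else (bif Nat.ble 4701 p then (bif Nat.beq p 4701 then 17555 else 0) else (bif Nat.beq p 4699 then 974 else 0))) else (bif Nat.ble 4690 p then (bif Nat.ble 4691 p then (bif Nat.beq p 4691 then 8031 else 0) else (bif Nat.beq p 4690 then 10509 else 0)) else (bif Nat.ble 4689 p then (bif Nat.beq p 4689 then 22537 else 0) else (bif Nat.beq p 4682 then 10472 else 0))))) else (bif Nat.ble 4661 p then (bif Nat.ble 4671 p then (bif Nat.ble 4673 p then (bif Nat.ble 4680 p then (bif Nat.ble 4681 p then (bif Nat.beq p 4681 then 4435 else 0) else (bif Nat.beq p 4680 then 13636 else 0)) else (bif Nat.beq p 4673 then 981 else 0)) else (bif Nat.ble 4672 p then (bif Nat.beq p 4672 then 185 else 0) else (bif Nat.beq p 4671 then 6086 else 0))) else (bif Nat.ble 4669 p then (bif Nat.ble 4670 p then (bif Nat.beq p 4670 then 116 else 0) else (bif Nat.beq p 4669 then 1799 else 0)) else (bif Nat.ble 4668 p then (bif Nat.beq p 4668 then 1334 else 0) else (bif Nat.beq p 4661 then 976 else 0)))) else (bif Nat.ble 4651 p then (bif Nat.ble 4659 p then (bif Nat.ble 4660 p then (bif Nat.beq p 4660 then 17545 else 0) else (bif Nat.beq p 4659 then 8020 else 0)) else (bif Nat.ble 4652 p then (bif Nat.beq p 4652 then 716 else 0) else (bif Nat.beq p 4651 then 6044 else 0))) else (bif Nat.ble 4640 p then (bif Nat.ble 4650 p then (bif Nat.beq p 4650 then 13605 else 0) else (bif Nat.beq p 4640 then 10505 else 0)) else (bif Nat.ble 4639 p then (bif Nat.beq p 4639 then 28875 else 0) else (bif Nat.beq p 4638 then 13644 else 0)))))) else (bif Nat.ble 4585 p then (bif Nat.ble 4608 p then (bif Nat.ble 4621 p then (bif Nat.ble 4629 p then (bif Nat.ble 4630 p then (bif Nat.ble 4631 p then (bif Nat.beq p 4631 then 1327 else 0) else (bif Nat.beq p 4630 then 8053 else 0)) else (bif Nat.beq p 4629 then 269 else 0)) else (bif Nat.ble 4622 p then (bif Nat.beq p 4622 then 13594 else 0) else (bif Nat.beq p 4621 then 17581 else 0))) else (bif Nat.ble 4614 p then (bif Nat.ble 4620 p then (bif Nat.beq p 4620 then 5984 else 0) else (bif Nat.beq p 4614 then 511 else 0)) else (bif Nat.ble 4611 p then (bif Nat.beq p 4611 then 22546 else 0) else (bif Nat.beq p 4608 then 28888 else 0)))) else (bif Nat.ble 4596 p then (bif Nat.ble 4602 p then (bif Nat.ble 4605 p then (bif Nat.beq p 4605 then 173 else 0) else (bif Nat.beq p 4602 then 3327 else 0)) else (bif Nat.ble 4599 p then (bif Nat.beq p 4599 then 8072 else 0) else (bif Nat.beq p 4596 then 512 else 0))) else (bif Nat.ble 4590 p then (bif Nat.ble 4593 p then (bif Nat.beq p 4593 then 13634 else 0) else (bif Nat.beq p 4590 then 6031 else 0)) else (bif Nat.ble 4588 p then (bif Nat.beq p 4588 then 1315 else 0) else (bif Nat.beq p 4585 then 2426 else 0))))) else (bif Nat.ble 4562 p then (bif Nat.ble 4573 p then (bif Nat.ble 4579 p then (bif Nat.ble 4582 p then (bif Nat.beq p 4582 then 22577 else 0) else (bif Nat.beq p 4579 then 13614 else 0)) else (bif Nat.ble 4576 p then (bif Nat.beq p 4576 then 10563 else 0) else (bif Nat.beq p 4573 then 17536 else 0))) else (bif Nat.ble 4567 p then (bif Nat.ble 4570 p then (bif Nat.beq p 4570 then 1335 else 0) else (bif Nat.beq p 4567 then 3340 else 0)) else (bif Nat.ble 4564 p then (bif Nat.beq p 4564 then 4494 else 0) else (bif Nat.beq p 4562 then 524 else 0)))) else (bif Nat.ble 4550 p then (bif Nat.ble 4556 p then (bif Nat.ble 4559 p then (bif Nat.beq p 4559 then 10556 else 0) else (bif Nat.beq p 4556 then 996 else 0)) else (bif Nat.ble 4553 p then (bif Nat.beq p 4553 then 4483 else 0) else (bif Nat.beq p 4550 then 10471 else 0))) else (bif Nat.ble 4544 p then (bif Nat.ble 4547 p then (bif Nat.beq p 4547 then 6025 else 0) else (bif Nat.beq p 4544 then 7982 else 0)) else (bif Nat.ble 4541 p then (bif Nat.beq p 4541 then 36811 else 0) else (bif Nat.beq p 4538 then 6001 else 0)))))))) else (bif Nat.ble 4333 p then (bif Nat.ble 4448 p then (bif Nat.ble 4487 p then (bif Nat.ble 4509 p then (bif Nat.ble 4521 p then (bif Nat.ble 4527 p then (bif Nat.ble 4530 p then (bif Nat.ble 4533 p then (bif Nat.beq p 4533 then 7986 else 0) else (bif Nat.beq p 4530 then 10479 else 0)) else (bif Nat.beq p 4527 then 36805 else 0)) else (bif Nat.ble 4524 p then (bif Nat.beq p 4524 then 530 else 0) else (bif Nat.beq p 4521 then 990 else 0))) else (bif Nat.ble 4515 p then (bif Nat.ble 4518 p then (bif Nat.beq p 4518 then 6064 else 0) else (bif Nat.beq p 4515 then 4518 else 0)) else (bif Nat.ble 4512 p then (bif Nat.beq p 4512 then 10525 else 0) else (bif Nat.beq p 4509 then 6050 else 0)))) else (bif Nat.ble 4499 p then (bif Nat.ble 4505 p then (bif Nat.ble 4508 p then (bif Nat.beq p 4508 then 17561 else 0) else (bif Nat.beq p 4505 then 22557 else 0)) else (bif Nat.ble 4502 p then (bif Nat.beq p 4502 then 17528 else 0) else (bif Nat.beq p 4499 then 2418 else 0))) else (bif Nat.ble 4493 p then (bif Nat.ble 4496 p then (bif Nat.beq p 4496 then 6005 else 0) else (bif Nat.beq p 4493 then 13610 else 0)) else (bif Nat.ble 4490 p then (bif Nat.beq p 4490 then 3341 else 0) else (bif Nat.beq p 4487 then 2464 else 0))))) else (bif Nat.ble 4459 p then (bif Nat.ble 4471 p then (bif Nat.ble 4477 p then (bif Nat.ble 4480 p then (bif Nat.ble 4484 p then (bif Nat.beq p 4484 then 1793 else 0) else (bif Nat.beq p 4480 then 125 else 0)) else (bif Nat.beq p 4477 then 171 else 0)) else (bif Nat.ble 4474 p then (bif Nat.beq p 4474 then 528 else 0) else (bif Nat.beq p 4471 then 8004 else 0))) else (bif Nat.ble 4465 p then (bif Nat.ble 4468 p then (bif Nat.beq p 4468 then 6015 else 0) else (bif Nat.beq p 4465 then 10464 else 0)) else (bif Nat.ble 4462 p then (bif Nat.beq p 4462 then 3262 else 0) else (bif Nat.beq p 4459 then 3273 else 0)))) else (bif Nat.ble 4452 p then (bif Nat.ble 4454 p then (bif Nat.ble 4456 p then (bif Nat.beq p 4456 then 28894 else 0) else (bif Nat.beq p 4454 then 28900 else 0)) else (bif Nat.ble 4453 p then (bif Nat.beq p 4453 then 10537 else 0) else (bif Nat.beq p 4452 then 13673 else 0))) else (bif Nat.ble 4450 p then (bif Nat.ble 4451 p then (bif Nat.beq p 4451 then 1777 else 0) else (bif Nat.beq p 4450 then 13660 else 0)) else (bif Nat.ble 4449 p then (bif Nat.beq p 4449 then 17533 else 0) else (bif Nat.beq p 4448 then 5978 else 0)))))) else (bif Nat.ble 4431 p then (bif Nat.ble 4439 p then (bif Nat.ble 4443 p then (bif Nat.ble 4445 p then (bif Nat.ble 4446 p then (bif Nat.ble 4447 p then (bif Nat.beq p 4447 then 371 else 0) else (bif Nat.beq p 4446 then 17559 else 0)) else (bif Nat.beq p 4445 then 968 else 0)) else (bif Nat.ble 4444 p then (bif Nat.beq p 4444 then 13675 else 0) else (bif Nat.beq p 4443 then 1342 else 0))) else (bif Nat.ble 4441 p then (bif Nat.ble 4442 p then (bif Nat.beq p 4442 then 172 else 0) else (bif Nat.beq p 4441 then 6071 else 0)) else (bif Nat.ble 4440 p then (bif Nat.beq p 4440 then 2451 else 0) else (bif Nat.beq p 4439 then 257 else 0)))) else (bif Nat.ble 4435 p then (bif Nat.ble 4437 p then (bif Nat.ble 4438 p then (bif Nat.beq p 4438 then 535 else 0) else (bif Nat.beq p 4437 then 3317 else 0)) else (bif Nat.ble 4436 p then (bif Nat.beq p 4436 then 10468 else 0) else (bif Nat.beq p 4435 then 46584 else 0))) else (bif Nat.ble 4433 p then (bif Nat.ble 4434 p then (bif Nat.beq p 4434 then 1316 else 0) else (bif Nat.beq p 4433 then 3292 else 0)) else (bif Nat.ble 4432 p then (bif Nat.beq p 4432 then 36819 else 0) else (bif Nat.beq p 4431 then 22566 else 0))))) else (bif Nat.ble 4356 p then (bif Nat.ble 4369 p then (bif Nat.ble 4428 p then (bif Nat.ble 4429 p then (bif Nat.ble 4430 p then (bif Nat.beq p 4430 then 13641 else 0) else (bif Nat.beq p 4429 then 4535 else 0)) else (bif Nat.beq p 4428 then 2424 else 0)) else (bif Nat.ble 4371 p then (bif Nat.beq p 4371 then 22542 else 0) else (bif Nat.beq p 4369 then 4458 else 0))) else (bif Nat.ble 4363 p then (bif Nat.ble 4367 p then (bif Nat.beq p 4367 then 10486 else 0) else (bif Nat.beq p 4363 then 3307 else 0)) else (bif Nat.ble 4361 p then (bif Nat.beq p 4361 then 1807 else 0) else (bif Nat.beq p 4356 then 52 else 0)))) else (bif Nat.ble 4346 p then (bif Nat.ble 4350 p then (bif Nat.ble 4355 p then (bif Nat.beq p 4355 then 5998 else 0) else (bif Nat.beq p 4350 then 7995 else 0)) else (bif Nat.ble 4348 p then (bif Nat.beq p 4348 then 17583 else 0) else (bif Nat.beq p 4346 then 58410 else 0))) else (bif Nat.ble 4339 p then (bif Nat.ble 4341 p then (bif Nat.beq p 4341 then 4477 else 0) else (bif Nat.beq p 4339 then 1789 else 0)) else (bif Nat.ble 4335 p then (bif Nat.beq p 4335 then 36816 else 0) else (bif Nat.beq p 4333 then 22533 else 0))))))) else (bif Nat.ble 4230 p then (bif Nat.ble 4283 p then (bif Nat.ble 4305 p then (bif Nat.ble 4318 p then (bif Nat.ble 4325 p then (bif Nat.ble 4327 p then (bif Nat.ble 4331 p then (bif Nat.beq p 4331 then 261 else 0) else (bif Nat.beq p 4327 then 1813 else 0)) else (bif Nat.beq p 4325 then 8057 else 0)) else (bif Nat.ble 4320 p then (bif Nat.beq p 4320 then 364 else 0) else (bif Nat.beq p 4318 then 4516 else 0))) else (bif Nat.ble 4311 p then (bif Nat.ble 4316 p then (bif Nat.beq p 4316 then 730 else 0) else (bif Nat.beq p 4311 then 516 else 0)) else (bif Nat.ble 4310 p then (bif Nat.beq p 4310 then 10473 else 0) else (bif Nat.beq p 4305 then 22581 else 0)))) else (bif Nat.ble 4295 p then (bif Nat.ble 4299 p then (bif Nat.ble 4303 p then (bif Nat.beq p 4303 then 714 else 0) else (bif Nat.beq p 4299 then 1788 else 0)) else (bif Nat.ble 4297 p then (bif Nat.beq p 4297 then 28877 else 0) else (bif Nat.beq p 4295 then 6030 else 0))) else (bif Nat.ble 4289 p then (bif Nat.ble 4290 p then (bif Nat.beq p 4290 then 10477 else 0) else (bif Nat.beq p 4289 then 17535 else 0)) else (bif Nat.ble 4285 p then (bif Nat.beq p 4285 then 5980 else 0) else (bif Nat.beq p 4283 then 37 else 0))))) else (bif Nat.ble 4254 p then (bif Nat.ble 4268 p then (bif Nat.ble 4273 p then (bif Nat.ble 4275 p then (bif Nat.ble 4279 p then (bif Nat.beq p 4279 then 268 else 0) else (bif Nat.beq p 4275 then 1313 else 0)) else (bif Nat.beq p 4273 then 4457 else 0)) else (bif Nat.ble 4269 p then (bif Nat.beq p 4269 then 7977 else 0) else (bif Nat.beq p 4268 then 46575 else 0))) else (bif Nat.ble 4260 p then (bif Nat.ble 4264 p then (bif Nat.beq p 4264 then 366 else 0) else (bif Nat.beq p 4260 then 3303 else 0)) else (bif Nat.ble 4259 p then (bif Nat.beq p 4259 then 17584 else 0) else (bif Nat.beq p 4254 then 13618 else 0)))) else (bif Nat.ble 4243 p then (bif Nat.ble 4249 p then (bif Nat.ble 4253 p then (bif Nat.beq p 4253 then 17596 else 0) else (bif Nat.beq p 4249 then 22574 else 0)) else (bif Nat.ble 4247 p then (bif Nat.beq p 4247 then 3343 else 0) else (bif Nat.beq p 4243 then 2443 else 0))) else (bif Nat.ble 4238 p then (bif Nat.ble 4239 p then (bif Nat.beq p 4239 then 982 else 0) else (bif Nat.beq p 4238 then 1804 else 0)) else (bif Nat.ble 4234 p then (bif Nat.beq p 4234 then 515 else 0) else (bif Nat.beq p 4230 then 13680 else 0)))))) else (bif Nat.ble 4180 p then (bif Nat.ble 4209 p then (bif Nat.ble 4217 p then (bif Nat.ble 4223 p then (bif Nat.ble 4224 p then (bif Nat.ble 4228 p then (bif Nat.beq p 4228 then 8037 else 0) else (bif Nat.beq p 4224 then 46586 else 0)) else (bif Nat.beq p 4223 then 28884 else 0)) else (bif Nat.ble 4218 p then (bif Nat.beq p 4218 then 717 else 0) else (bif Nat.beq p 4217 then 8060 else 0))) else (bif Nat.ble 4211 p then (bif Nat.ble 4213 p then (bif Nat.beq p 4213 then 2408 else 0) else (bif Nat.beq p 4211 then 2398 else 0)) else (bif Nat.ble 4210 p then (bif Nat.beq p 4210 then 10482 else 0) else (bif Nat.beq p 4209 then 17530 else 0)))) else (bif Nat.ble 4190 p then (bif Nat.ble 4195 p then (bif Nat.ble 4196 p then (bif Nat.beq p 4196 then 724 else 0) else (bif Nat.beq p 4195 then 13679 else 0)) else (bif Nat.ble 4194 p then (bif Nat.beq p 4194 then 1816 else 0) else (bif Nat.beq p 4190 then 8012 else 0))) else (bif Nat.ble 4188 p then (bif Nat.ble 4189 p then (bif Nat.beq p 4189 then 3352 else 0) else (bif Nat.beq p 4188 then 3278 else 0)) else (bif Nat.ble 4181 p then (bif Nat.beq p 4181 then 10494 else 0) else (bif Nat.beq p 4180 then 8017 else 0))))) else (bif Nat.ble 4151 p then (bif Nat.ble 4173 p then (bif Nat.ble 4175 p then (bif Nat.ble 4179 p then (bif Nat.beq p 4179 then 1326 else 0) else (bif Nat.beq p 4175 then 3270 else 0)) else (bif Nat.ble 4174 p then (bif Nat.beq p 4174 then 6035 else 0) else (bif Nat.beq p 4173 then 28871 else 0))) else (bif Nat.ble 4159 p then (bif Nat.ble 4160 p then (bif Nat.beq p 4160 then 518 else 0) else (bif Nat.beq p 4159 then 8052 else 0)) else (bif Nat.ble 4158 p then (bif Nat.beq p 4158 then 3323 else 0) else (bif Nat.beq p 4151 then 6065 else 0)))) else (bif Nat.ble 4144 p then (bif Nat.ble 4149 p then (bif Nat.ble 4150 p then (bif Nat.beq p 4150 then 533 else 0) else (bif Nat.beq p 4149 then 2429 else 0)) else (bif Nat.ble 4145 p then (bif Nat.beq p 4145 then 251 else 0) else (bif Nat.beq p 4144 then 6051 else 0))) else (bif Nat.ble 4139 p then (bif Nat.ble 4143 p then (bif Nat.beq p 4143 then 17590 else 0) else (bif Nat.beq p 4139 then 22570 else 0)) else (bif Nat.ble 4138 p then (bif Nat.beq p 4138 then 10467 else 0) else (bif Nat.beq p 4137 then 1785 else 0))))))))) else (bif Nat.ble 3727 p then (bif Nat.ble 3928 p then (bif Nat.ble 4029 p then (bif Nat.ble 4081 p then (bif Nat.ble 4105 p then (bif Nat.ble 4117 p then (bif Nat.ble 4124 p then (bif Nat.ble 4125 p then (bif Nat.ble 4129 p then (bif Nat.beq p 4129 then 13674 else 0) else (bif Nat.beq p 4125 then 81 else 0)) else (bif Nat.beq p 4124 then 3309 else 0)) else (bif Nat.ble 4121 p then (bif Nat.beq p 4121 then 13676 else 0) else (bif Nat.beq p 4117 then 514 else 0))) else (bif Nat.ble 4110 p then (bif Nat.ble 4113 p then (bif Nat.beq p 4113 then 2427 else 0) else (bif Nat.beq p 4110 then 10469 else 0)) else (bif Nat.ble 4109 p then (bif Nat.beq p 4109 then 1779 else 0) else (bif Nat.beq p 4105 then 46570 else 0)))) else (bif Nat.ble 4093 p then (bif Nat.ble 4100 p then (bif Nat.ble 4101 p then (bif Nat.beq p 4101 then 17567 else 0) else (bif Nat.beq p 4100 then 17585 else 0)) else (bif Nat.ble 4096 p then (bif Nat.beq p 4096 then 58408 else 0) else (bif Nat.beq p 4093 then 734 else 0))) else (bif Nat.ble 4088 p then (bif Nat.ble 4089 p then (bif Nat.beq p 4089 then 115 else 0) else (bif Nat.beq p 4088 then 1814 else 0)) else (bif Nat.ble 4085 p then (bif Nat.beq p 4085 then 22549 else 0) else (bif Nat.beq p 4081 then 10542 else 0))))) else (bif Nat.ble 4053 p then (bif Nat.ble 4065 p then (bif Nat.ble 4072 p then (bif Nat.ble 4076 p then (bif Nat.ble 4077 p then (bif Nat.beq p 4077 then 36815 else 0) else (bif Nat.beq p 4076 then 36801 else 0)) else (bif Nat.beq p 4072 then 5996 else 0)) else (bif Nat.ble 4068 p then (bif Nat.beq p 4068 then 5989 else 0) else (bif Nat.beq p 4065 then 4461 else 0))) else (bif Nat.ble 4060 p then (bif Nat.ble 4064 p then (bif Nat.beq p 4064 then 1310 else 0) else (bif Nat.beq p 4060 then 8015 else 0)) else (bif Nat.ble 4057 p then (bif Nat.beq p 4057 then 8058 else 0) else (bif Nat.beq p 4053 then 264 else 0)))) else (bif Nat.ble 4042 p then (bif Nat.ble 4049 p then (bif Nat.ble 4052 p then (bif Nat.beq p 4052 then 3331 else 0) else (bif Nat.beq p 4049 then 713 else 0)) else (bif Nat.ble 4044 p then (bif Nat.beq p 4044 then 3332 else 0) else (bif Nat.beq p 4042 then 725 else 0))) else (bif Nat.ble 4037 p then (bif Nat.ble 4039 p then (bif Nat.beq p 4039 then 3300 else 0) else (bif Nat.beq p 4037 then 58405 else 0)) else (bif Nat.ble 4032 p then (bif Nat.beq p 4032 then 1786 else 0) else (bif Nat.beq p 4029 then 22528 else 0)))))) else (bif Nat.ble 3980 p then (bif Nat.ble 4003 p then (bif Nat.ble 4016 p then (bif Nat.ble 4020 p then (bif Nat.ble 4025 p then (bif Nat.ble 4027 p then (bif Nat.beq p 4027 then 4475 else 0) else (bif Nat.beq p 4025 then 8043 else 0)) else (bif Nat.beq p 4020 then 17580 else 0)) else (bif Nat.ble 4018 p then (bif Nat.beq p 4018 then 7973 else 0) else (bif Nat.beq p 4016 then 3347 else 0))) else (bif Nat.ble 4008 p then (bif Nat.ble 4013 p then (bif Nat.beq p 4013 then 8064 else 0) else (bif Nat.beq p 4008 then 1811 else 0)) else (bif Nat.ble 4006 p then (bif Nat.beq p 4006 then 176 else 0) else (bif Nat.beq p 4003 then 1314 else 0)))) else (bif Nat.ble 3992 p then (bif Nat.ble 3996 p then (bif Nat.ble 4001 p then (bif Nat.beq p 4001 then 13606 else 0) else (bif Nat.beq p 3996 then 13670 else 0)) else (bif Nat.ble 3994 p then (bif Nat.beq p 3994 then 22564 else 0) else (bif Nat.beq p 3992 then 10485 else 0))) else (bif Nat.ble 3984 p then (bif Nat.ble 3987 p then (bif Nat.beq p 3987 then 4455 else 0) else (bif Nat.beq p 3984 then 10518 else 0)) else (bif Nat.ble 3982 p then (bif Nat.beq p 3982 then 8000 else 0) else (bif Nat.beq p 3980 then 5995 else 0))))) else (bif Nat.ble 3951 p then (bif Nat.ble 3964 p then (bif Nat.ble 3970 p then (bif Nat.ble 3972 p then (bif Nat.ble 3977 p then (bif Nat.beq p 3977 then 983 else 0) else (bif Nat.beq p 3972 then 4440 else 0)) else (bif Nat.beq p 3970 then 84 else 0)) else (bif Nat.ble 3965 p then (bif Nat.beq p 3965 then 6066 else 0) else (bif Nat.beq p 3964 then 2458 else 0))) else (bif Nat.ble 3953 p then (bif Nat.ble 3963 p then (bif Nat.beq p 3963 then 1771 else 0) else (bif Nat.beq p 3953 then 22562 else 0)) else (bif Nat.ble 3952 p then (bif Nat.beq p 3952 then 17542 else 0) else (bif Nat.beq p 3951 then 6037 else 0)))) else (bif Nat.ble 3941 p then (bif Nat.ble 3949 p then (bif Nat.ble 3950 p then (bif Nat.beq p 3950 then 180 else 0) else (bif Nat.beq p 3949 then 17589 else 0)) else (bif Nat.ble 3948 p then (bif Nat.beq p 3948 then 7980 else 0) else (bif Nat.beq p 3941 then 4472 else 0))) else (bif Nat.ble 3939 p then (bif Nat.ble 3940 p then (bif Nat.beq p 3940 then 1318 else 0) else (bif Nat.beq p 3939 then 8023 else 0)) else (bif Nat.ble 3929 p then (bif Nat.beq p 3929 then 2442 else 0) else (bif Nat.beq p 3928 then 3322 else 0))))))) else (bif Nat.ble 3825 p then (bif Nat.ble 3876 p then (bif Nat.ble 3904 p then (bif Nat.ble 3908 p then (bif Nat.ble 3916 p then (bif Nat.ble 3917 p then (bif Nat.ble 3927 p then (bif Nat.beq p 3927 then 729 else 0) else (bif Nat.beq p 3917 then 707 else 0)) else (bif Nat.beq p 3916 then 17599 else 0)) else (bif Nat.ble 3915 p then (bif Nat.beq p 3915 then 28904 else 0) else (bif Nat.beq p 3908 then 22572 else 0))) else (bif Nat.ble 3906 p then (bif Nat.ble 3907 p then (bif Nat.beq p 3907 then 8082 else 0) else (bif Nat.beq p 3906 then 10478 else 0)) else (bif Nat.ble 3905 p then (bif Nat.beq p 3905 then 8005 else 0) else (bif Nat.beq p 3904 then 3259 else 0)))) else (bif Nat.ble 3891 p then (bif Nat.ble 3893 p then (bif Nat.ble 3903 p then (bif Nat.beq p 3903 then 4468 else 0) else (bif Nat.beq p 3893 then 82 else 0)) else (bif Nat.ble 3892 p then (bif Nat.beq p 3892 then 4493 else 0) else (bif Nat.beq p 3891 then 13677 else 0))) else (bif Nat.ble 3884 p then (bif Nat.ble 3887 p then (bif Nat.beq p 3887 then 362 else 0) else (bif Nat.beq p 3884 then 22553 else 0)) else (bif Nat.ble 3881 p then (bif Nat.beq p 3881 then 17544 else 0) else (bif Nat.beq p 3876 then 965 else 0))))) else (bif Nat.ble 3851 p then (bif Nat.ble 3862 p then (bif Nat.ble 3868 p then (bif Nat.ble 3870 p then (bif Nat.ble 3873 p then (bif Nat.beq p 3873 then 13638 else 0) else (bif Nat.beq p 3870 then 1321 else 0)) else (bif Nat.beq p 3868 then 256 else 0)) else (bif Nat.ble 3865 p then (bif Nat.beq p 3865 then 381 else 0) else (bif Nat.beq p 3862 then 2434 else 0))) else (bif Nat.ble 3856 p then (bif Nat.ble 3859 p then (bif Nat.beq p 3859 then 127 else 0) else (bif Nat.beq p 3856 then 10559 else 0)) else (bif Nat.ble 3853 p then (bif Nat.beq p 3853 then 8051 else 0) else (bif Nat.beq p 3851 then 10519 else 0)))) else (bif Nat.ble 3837 p then (bif Nat.ble 3845 p then (bif Nat.ble 3848 p then (bif Nat.beq p 3848 then 28906 else 0) else (bif Nat.beq p 3845 then 13612 else 0)) else (bif Nat.ble 3840 p then (bif Nat.beq p 3840 then 6040 else 0) else (bif Nat.beq p 3837 then 8021 else 0))) else (bif Nat.ble 3831 p then (bif Nat.ble 3834 p then (bif Nat.beq p 3834 then 13595 else 0) else (bif Nat.beq p 3831 then 522 else 0)) else (bif Nat.ble 3828 p then (bif Nat.beq p 3828 then 17529 else 0) else (bif Nat.beq p 3825 then 22536 else 0)))))) else (bif Nat.ble 3776 p then (bif Nat.ble 3799 p then (bif Nat.ble 3812 p then (bif Nat.ble 3817 p then (bif Nat.ble 3820 p then (bif Nat.ble 3823 p then (bif Nat.beq p 3823 then 987 else 0) else (bif Nat.beq p 3820 then 6056 else 0)) else (bif Nat.beq p 3817 then 2453 else 0)) else (bif Nat.ble 3815 p then (bif Nat.beq p 3815 then 13624 else 0) else (bif Nat.beq p 3812 then 10510 else 0))) else (bif Nat.ble 3805 p then (bif Nat.ble 3809 p then (bif Nat.beq p 3809 then 72453 else 0) else (bif Nat.beq p 3805 then 13663 else 0)) else (bif Nat.ble 3802 p then (bif Nat.beq p 3802 then 519 else 0) else (bif Nat.beq p 3799 then 17595 else 0)))) else (bif Nat.ble 3788 p then (bif Nat.ble 3792 p then (bif Nat.ble 3795 p then (bif Nat.beq p 3795 then 7974 else 0) else (bif Nat.beq p 3792 then 10522 else 0)) else (bif Nat.ble 3789 p then (bif Nat.beq p 3789 then 2422 else 0) else (bif Nat.beq p 3788 then 992 else 0))) else (bif Nat.ble 3782 p then (bif Nat.ble 3785 p then (bif Nat.beq p 3785 then 2436 else 0) else (bif Nat.beq p 3782 then 3326 else 0)) else (bif Nat.ble 3779 p then (bif Nat.beq p 3779 then 2441 else 0) else (bif Nat.beq p 3776 then 375 else 0))))) else (bif Nat.ble 3750 p then (bif Nat.ble 3763 p then (bif Nat.ble 3769 p then (bif Nat.ble 3773 p then (bif Nat.beq p 3773 then 124 else 0) else (bif Nat.beq p 3769 then 6090 else 0)) else (bif Nat.ble 3766 p then (bif Nat.beq p 3766 then 13650 else 0) else (bif Nat.beq p 3763 then 7979 else 0))) else (bif Nat.ble 3756 p then (bif Nat.ble 3759 p then (bif Nat.beq p 3759 then 58404 else 0) else (bif Nat.beq p 3756 then 3286 else 0)) else (bif Nat.ble 3753 p then (bif Nat.beq p 3753 then 28865 else 0) else (bif Nat.beq p 3750 then 4449 else 0)))) else (bif Nat.ble 3740 p then (bif Nat.ble 3744 p then (bif Nat.ble 3747 p then (bif Nat.beq p 3747 then 5993 else 0) else (bif Nat.beq p 3744 then 46576 else 0)) else (bif Nat.ble 3743 p then (bif Nat.beq p 3743 then 6060 else 0) else (bif Nat.beq p 3740 then 260 else 0))) else (bif Nat.ble 3733 p then (bif Nat.ble 3737 p then (bif Nat.beq p 3737 then 8054 else 0) else (bif Nat.beq p 3733 then 13629 else 0)) else (bif Nat.ble 3730 p then (bif Nat.beq p 3730 then 1324 else 0) else (bif Nat.beq p 3727 then 966 else 0)))))))) else (bif Nat.ble 3522 p then (bif Nat.ble 3626 p then (bif Nat.ble 3673 p then (bif Nat.ble 3708 p then (bif Nat.ble 3712 p then (bif Nat.ble 3714 p then (bif Nat.ble 3715 p then (bif Nat.ble 3716 p then (bif Nat.beq p 3716 then 6074 else 0) else (bif Nat.beq p 3715 then 46582 else 0)) else (bif Nat.beq p 3714 then 17570 else 0)) else (bif Nat.ble 3713 p then (bif Nat.beq p 3713 then 8049 else 0) else (bif Nat.beq p 3712 then 3275 else 0))) else (bif Nat.ble 3710 p then (bif Nat.ble 3711 p then (bif Nat.beq p 3711 then 22563 else 0) else (bif Nat.beq p 3710 then 13645 else 0)) else (bif Nat.ble 3709 p then (bif Nat.beq p 3709 then 4445 else 0) else (bif Nat.beq p 3708 then 977 else 0)))) else (bif Nat.ble 3677 p then (bif Nat.ble 3679 p then (bif Nat.ble 3680 p then (bif Nat.beq p 3680 then 13599 else 0) else (bif Nat.beq p 3679 then 6019 else 0)) else (bif Nat.ble 3678 p then (bif Nat.beq p 3678 then 72450 else 0) else (bif Nat.beq p 3677 then 17532 else 0))) else (bif Nat.ble 3675 p then (bif Nat.ble 3676 p then (bif Nat.beq p 3676 then 7970 else 0) else (bif Nat.beq p 3675 then 6013 else 0)) else (bif Nat.ble 3674 p then (bif Nat.beq p 3674 then 967 else 0) else (bif Nat.beq p 3673 then 4470 else 0))))) else (bif Nat.ble 3664 p then (bif Nat.ble 3668 p then (bif Nat.ble 3670 p then (bif Nat.ble 3671 p then (bif Nat.ble 3672 p then (bif Nat.beq p 3672 then 13602 else 0) else (bif Nat.beq p 3671 then 13661 else 0)) else (bif Nat.beq p 3670 then 36799 else 0)) else (bif Nat.ble 3669 p then (bif Nat.beq p 3669 then 13621 else 0) else (bif Nat.beq p 3668 then 521 else 0))) else (bif Nat.ble 3666 p then (bif Nat.ble 3667 p then (bif Nat.beq p 3667 then 28901 else 0) else (bif Nat.beq p 3666 then 13593 else 0)) else (bif Nat.ble 3665 p then (bif Nat.beq p 3665 then 1320 else 0) else (bif Nat.beq p 3664 then 3294 else 0)))) else (bif Nat.ble 3636 p then (bif Nat.ble 3643 p then (bif Nat.ble 3663 p then (bif Nat.beq p 3663 then 17557 else 0) else (bif Nat.beq p 3643 then 22580 else 0)) else (bif Nat.ble 3641 p then (bif Nat.beq p 3641 then 10470 else 0) else (bif Nat.beq p 3636 then 1792 else 0))) else (bif Nat.ble 3631 p then (bif Nat.ble 3633 p then (bif Nat.beq p 3633 then 1805 else 0) else (bif Nat.beq p 3631 then 382 else 0)) else (bif Nat.ble 3629 p then (bif Nat.beq p 3629 then 1312 else 0) else (bif Nat.beq p 3626 then 4476 else 0)))))) else (bif Nat.ble 3573 p then (bif Nat.ble 3598 p then (bif Nat.ble 3611 p then (bif Nat.ble 3615 p then (bif Nat.ble 3619 p then (bif Nat.ble 3621 p then (bif Nat.beq p 3621 then 22539 else 0) else (bif Nat.beq p 3619 then 2423 else 0)) else (bif Nat.beq p 3615 then 13672 else 0)) else (bif Nat.ble 3613 p then (bif Nat.beq p 3613 then 36817 else 0) else (bif Nat.beq p 3611 then 520 else 0))) else (bif Nat.ble 3603 p then (bif Nat.ble 3608 p then (bif Nat.beq p 3608 then 28897 else 0) else (bif Nat.beq p 3603 then 1780 else 0)) else (bif Nat.ble 3601 p then (bif Nat.beq p 3601 then 10517 else 0) else (bif Nat.beq p 3598 then 253 else 0)))) else (bif Nat.ble 3585 p then (bif Nat.ble 3591 p then (bif Nat.ble 3596 p then (bif Nat.beq p 3596 then 10561 else 0) else (bif Nat.beq p 3591 then 2439 else 0)) else (bif Nat.ble 3590 p then (bif Nat.beq p 3590 then 721 else 0) else (bif Nat.beq p 3585 then 3305 else 0))) else (bif Nat.ble 3580 p then (bif Nat.ble 3583 p then (bif Nat.beq p 3583 then 55 else 0) else (bif Nat.beq p 3580 then 17578 else 0)) else (bif Nat.ble 3578 p then (bif Nat.beq p 3578 then 7991 else 0) else (bif Nat.beq p 3573 then 3279 else 0))))) else (bif Nat.ble 3547 p then (bif Nat.ble 3559 p then (bif Nat.ble 3566 p then (bif Nat.ble 3568 p then (bif Nat.ble 3570 p then (bif Nat.beq p 3570 then 13642 else 0) else (bif Nat.beq p 3568 then 10497 else 0)) else (bif Nat.beq p 3566 then 7981 else 0)) else (bif Nat.ble 3563 p then (bif Nat.beq p 3563 then 262 else 0) else (bif Nat.beq p 3559 then 13683 else 0))) else (bif Nat.ble 3552 p then (bif Nat.ble 3555 p then (bif Nat.beq p 3555 then 4490 else 0) else (bif Nat.beq p 3552 then 726 else 0)) else (bif Nat.ble 3551 p then (bif Nat.beq p 3551 then 4506 else 0) else (bif Nat.beq p 3547 then 2430 else 0)))) else (bif Nat.ble 3534 p then (bif Nat.ble 3540 p then (bif Nat.ble 3544 p then (bif Nat.beq p 3544 then 7993 else 0) else (bif Nat.beq p 3540 then 17527 else 0)) else (bif Nat.ble 3539 p then (bif Nat.beq p 3539 then 17575 else 0) else (bif Nat.beq p 3534 then 8029 else 0))) else (bif Nat.ble 3529 p then (bif Nat.ble 3533 p then (bif Nat.beq p 3533 then 7969 else 0) else (bif Nat.beq p 3529 then 22534 else 0)) else (bif Nat.ble 3526 p then (bif Nat.beq p 3526 then 972 else 0) else (bif Nat.beq p 3522 then 6078 else 0))))))) else (bif Nat.ble 3423 p then (bif Nat.ble 3473 p then (bif Nat.ble 3496 p then (bif Nat.ble 3508 p then (bif Nat.ble 3514 p then (bif Nat.ble 3518 p then (bif Nat.ble 3521 p then (bif Nat.beq p 3521 then 2419 else 0) else (bif Nat.beq p 3518 then 712 else 0)) else (bif Nat.beq p 3514 then 4510 else 0)) else (bif Nat.ble 3510 p then (bif Nat.beq p 3510 then 4504 else 0) else (bif Nat.beq p 3508 then 2445 else 0))) else (bif Nat.ble 3503 p then (bif Nat.ble 3504 p then (bif Nat.beq p 3504 then 10562 else 0) else (bif Nat.beq p 3503 then 376 else 0)) else (bif Nat.ble 3500 p then (bif Nat.beq p 3500 then 4447 else 0) else (bif Nat.beq p 3496 then 28869 else 0)))) else (bif Nat.ble 3484 p then (bif Nat.ble 3489 p then (bif Nat.ble 3492 p then (bif Nat.beq p 3492 then 7985 else 0) else (bif Nat.beq p 3489 then 6018 else 0)) else (bif Nat.ble 3488 p then (bif Nat.beq p 3488 then 6014 else 0) else (bif Nat.beq p 3484 then 1769 else 0))) else (bif Nat.ble 3475 p then (bif Nat.ble 3476 p then (bif Nat.beq p 3476 then 28890 else 0) else (bif Nat.beq p 3475 then 36821 else 0)) else (bif Nat.ble 3474 p then (bif Nat.beq p 3474 then 6036 else 0) else (bif Nat.beq p 3473 then 2457 else 0))))) else (bif Nat.ble 3443 p then (bif Nat.ble 3459 p then (bif Nat.ble 3461 p then (bif Nat.ble 3471 p then (bif Nat.ble 3472 p then (bif Nat.beq p 3472 then 10560 else 0) else (bif Nat.beq p 3471 then 986 else 0)) else (bif Nat.beq p 3461 then 10492 else 0)) else (bif Nat.ble 3460 p then (bif Nat.beq p 3460 then 365 else 0) else (bif Nat.beq p 3459 then 2425 else 0))) else (bif Nat.ble 3454 p then (bif Nat.ble 3455 p then (bif Nat.beq p 3455 then 17600 else 0) else (bif Nat.beq p 3454 then 10483 else 0)) else (bif Nat.ble 3453 p then (bif Nat.beq p 3453 then 17579 else 0) else (bif Nat.beq p 3443 then 13653 else 0)))) else (bif Nat.ble 3430 p then (bif Nat.ble 3441 p then (bif Nat.ble 3442 p then (bif Nat.beq p 3442 then 4486 else 0) else (bif Nat.beq p 3441 then 363 else 0)) else (bif Nat.ble 3431 p then (bif Nat.beq p 3431 then 2455 else 0) else (bif Nat.beq p 3430 then 1337 else 0))) else (bif Nat.ble 3425 p then (bif Nat.ble 3429 p then (bif Nat.beq p 3429 then 6080 else 0) else (bif Nat.beq p 3425 then 35 else 0)) else (bif Nat.ble 3424 p then (bif Nat.beq p 3424 then 723 else 0) else (bif Nat.beq p 3423 then 377 else 0)))))) else (bif Nat.ble 3369 p then (bif Nat.ble 3393 p then (bif Nat.ble 3409 p then (bif Nat.ble 3411 p then (bif Nat.ble 3412 p then (bif Nat.ble 3413 p then (bif Nat.beq p 3413 then 36806 else 0) else (bif Nat.beq p 3412 then 7987 else 0)) else (bif Nat.beq p 3411 then 4444 else 0)) else (bif Nat.ble 3410 p then (bif Nat.beq p 3410 then 58406 else 0) else (bif Nat.beq p 3409 then 7978 else 0))) else (bif Nat.ble 3401 p then (bif Nat.ble 3408 p then (bif Nat.beq p 3408 then 6009 else 0) else (bif Nat.beq p 3401 then 1340 else 0)) else (bif Nat.ble 3397 p then (bif Nat.beq p 3397 then 174 else 0) else (bif Nat.beq p 3393 then 731 else 0)))) else (bif Nat.ble 3381 p then (bif Nat.ble 3387 p then (bif Nat.ble 3391 p then (bif Nat.beq p 3391 then 17534 else 0) else (bif Nat.beq p 3387 then 10503 else 0)) else (bif Nat.ble 3386 p then (bif Nat.beq p 3386 then 10463 else 0) else (bif Nat.beq p 3381 then 5986 else 0))) else (bif Nat.ble 3376 p then (bif Nat.ble 3380 p then (bif Nat.beq p 3380 then 13627 else 0) else (bif Nat.beq p 3376 then 10535 else 0)) else (bif Nat.ble 3373 p then (bif Nat.beq p 3373 then 1309 else 0) else (bif Nat.beq p 3369 then 4464 else 0))))) else (bif Nat.ble 3345 p then (bif Nat.ble 3358 p then (bif Nat.ble 3363 p then (bif Nat.ble 3368 p then (bif Nat.beq p 3368 then 8010 else 0) else (bif Nat.beq p 3363 then 10552 else 0)) else (bif Nat.ble 3362 p then (bif Nat.beq p 3362 then 263 else 0) else (bif Nat.beq p 3358 then 1328 else 0))) else (bif Nat.ble 3352 p then (bif Nat.ble 3356 p then (bif Nat.beq p 3356 then 58407 else 0) else (bif Nat.beq p 3352 then 10528 else 0)) else (bif Nat.ble 3348 p then (bif Nat.beq p 3348 then 17569 else 0) else (bif Nat.beq p 3345 then 17558 else 0)))) else (bif Nat.ble 3334 p then (bif Nat.ble 3340 p then (bif Nat.ble 3344 p then (bif Nat.beq p 3344 then 2421 else 0) else (bif Nat.beq p 3340 then 708 else 0)) else (bif Nat.ble 3338 p then (bif Nat.beq p 3338 then 22547 else 0) else (bif Nat.beq p 3334 then 10543 else 0))) else (bif Nat.ble 3328 p then (bif Nat.ble 3330 p then (bif Nat.beq p 3330 then 36823 else 0) else (bif Nat.beq p 3328 then 1794 else 0)) else (bif Nat.ble 3324 p then (bif Nat.beq p 3324 then 527 else 0) else (bif Nat.beq p 3323 then 6061 else 0))))))))))) else (bif Nat.ble 1704 p then (bif Nat.ble 2512 p then (bif Nat.ble 2925 p then (bif Nat.ble 3118 p then (bif Nat.ble 3221 p then (bif Nat.ble 3272 p then (bif Nat.ble 3296 p then (bif Nat.ble 3306 p then (bif Nat.ble 3312 p then (bif Nat.ble 3317 p then (bif Nat.ble 3319 p then (bif Nat.beq p 3319 then 1801 else 0) else (bif Nat.beq p 3317 then 1772 else 0)) else (bif Nat.beq p 3312 then 270 else 0)) else (bif Nat.ble 3311 p then (bif Nat.beq p 3311 then 975 else 0) else (bif Nat.beq p 3306 then 22575 else 0))) else (bif Nat.ble 3300 p then (bif Nat.ble 3304 p then (bif Nat.beq p 3304 then 17563 else 0) else (bif Nat.beq p 3300 then 22548 else 0)) else (bif Nat.ble 3298 p then (bif Nat.beq p 3298 then 2407 else 0) else (bif Nat.beq p 3296 then 10521 else 0)))) else (bif Nat.ble 3282 p then (bif Nat.ble 3288 p then (bif Nat.ble 3293 p then (bif Nat.beq p 3293 then 17531 else 0) else (bif Nat.beq p 3288 then 8003 else 0)) else (bif Nat.ble 3286 p then (bif Nat.beq p 3286 then 6020 else 0) else (bif Nat.beq p 3282 then 6055 else 0))) else (bif Nat.ble 3278 p then (bif Nat.ble 3280 p then (bif Nat.beq p 3280 then 4521 else 0) else (bif Nat.beq p 3278 then 24 else 0)) else (bif Nat.ble 3274 p then (bif Nat.beq p 3274 then 10484 else 0) else (bif Nat.beq p 3272 then 13596 else 0))))) else (bif Nat.ble 3243 p then (bif Nat.ble 3256 p then (bif Nat.ble 3262 p then (bif Nat.ble 3264 p then (bif Nat.ble 3267 p then (bif Nat.beq p 3267 then 8016 else 0) else (bif Nat.beq p 3264 then 3274 else 0)) else (bif Nat.beq p 3262 then 17566 else 0)) else (bif Nat.ble 3260 p then (bif Nat.beq p 3260 then 8013 else 0) else (bif Nat.beq p 3256 then 28902 else 0))) else (bif Nat.ble 3249 p then (bif Nat.ble 3254 p then (bif Nat.beq p 3254 then 719 else 0) else (bif Nat.beq p 3249 then 13654 else 0)) else (bif Nat.ble 3248 p then (bif Nat.beq p 3248 then 2401 else 0) else (bif Nat.beq p 3243 then 1333 else 0)))) else (bif Nat.ble 3231 p then (bif Nat.ble 3233 p then (bif Nat.ble 3241 p then (bif Nat.beq p 3241 then 187 else 0) else (bif Nat.beq p 3233 then 8059 else 0)) else (bif Nat.ble 3232 p then (bif Nat.beq p 3232 then 3311 else 0) else (bif Nat.beq p 3231 then 995 else 0))) else (bif Nat.ble 3226 p then (bif Nat.ble 3227 p then (bif Nat.beq p 3227 then 28881 else 0) else (bif Nat.beq p 3226 then 4451 else 0)) else (bif Nat.ble 3225 p then (bif Nat.beq p 3225 then 10551 else 0) else (bif Nat.beq p 3221 then 1787 else 0)))))) else (bif Nat.ble 3168 p then (bif Nat.ble 3188 p then (bif Nat.ble 3207 p then (bif Nat.ble 3209 p then (bif Nat.ble 3219 p then (bif Nat.ble 3220 p then (bif Nat.beq p 3220 then 13649 else 0) else (bif Nat.beq p 3219 then 1308 else 0)) else (bif Nat.beq p 3209 then 72451 else 0)) else (bif Nat.ble 3208 p then (bif Nat.beq p 3208 then 13607 else 0) else (bif Nat.beq p 3207 then 10523 else 0))) else (bif Nat.ble 3202 p then (bif Nat.ble 3203 p then (bif Nat.beq p 3203 then 181 else 0) else (bif Nat.beq p 3202 then 83 else 0)) else (bif Nat.ble 3201 p then (bif Nat.beq p 3201 then 361 else 0) else (bif Nat.beq p 3188 then 10489 else 0)))) else (bif Nat.ble 3184 p then (bif Nat.ble 3186 p then (bif Nat.ble 3187 p then (bif Nat.beq p 3187 then 46572 else 0) else (bif Nat.beq p 3186 then 17577 else 0)) else (bif Nat.ble 3185 p then (bif Nat.beq p 3185 then 10500 else 0) else (bif Nat.beq p 3184 then 3296 else 0))) else (bif Nat.ble 3170 p then (bif Nat.ble 3183 p then (bif Nat.beq p 3183 then 709 else 0) else (bif Nat.beq p 3170 then 7976 else 0)) else (bif Nat.ble 3169 p then (bif Nat.beq p 3169 then 13615 else 0) else (bif Nat.beq p 3168 then 17598 else 0))))) else (bif Nat.ble 3143 p then (bif Nat.ble 3153 p then (bif Nat.ble 3162 p then (bif Nat.ble 3163 p then (bif Nat.ble 3164 p then (bif Nat.beq p 3164 then 1810 else 0) else (bif Nat.beq p 3163 then 4497 else 0)) else (bif Nat.beq p 3162 then 1336 else 0)) else (bif Nat.ble 3156 p then (bif Nat.beq p 3156 then 10524 else 0) else (bif Nat.beq p 3153 then 5990 else 0))) else (bif Nat.ble 3149 p then (bif Nat.ble 3150 p then (bif Nat.beq p 3150 then 4531 else 0) else (bif Nat.beq p 3149 then 2415 else 0)) else (bif Nat.ble 3146 p then (bif Nat.beq p 3146 then 22530 else 0) else (bif Nat.beq p 3143 then 46574 else 0)))) else (bif Nat.ble 3131 p then (bif Nat.ble 3136 p then (bif Nat.ble 3139 p then (bif Nat.beq p 3139 then 526 else 0) else (bif Nat.beq p 3136 then 184 else 0)) else (bif Nat.ble 3133 p then (bif Nat.beq p 3133 then 3325 else 0) else (bif Nat.beq p 3131 then 2460 else 0))) else (bif Nat.ble 3125 p then (bif Nat.ble 3128 p then (bif Nat.beq p 3128 then 3266 else 0) else (bif Nat.beq p 3125 then 3342 else 0)) else (bif Nat.ble 3121 p then (bif Nat.beq p 3121 then 255 else 0) else (bif Nat.beq p 3118 then 6032 else 0))))))) else (bif Nat.ble 3017 p then (bif Nat.ble 3067 p then (bif Nat.ble 3090 p then (bif Nat.ble 3103 p then (bif Nat.ble 3108 p then (bif Nat.ble 3111 p then (bif Nat.ble 3115 p then (bif Nat.beq p 3115 then 13625 else 0) else (bif Nat.beq p 3111 then 10545 else 0)) else (bif Nat.beq p 3108 then 8036 else 0)) else (bif Nat.ble 3105 p then (bif Nat.beq p 3105 then 22526 else 0) else (bif Nat.beq p 3103 then 3299 else 0))) else (bif Nat.ble 3097 p then (bif Nat.ble 3100 p then (bif Nat.beq p 3100 then 28895 else 0) else (bif Nat.beq p 3097 then 1776 else 0)) else (bif Nat.ble 3093 p then (bif Nat.beq p 3093 then 383 else 0) else (bif Nat.beq p 3090 then 8073 else 0)))) else (bif Nat.ble 3080 p then (bif Nat.ble 3086 p then (bif Nat.ble 3087 p then (bif Nat.beq p 3087 then 10568 else 0) else (bif Nat.beq p 3086 then 4430 else 0)) else (bif Nat.ble 3083 p then (bif Nat.beq p 3083 then 1317 else 0) else (bif Nat.beq p 3080 then 22576 else 0))) else (bif Nat.ble 3072 p then (bif Nat.ble 3075 p then (bif Nat.beq p 3075 then 22571 else 0) else (bif Nat.beq p 3072 then 2411 else 0)) else (bif Nat.ble 3069 p then (bif Nat.beq p 3069 then 2397 else 0) else (bif Nat.beq p 3067 then 13604 else 0))))) else (bif Nat.ble 3041 p then (bif Nat.ble 3053 p then (bif Nat.ble 3059 p then (bif Nat.ble 3061 p then (bif Nat.ble 3064 p then (bif Nat.beq p 3064 then 710 else 0) else (bif Nat.beq p 3061 then 10481 else 0)) else (bif Nat.beq p 3059 then 78 else 0)) else (bif Nat.ble 3056 p then (bif Nat.beq p 3056 then 123 else 0) else (bif Nat.beq p 3053 then 525 else 0))) else (bif Nat.ble 3046 p then (bif Nat.ble 3049 p then (bif Nat.beq p 3049 then 534 else 0) else (bif Nat.beq p 3046 then 984 else 0)) else (bif Nat.ble 3043 p then (bif Nat.beq p 3043 then 6059 else 0) else (bif Nat.beq p 3041 then 17538 else 0)))) else (bif Nat.ble 3027 p then (bif Nat.ble 3035 p then (bif Nat.ble 3038 p then (bif Nat.beq p 3038 then 7997 else 0) else (bif Nat.beq p 3035 then 3291 else 0)) else (bif Nat.ble 3030 p then (bif Nat.beq p 3030 then 22582 else 0) else (bif Nat.beq p 3027 then 2420 else 0))) else (bif Nat.ble 3023 p then (bif Nat.ble 3024 p then (bif Nat.beq p 3024 then 28868 else 0) else (bif Nat.beq p 3023 then 28893 else 0)) else (bif Nat.ble 3020 p then (bif Nat.beq p 3020 then 1323 else 0) else (bif Nat.beq p 3017 then 22565 else 0)))))) else (bif Nat.ble 2950 p then (bif Nat.ble 2994 p then (bif Nat.ble 3001 p then (bif Nat.ble 3006 p then (bif Nat.ble 3009 p then (bif Nat.ble 3012 p then (bif Nat.beq p 3012 then 1345 else 0) else (bif Nat.beq p 3009 then 3321 else 0)) else (bif Nat.beq p 3006 then 3306 else 0)) else (bif Nat.ble 3004 p then (bif Nat.beq p 3004 then 46577 else 0) else (bif Nat.beq p 3001 then 7983 else 0))) else (bif Nat.ble 2996 p then (bif Nat.ble 2998 p then (bif Nat.beq p 2998 then 5997 else 0) else (bif Nat.beq p 2996 then 4453 else 0)) else (bif Nat.ble 2995 p then (bif Nat.beq p 2995 then 36802 else 0) else (bif Nat.beq p 2994 then 13628 else 0)))) else (bif Nat.ble 2990 p then (bif Nat.ble 2992 p then (bif Nat.ble 2993 p then (bif Nat.beq p 2993 then 46583 else 0) else (bif Nat.beq p 2992 then 17552 else 0)) else (bif Nat.ble 2991 p then (bif Nat.beq p 2991 then 6007 else 0) else (bif Nat.beq p 2990 then 5994 else 0))) else (bif Nat.ble 2988 p then (bif Nat.ble 2989 p then (bif Nat.beq p 2989 then 13651 else 0) else (bif Nat.beq p 2988 then 122 else 0)) else (bif Nat.ble 2951 p then (bif Nat.beq p 2951 then 13601 else 0) else (bif Nat.beq p 2950 then 10576 else 0))))) else (bif Nat.ble 2933 p then (bif Nat.ble 2946 p then (bif Nat.ble 2948 p then (bif Nat.ble 2949 p then (bif Nat.beq p 2949 then 28899 else 0) else (bif Nat.beq p 2948 then 17546 else 0)) else (bif Nat.ble 2947 p then (bif Nat.beq p 2947 then 17602 else 0) else (bif Nat.beq p 2946 then 3302 else 0))) else (bif Nat.ble 2944 p then (bif Nat.ble 2945 p then (bif Nat.beq p 2945 then 373 else 0) else (bif Nat.beq p 2944 then 13669 else 0)) else (bif Nat.ble 2943 p then (bif Nat.beq p 2943 then 1775 else 0) else (bif Nat.beq p 2933 then 10558 else 0)))) else (bif Nat.ble 2929 p then (bif Nat.ble 2931 p then (bif Nat.ble 2932 p then (bif Nat.beq p 2932 then 6076 else 0) else (bif Nat.beq p 2931 then 532 else 0)) else (bif Nat.ble 2930 p then (bif Nat.beq p 2930 then 991 else 0) else (bif Nat.beq p 2929 then 2446 else 0))) else (bif Nat.ble 2927 p then (bif Nat.ble 2928 p then (bif Nat.beq p 2928 then 3314 else 0) else (bif Nat.beq p 2927 then 969 else 0)) else (bif Nat.ble 2926 p then (bif Nat.beq p 2926 then 117 else 0) else (bif Nat.beq p 2925 then 367 else 0)))))))) else (bif Nat.ble 2710 p then (bif Nat.ble 2815 p then (bif Nat.ble 2867 p then (bif Nat.ble 2890 p then (bif Nat.ble 2901 p then (bif Nat.ble 2908 p then (bif Nat.ble 2910 p then (bif Nat.ble 2915 p then (bif Nat.beq p 2915 then 8067 else 0) else (bif Nat.beq p 2910 then 17576 else 0)) else (bif Nat.beq p 2908 then 5992 else 0)) else (bif Nat.ble 2906 p then (bif Nat.beq p 2906 then 732 else 0) else (bif Nat.beq p 2901 then 4523 else 0))) else (bif Nat.ble 2897 p then (bif Nat.ble 2899 p then (bif Nat.beq p 2899 then 517 else 0) else (bif Nat.beq p 2897 then 715 else 0)) else (bif Nat.ble 2892 p then (bif Nat.beq p 2892 then 28870 else 0) else (bif Nat.beq p 2890 then 22556 else 0)))) else (bif Nat.ble 2878 p then (bif Nat.ble 2885 p then (bif Nat.ble 2887 p then (bif Nat.beq p 2887 then 7990 else 0) else (bif Nat.beq p 2885 then 10475 else 0)) else (bif Nat.ble 2880 p then (bif Nat.beq p 2880 then 6026 else 0) else (bif Nat.beq p 2878 then 4469 else 0))) else (bif Nat.ble 2871 p then (bif Nat.ble 2876 p then (bif Nat.beq p 2876 then 13600 else 0) else (bif Nat.beq p 2871 then 10480 else 0)) else (bif Nat.ble 2869 p then (bif Nat.beq p 2869 then 1343 else 0) else (bif Nat.beq p 2867 then 510 else 0))))) else (bif Nat.ble 2839 p then (bif Nat.ble 2850 p then (bif Nat.ble 2857 p then (bif Nat.ble 2859 p then (bif Nat.ble 2862 p then (bif Nat.beq p 2862 then 1803 else 0) else (bif Nat.beq p 2859 then 370 else 0)) else (bif Nat.beq p 2857 then 6088 else 0)) else (bif Nat.ble 2855 p then (bif Nat.beq p 2855 then 988 else 0) else (bif Nat.beq p 2850 then 4450 else 0))) else (bif Nat.ble 2846 p then (bif Nat.ble 2848 p then (bif Nat.beq p 2848 then 13633 else 0) else (bif Nat.beq p 2846 then 10512 else 0)) else (bif Nat.ble 2841 p then (bif Nat.beq p 2841 then 17555 else 0) else (bif Nat.beq p 2839 then 36803 else 0)))) else (bif Nat.ble 2828 p then (bif Nat.ble 2833 p then (bif Nat.ble 2837 p then (bif Nat.beq p 2837 then 974 else 0) else (bif Nat.beq p 2833 then 17582 else 0)) else (bif Nat.ble 2829 p then (bif Nat.beq p 2829 then 17571 else 0) else (bif Nat.beq p 2828 then 36809 else 0))) else (bif Nat.ble 2820 p then (bif Nat.ble 2824 p then (bif Nat.beq p 2824 then 368 else 0) else (bif Nat.beq p 2820 then 1808 else 0)) else (bif Nat.ble 2819 p then (bif Nat.beq p 2819 then 10554 else 0) else (bif Nat.beq p 2815 then 7968 else 0)))))) else (bif Nat.ble 2764 p then (bif Nat.ble 2789 p then (bif Nat.ble 2799 p then (bif Nat.ble 2807 p then (bif Nat.ble 2810 p then (bif Nat.ble 2811 p then (bif Nat.beq p 2811 then 13597 else 0) else (bif Nat.beq p 2810 then 13637 else 0)) else (bif Nat.beq p 2807 then 13643 else 0)) else (bif Nat.ble 2803 p then (bif Nat.beq p 2803 then 46578 else 0) else (bif Nat.beq p 2799 then 13655 else 0))) else (bif Nat.ble 2794 p then (bif Nat.ble 2798 p then (bif Nat.beq p 2798 then 5979 else 0) else (bif Nat.beq p 2794 then 17540 else 0)) else (bif Nat.ble 2790 p then (bif Nat.beq p 2790 then 10474 else 0) else (bif Nat.beq p 2789 then 265 else 0)))) else (bif Nat.ble 2777 p then (bif Nat.ble 2781 p then (bif Nat.ble 2785 p then (bif Nat.beq p 2785 then 8083 else 0) else (bif Nat.beq p 2781 then 2450 else 0)) else (bif Nat.ble 2778 p then (bif Nat.beq p 2778 then 12 else 0) else (bif Nat.beq p 2777 then 1341 else 0))) else (bif Nat.ble 2769 p then (bif Nat.ble 2773 p then (bif Nat.beq p 2773 then 1812 else 0) else (bif Nat.beq p 2769 then 513 else 0)) else (bif Nat.ble 2768 p then (bif Nat.beq p 2768 then 13617 else 0) else (bif Nat.beq p 2764 then 3295 else 0))))) else (bif Nat.ble 2739 p then (bif Nat.ble 2749 p then (bif Nat.ble 2755 p then (bif Nat.ble 2759 p then (bif Nat.ble 2760 p then (bif Nat.beq p 2760 then 372 else 0) else (bif Nat.beq p 2759 then 4481 else 0)) else (bif Nat.beq p 2755 then 10490 else 0)) else (bif Nat.ble 2750 p then (bif Nat.beq p 2750 then 17545 else 0) else (bif Nat.beq p 2749 then 976 else 0))) else (bif Nat.ble 2741 p then (bif Nat.ble 2748 p then (bif Nat.beq p 2748 then 8020 else 0) else (bif Nat.beq p 2741 then 1799 else 0)) else (bif Nat.ble 2740 p then (bif Nat.beq p 2740 then 116 else 0) else (bif Nat.beq p 2739 then 1334 else 0)))) else (bif Nat.ble 2720 p then (bif Nat.ble 2731 p then (bif Nat.ble 2732 p then (bif Nat.beq p 2732 then 6044 else 0) else (bif Nat.beq p 2731 then 716 else 0)) else (bif Nat.ble 2730 p then (bif Nat.beq p 2730 then 13605 else 0) else (bif Nat.beq p 2720 then 4435 else 0))) else (bif Nat.ble 2718 p then (bif Nat.ble 2719 p then (bif Nat.beq p 2719 then 10472 else 0) else (bif Nat.beq p 2718 then 13636 else 0)) else (bif Nat.ble 2711 p then (bif Nat.beq p 2711 then 10509 else 0) else (bif Nat.beq p 2710 then 8031 else 0))))))) else (bif Nat.ble 2612 p then (bif Nat.ble 2661 p then (bif Nat.ble 2689 p then (bif Nat.ble 2699 p then (bif Nat.ble 2701 p then (bif Nat.ble 2702 p then (bif Nat.ble 2709 p then (bif Nat.beq p 2709 then 22537 else 0) else (bif Nat.beq p 2702 then 185 else 0)) else (bif Nat.beq p 2701 then 981 else 0)) else (bif Nat.ble 2700 p then (bif Nat.beq p 2700 then 6086 else 0) else (bif Nat.beq p 2699 then 8053 else 0))) else (bif Nat.ble 2697 p then (bif Nat.ble 2698 p then (bif Nat.beq p 2698 then 1327 else 0) else (bif Nat.beq p 2697 then 269 else 0)) else (bif Nat.ble 2690 p then (bif Nat.beq p 2690 then 28875 else 0) else (bif Nat.beq p 2689 then 10505 else 0)))) else (bif Nat.ble 2679 p then (bif Nat.ble 2681 p then (bif Nat.ble 2688 p then (bif Nat.beq p 2688 then 13644 else 0) else (bif Nat.beq p 2681 then 17581 else 0)) else (bif Nat.ble 2680 p then (bif Nat.beq p 2680 then 13594 else 0) else (bif Nat.beq p 2679 then 5984 else 0))) else (bif Nat.ble 2669 p then (bif Nat.ble 2670 p then (bif Nat.beq p 2670 then 3336 else 0) else (bif Nat.beq p 2669 then 182 else 0)) else (bif Nat.ble 2665 p then (bif Nat.beq p 2665 then 10572 else 0) else (bif Nat.beq p 2661 then 17588 else 0))))) else (bif Nat.ble 2636 p then (bif Nat.ble 2647 p then (bif Nat.ble 2652 p then (bif Nat.ble 2656 p then (bif Nat.ble 2660 p then (bif Nat.beq p 2660 then 10511 else 0) else (bif Nat.beq p 2656 then 58409 else 0)) else (bif Nat.beq p 2652 then 13598 else 0)) else (bif Nat.ble 2651 p then (bif Nat.beq p 2651 then 4431 else 0) else (bif Nat.beq p 2647 then 13603 else 0))) else (bif Nat.ble 2641 p then (bif Nat.ble 2645 p then (bif Nat.beq p 2645 then 2404 else 0) else (bif Nat.beq p 2641 then 10476 else 0)) else (bif Nat.ble 2637 p then (bif Nat.beq p 2637 then 22583 else 0) else (bif Nat.beq p 2636 then 1802 else 0)))) else (bif Nat.ble 2623 p then (bif Nat.ble 2628 p then (bif Nat.ble 2632 p then (bif Nat.beq p 2632 then 722 else 0) else (bif Nat.beq p 2628 then 4511 else 0)) else (bif Nat.ble 2627 p then (bif Nat.beq p 2627 then 22532 else 0) else (bif Nat.beq p 2623 then 6027 else 0))) else (bif Nat.ble 2617 p then (bif Nat.ble 2619 p then (bif Nat.beq p 2619 then 58400 else 0) else (bif Nat.beq p 2617 then 36824 else 0)) else (bif Nat.ble 2613 p then (bif Nat.beq p 2613 then 22558 else 0) else (bif Nat.beq p 2612 then 10534 else 0)))))) else (bif Nat.ble 2561 p then (bif Nat.ble 2585 p then (bif Nat.ble 2595 p then (bif Nat.ble 2603 p then (bif Nat.ble 2604 p then (bif Nat.ble 2608 p then (bif Nat.beq p 2608 then 13592 else 0) else (bif Nat.beq p 2604 then 3288 else 0)) else (bif Nat.beq p 2603 then 28883 else 0)) else (bif Nat.ble 2599 p then (bif Nat.beq p 2599 then 1311 else 0) else (bif Nat.beq p 2595 then 4509 else 0))) else (bif Nat.ble 2589 p then (bif Nat.ble 2594 p then (bif Nat.beq p 2594 then 4505 else 0) else (bif Nat.beq p 2589 then 4522 else 0)) else (bif Nat.ble 2587 p then (bif Nat.beq p 2587 then 2463 else 0) else (bif Nat.beq p 2585 then 250 else 0)))) else (bif Nat.ble 2571 p then (bif Nat.ble 2578 p then (bif Nat.ble 2580 p then (bif Nat.beq p 2580 then 10504 else 0) else (bif Nat.beq p 2578 then 13619 else 0)) else (bif Nat.ble 2576 p then (bif Nat.beq p 2576 then 4448 else 0) else (bif Nat.beq p 2571 then 17547 else 0))) else (bif Nat.ble 2567 p then (bif Nat.ble 2569 p then (bif Nat.beq p 2569 then 3281 else 0) else (bif Nat.beq p 2567 then 7992 else 0)) else (bif Nat.ble 2563 p then (bif Nat.beq p 2563 then 13681 else 0) else (bif Nat.beq p 2561 then 13665 else 0))))) else (bif Nat.ble 2537 p then (bif Nat.ble 2547 p then (bif Nat.ble 2554 p then (bif Nat.ble 2556 p then (bif Nat.beq p 2556 then 2406 else 0) else (bif Nat.beq p 2554 then 2454 else 0)) else (bif Nat.ble 2552 p then (bif Nat.beq p 2552 then 10553 else 0) else (bif Nat.beq p 2547 then 252 else 0))) else (bif Nat.ble 2543 p then (bif Nat.ble 2545 p then (bif Nat.beq p 2545 then 1790 else 0) else (bif Nat.beq p 2543 then 36810 else 0)) else (bif Nat.ble 2538 p then (bif Nat.beq p 2538 then 4478 else 0) else (bif Nat.beq p 2537 then 8050 else 0)))) else (bif Nat.ble 2523 p then (bif Nat.ble 2530 p then (bif Nat.ble 2532 p then (bif Nat.beq p 2532 then 28873 else 0) else (bif Nat.beq p 2530 then 973 else 0)) else (bif Nat.ble 2528 p then (bif Nat.beq p 2528 then 46580 else 0) else (bif Nat.beq p 2523 then 4487 else 0))) else (bif Nat.ble 2519 p then (bif Nat.ble 2521 p then (bif Nat.beq p 2521 then 1322 else 0) else (bif Nat.beq p 2519 then 8065 else 0)) else (bif Nat.ble 2514 p then (bif Nat.beq p 2514 then 4500 else 0) else (bif Nat.beq p 2512 then 77 else 0))))))))) else (bif Nat.ble 2108 p then (bif Nat.ble 2307 p then (bif Nat.ble 2410 p then (bif Nat.ble 2458 p then (bif Nat.ble 2490 p then (bif Nat.ble 2500 p then (bif Nat.ble 2508 p then (bif Nat.ble 2509 p then (bif Nat.ble 2510 p then (bif Nat.beq p 2510 then 56 else 0) else (bif Nat.beq p 2509 then 374 else 0)) else (bif Nat.beq p 2508 then 1339 else 0)) else (bif Nat.ble 2501 p then (bif Nat.beq p 2501 then 1770 else 0) else (bif Nat.beq p 2500 then 6004 else 0))) else (bif Nat.ble 2492 p then (bif Nat.ble 2499 p then (bif Nat.beq p 2499 then 8022 else 0) else (bif Nat.beq p 2492 then 3283 else 0)) else (bif Nat.ble 2491 p then (bif Nat.beq p 2491 then 3297 else 0) else (bif Nat.beq p 2490 then 7984 else 0)))) else (bif Nat.ble 2468 p then (bif Nat.ble 2476 p then (bif Nat.ble 2477 p then (bif Nat.beq p 2477 then 3290 else 0) else (bif Nat.beq p 2476 then 28882 else 0)) else (bif Nat.ble 2475 p then (bif Nat.beq p 2475 then 17526 else 0) else (bif Nat.beq p 2468 then 2459 else 0))) else (bif Nat.ble 2466 p then (bif Nat.ble 2467 p then (bif Nat.beq p 2467 then 4525 else 0) else (bif Nat.beq p 2466 then 1329 else 0)) else (bif Nat.ble 2459 p then (bif Nat.beq p 2459 then 13682 else 0) else (bif Nat.beq p 2458 then 10501 else 0))))) else (bif Nat.ble 2434 p then (bif Nat.ble 2444 p then (bif Nat.ble 2452 p then (bif Nat.ble 2453 p then (bif Nat.ble 2457 p then (bif Nat.beq p 2457 then 72452 else 0) else (bif Nat.beq p 2453 then 971 else 0)) else (bif Nat.beq p 2452 then 13588 else 0)) else (bif Nat.ble 2451 p then (bif Nat.beq p 2451 then 36820 else 0) else (bif Nat.beq p 2444 then 10555 else 0))) else (bif Nat.ble 2442 p then (bif Nat.ble 2443 p then (bif Nat.beq p 2443 then 22573 else 0) else (bif Nat.beq p 2442 then 8028 else 0)) else (bif Nat.ble 2435 p then (bif Nat.beq p 2435 then 994 else 0) else (bif Nat.beq p 2434 then 711 else 0)))) else (bif Nat.ble 2422 p then (bif Nat.ble 2428 p then (bif Nat.ble 2433 p then (bif Nat.beq p 2433 then 10566 else 0) else (bif Nat.beq p 2428 then 6005 else 0)) else (bif Nat.ble 2425 p then (bif Nat.beq p 2425 then 2418 else 0) else (bif Nat.beq p 2422 then 13610 else 0))) else (bif Nat.ble 2416 p then (bif Nat.ble 2419 p then (bif Nat.beq p 2419 then 22557 else 0) else (bif Nat.beq p 2416 then 17561 else 0)) else (bif Nat.ble 2413 p then (bif Nat.beq p 2413 then 17528 else 0) else (bif Nat.beq p 2410 then 2464 else 0)))))) else (bif Nat.ble 2360 p then (bif Nat.ble 2382 p then (bif Nat.ble 2394 p then (bif Nat.ble 2400 p then (bif Nat.ble 2404 p then (bif Nat.ble 2407 p then (bif Nat.beq p 2407 then 3341 else 0) else (bif Nat.beq p 2404 then 1793 else 0)) else (bif Nat.beq p 2400 then 990 else 0)) else (bif Nat.ble 2397 p then (bif Nat.beq p 2397 then 530 else 0) else (bif Nat.beq p 2394 then 6064 else 0))) else (bif Nat.ble 2388 p then (bif Nat.ble 2391 p then (bif Nat.beq p 2391 then 10479 else 0) else (bif Nat.beq p 2388 then 7986 else 0)) else (bif Nat.ble 2385 p then (bif Nat.beq p 2385 then 36805 else 0) else (bif Nat.beq p 2382 then 10525 else 0)))) else (bif Nat.ble 2372 p then (bif Nat.ble 2376 p then (bif Nat.ble 2379 p then (bif Nat.beq p 2379 then 4518 else 0) else (bif Nat.beq p 2376 then 6050 else 0)) else (bif Nat.ble 2375 p then (bif Nat.beq p 2375 then 6015 else 0) else (bif Nat.beq p 2372 then 8004 else 0))) else (bif Nat.ble 2366 p then (bif Nat.ble 2369 p then (bif Nat.beq p 2369 then 10464 else 0) else (bif Nat.beq p 2366 then 171 else 0)) else (bif Nat.ble 2363 p then (bif Nat.beq p 2363 then 125 else 0) else (bif Nat.beq p 2360 then 528 else 0))))) else (bif Nat.ble 2333 p then (bif Nat.ble 2345 p then (bif Nat.ble 2351 p then (bif Nat.ble 2354 p then (bif Nat.ble 2357 p then (bif Nat.beq p 2357 then 3273 else 0) else (bif Nat.beq p 2354 then 3262 else 0)) else (bif Nat.beq p 2351 then 28894 else 0)) else (bif Nat.ble 2348 p then (bif Nat.beq p 2348 then 10563 else 0) else (bif Nat.beq p 2345 then 13614 else 0))) else (bif Nat.ble 2339 p then (bif Nat.ble 2342 p then (bif Nat.beq p 2342 then 17536 else 0) else (bif Nat.beq p 2339 then 2426 else 0)) else (bif Nat.ble 2336 p then (bif Nat.beq p 2336 then 1315 else 0) else (bif Nat.beq p 2333 then 22577 else 0)))) else (bif Nat.ble 2319 p then (bif Nat.ble 2327 p then (bif Nat.ble 2330 p then (bif Nat.beq p 2330 then 3340 else 0) else (bif Nat.beq p 2327 then 1335 else 0)) else (bif Nat.ble 2324 p then (bif Nat.beq p 2324 then 4494 else 0) else (bif Nat.beq p 2319 then 3327 else 0))) else (bif Nat.ble 2313 p then (bif Nat.ble 2316 p then (bif Nat.beq p 2316 then 173 else 0) else (bif Nat.beq p 2313 then 8072 else 0)) else (bif Nat.ble 2310 p then (bif Nat.beq p 2310 then 22546 else 0) else (bif Nat.beq p 2307 then 511 else 0))))))) else (bif Nat.ble 2220 p then (bif Nat.ble 2237 p then (bif Nat.ble 2281 p then (bif Nat.ble 2293 p then (bif Nat.ble 2298 p then (bif Nat.ble 2301 p then (bif Nat.ble 2304 p then (bif Nat.beq p 2304 then 28888 else 0) else (bif Nat.beq p 2301 then 13634 else 0)) else (bif Nat.beq p 2298 then 512 else 0)) else (bif Nat.ble 2295 p then (bif Nat.beq p 2295 then 6031 else 0) else (bif Nat.beq p 2293 then 10471 else 0))) else (bif Nat.ble 2287 p then (bif Nat.ble 2290 p then (bif Nat.beq p 2290 then 4483 else 0) else (bif Nat.beq p 2287 then 6025 else 0)) else (bif Nat.ble 2284 p then (bif Nat.beq p 2284 then 10556 else 0) else (bif Nat.beq p 2281 then 524 else 0)))) else (bif Nat.ble 2269 p then (bif Nat.ble 2275 p then (bif Nat.ble 2278 p then (bif Nat.beq p 2278 then 996 else 0) else (bif Nat.beq p 2275 then 36811 else 0)) else (bif Nat.ble 2272 p then (bif Nat.beq p 2272 then 7982 else 0) else (bif Nat.beq p 2269 then 6001 else 0))) else (bif Nat.ble 2239 p then (bif Nat.ble 2240 p then (bif Nat.beq p 2240 then 6071 else 0) else (bif Nat.beq p 2239 then 172 else 0)) else (bif Nat.ble 2238 p then (bif Nat.beq p 2238 then 2451 else 0) else (bif Nat.beq p 2237 then 13675 else 0))))) else (bif Nat.ble 2228 p then (bif Nat.ble 2232 p then (bif Nat.ble 2234 p then (bif Nat.ble 2235 p then (bif Nat.ble 2236 p then (bif Nat.beq p 2236 then 968 else 0) else (bif Nat.beq p 2235 then 1342 else 0)) else (bif Nat.beq p 2234 then 535 else 0)) else (bif Nat.ble 2233 p then (bif Nat.beq p 2233 then 257 else 0) else (bif Nat.beq p 2232 then 3317 else 0))) else (bif Nat.ble 2230 p then (bif Nat.ble 2231 p then (bif Nat.beq p 2231 then 13660 else 0) else (bif Nat.beq p 2230 then 1777 else 0)) else (bif Nat.ble 2229 p then (bif Nat.beq p 2229 then 17533 else 0) else (bif Nat.beq p 2228 then 10537 else 0)))) else (bif Nat.ble 2224 p then (bif Nat.ble 2226 p then (bif Nat.ble 2227 p then (bif Nat.beq p 2227 then 28900 else 0) else (bif Nat.beq p 2226 then 13673 else 0)) else (bif Nat.ble 2225 p then (bif Nat.beq p 2225 then 371 else 0) else (bif Nat.beq p 2224 then 5978 else 0))) else (bif Nat.ble 2222 p then (bif Nat.ble 2223 p then (bif Nat.beq p 2223 then 17559 else 0) else (bif Nat.beq p 2222 then 36819 else 0)) else (bif Nat.ble 2221 p then (bif Nat.beq p 2221 then 3292 else 0) else (bif Nat.beq p 2220 then 22566 else 0)))))) else (bif Nat.ble 2156 p then (bif Nat.ble 2178 p then (bif Nat.ble 2215 p then (bif Nat.ble 2217 p then (bif Nat.ble 2218 p then (bif Nat.ble 2219 p then (bif Nat.beq p 2219 then 46584 else 0) else (bif Nat.beq p 2218 then 10468 else 0)) else (bif Nat.beq p 2217 then 1316 else 0)) else (bif Nat.ble 2216 p then (bif Nat.beq p 2216 then 4535 else 0) else (bif Nat.beq p 2215 then 13641 else 0))) else (bif Nat.ble 2185 p then (bif Nat.ble 2214 p then (bif Nat.beq p 2214 then 2424 else 0) else (bif Nat.beq p 2185 then 3280 else 0)) else (bif Nat.ble 2183 p then (bif Nat.beq p 2183 then 17568 else 0) else (bif Nat.beq p 2178 then 13613 else 0)))) else (bif Nat.ble 2166 p then (bif Nat.ble 2172 p then (bif Nat.ble 2177 p then (bif Nat.beq p 2177 then 10496 else 0) else (bif Nat.beq p 2172 then 4452 else 0)) else (bif Nat.ble 2170 p then (bif Nat.beq p 2170 then 22554 else 0) else (bif Nat.beq p 2166 then 2400 else 0))) else (bif Nat.ble 2162 p then (bif Nat.ble 2164 p then (bif Nat.beq p 2164 then 4439 else 0) else (bif Nat.beq p 2162 then 76 else 0)) else (bif Nat.ble 2158 p then (bif Nat.beq p 2158 then 4515 else 0) else (bif Nat.beq p 2156 then 258 else 0))))) else (bif Nat.ble 2131 p then (bif Nat.ble 2143 p then (bif Nat.ble 2150 p then (bif Nat.ble 2151 p then (bif Nat.beq p 2151 then 1331 else 0) else (bif Nat.beq p 2150 then 4443 else 0)) else (bif Nat.ble 2145 p then (bif Nat.beq p 2145 then 36798 else 0) else (bif Nat.beq p 2143 then 3285 else 0))) else (bif Nat.ble 2137 p then (bif Nat.ble 2139 p then (bif Nat.beq p 2139 then 6093 else 0) else (bif Nat.beq p 2137 then 28863 else 0)) else (bif Nat.ble 2135 p then (bif Nat.beq p 2135 then 6029 else 0) else (bif Nat.beq p 2131 then 28879 else 0)))) else (bif Nat.ble 2118 p then (bif Nat.ble 2124 p then (bif Nat.ble 2129 p then (bif Nat.beq p 2129 then 7975 else 0) else (bif Nat.beq p 2124 then 6023 else 0)) else (bif Nat.ble 2123 p then (bif Nat.beq p 2123 then 119 else 0) else (bif Nat.beq p 2118 then 10567 else 0))) else (bif Nat.ble 2112 p then (bif Nat.ble 2116 p then (bif Nat.beq p 2116 then 2437 else 0) else (bif Nat.beq p 2112 then 17539 else 0)) else (bif Nat.ble 2110 p then (bif Nat.beq p 2110 then 10575 else 0) else (bif Nat.beq p 2108 then 4485 else 0)))))))) else (bif Nat.ble 1904 p then (bif Nat.ble 2006 p then (bif Nat.ble 2057 p then (bif Nat.ble 2080 p then (bif Nat.ble 2091 p then (bif Nat.ble 2097 p then (bif Nat.ble 2101 p then (bif Nat.ble 2105 p then (bif Nat.beq p 2105 then 10544 else 0) else (bif Nat.beq p 2101 then 13609 else 0)) else (bif Nat.beq p 2097 then 36812 else 0)) else (bif Nat.ble 2095 p then (bif Nat.beq p 2095 then 2465 else 0) else (bif Nat.beq p 2091 then 6010 else 0))) else (bif Nat.ble 2085 p then (bif Nat.ble 2090 p then (bif Nat.beq p 2090 then 1781 else 0) else (bif Nat.beq p 2085 then 118 else 0)) else (bif Nat.ble 2084 p then (bif Nat.beq p 2084 then 4496 else 0) else (bif Nat.beq p 2080 then 10570 else 0)))) else (bif Nat.ble 2068 p then (bif Nat.ble 2074 p then (bif Nat.ble 2078 p then (bif Nat.beq p 2078 then 1818 else 0) else (bif Nat.beq p 2074 then 1330 else 0)) else (bif Nat.ble 2070 p then (bif Nat.beq p 2070 then 4501 else 0) else (bif Nat.beq p 2068 then 8038 else 0))) else (bif Nat.ble 2063 p then (bif Nat.ble 2064 p then (bif Nat.beq p 2064 then 28896 else 0) else (bif Nat.beq p 2063 then 17550 else 0)) else (bif Nat.ble 2058 p then (bif Nat.beq p 2058 then 175 else 0) else (bif Nat.beq p 2057 then 13652 else 0))))) else (bif Nat.ble 2030 p then (bif Nat.ble 2041 p then (bif Nat.ble 2047 p then (bif Nat.ble 2051 p then (bif Nat.ble 2053 p then (bif Nat.beq p 2053 then 6000 else 0) else (bif Nat.beq p 2051 then 980 else 0)) else (bif Nat.beq p 2047 then 6081 else 0)) else (bif Nat.ble 2043 p then (bif Nat.beq p 2043 then 6012 else 0) else (bif Nat.beq p 2041 then 728 else 0))) else (bif Nat.ble 2036 p then (bif Nat.ble 2037 p then (bif Nat.beq p 2037 then 4503 else 0) else (bif Nat.beq p 2036 then 4517 else 0)) else (bif Nat.ble 2031 p then (bif Nat.beq p 2031 then 964 else 0) else (bif Nat.beq p 2030 then 36800 else 0)))) else (bif Nat.ble 2016 p then (bif Nat.ble 2018 p then (bif Nat.ble 2026 p then (bif Nat.beq p 2026 then 46573 else 0) else (bif Nat.beq p 2018 then 4454 else 0)) else (bif Nat.ble 2017 p then (bif Nat.beq p 2017 then 4432 else 0) else (bif Nat.beq p 2016 then 28866 else 0))) else (bif Nat.ble 2011 p then (bif Nat.ble 2012 p then (bif Nat.beq p 2012 then 6045 else 0) else (bif Nat.beq p 2011 then 6006 else 0)) else (bif Nat.ble 2010 p then (bif Nat.beq p 2010 then 1782 else 0) else (bif Nat.beq p 2006 then 8055 else 0)))))) else (bif Nat.ble 1956 p then (bif Nat.ble 1979 p then (bif Nat.ble 1989 p then (bif Nat.ble 1991 p then (bif Nat.ble 2004 p then (bif Nat.ble 2005 p then (bif Nat.beq p 2005 then 380 else 0) else (bif Nat.beq p 2004 then 4530 else 0)) else (bif Nat.beq p 1991 then 10565 else 0)) else (bif Nat.ble 1990 p then (bif Nat.beq p 1990 then 54 else 0) else (bif Nat.beq p 1989 then 3308 else 0))) else (bif Nat.ble 1984 p then (bif Nat.ble 1985 p then (bif Nat.beq p 1985 then 523 else 0) else (bif Nat.beq p 1984 then 2405 else 0)) else (bif Nat.ble 1983 p then (bif Nat.beq p 1983 then 17554 else 0) else (bif Nat.beq p 1979 then 58401 else 0)))) else (bif Nat.ble 1963 p then (bif Nat.ble 1977 p then (bif Nat.ble 1978 p then (bif Nat.beq p 1978 then 10466 else 0) else (bif Nat.beq p 1977 then 3261 else 0)) else (bif Nat.ble 1964 p then (bif Nat.beq p 1964 then 36808 else 0) else (bif Nat.beq p 1963 then 4473 else 0))) else (bif Nat.ble 1958 p then (bif Nat.ble 1962 p then (bif Nat.beq p 1962 then 13648 else 0) else (bif Nat.beq p 1958 then 997 else 0)) else (bif Nat.ble 1957 p then (bif Nat.beq p 1957 then 121 else 0) else (bif Nat.beq p 1956 then 4514 else 0))))) else (bif Nat.ble 1927 p then (bif Nat.ble 1939 p then (bif Nat.ble 1950 p then (bif Nat.ble 1951 p then (bif Nat.ble 1952 p then (bif Nat.beq p 1952 then 8039 else 0) else (bif Nat.beq p 1951 then 28880 else 0)) else (bif Nat.beq p 1950 then 22541 else 0)) else (bif Nat.ble 1943 p then (bif Nat.beq p 1943 then 10550 else 0) else (bif Nat.beq p 1939 then 5991 else 0))) else (bif Nat.ble 1932 p then (bif Nat.ble 1935 p then (bif Nat.beq p 1935 then 22545 else 0) else (bif Nat.beq p 1932 then 6057 else 0)) else (bif Nat.ble 1931 p then (bif Nat.beq p 1931 then 1346 else 0) else (bif Nat.beq p 1927 then 1797 else 0)))) else (bif Nat.ble 1916 p then (bif Nat.ble 1920 p then (bif Nat.ble 1924 p then (bif Nat.beq p 1924 then 10516 else 0) else (bif Nat.beq p 1920 then 6017 else 0)) else (bif Nat.ble 1919 p then (bif Nat.beq p 1919 then 979 else 0) else (bif Nat.beq p 1916 then 13659 else 0))) else (bif Nat.ble 1908 p then (bif Nat.ble 1912 p then (bif Nat.beq p 1912 then 17543 else 0) else (bif Nat.beq p 1908 then 7972 else 0)) else (bif Nat.ble 1905 p then (bif Nat.beq p 1905 then 8008 else 0) else (bif Nat.beq p 1904 then 720 else 0))))))) else (bif Nat.ble 1800 p then (bif Nat.ble 1851 p then (bif Nat.ble 1877 p then (bif Nat.ble 1889 p then (bif Nat.ble 1893 p then (bif Nat.ble 1897 p then (bif Nat.ble 1900 p then (bif Nat.beq p 1900 then 8014 else 0) else (bif Nat.beq p 1897 then 4495 else 0)) else (bif Nat.beq p 1893 then 1332 else 0)) else (bif Nat.ble 1892 p then (bif Nat.beq p 1892 then 1806 else 0) else (bif Nat.beq p 1889 then 249 else 0))) else (bif Nat.ble 1881 p then (bif Nat.ble 1885 p then (bif Nat.beq p 1885 then 186 else 0) else (bif Nat.beq p 1881 then 267 else 0)) else (bif Nat.ble 1878 p then (bif Nat.beq p 1878 then 46568 else 0) else (bif Nat.beq p 1877 then 8040 else 0)))) else (bif Nat.ble 1865 p then (bif Nat.ble 1870 p then (bif Nat.ble 1873 p then (bif Nat.beq p 1873 then 17548 else 0) else (bif Nat.beq p 1870 then 36797 else 0)) else (bif Nat.ble 1866 p then (bif Nat.beq p 1866 then 13620 else 0) else (bif Nat.beq p 1865 then 10538 else 0))) else (bif Nat.ble 1859 p then (bif Nat.ble 1861 p then (bif Nat.beq p 1861 then 13616 else 0) else (bif Nat.beq p 1859 then 46571 else 0)) else (bif Nat.ble 1854 p then (bif Nat.beq p 1854 then 718 else 0) else (bif Nat.beq p 1851 then 2431 else 0))))) else (bif Nat.ble 1824 p then (bif Nat.ble 1837 p then (bif Nat.ble 1844 p then (bif Nat.ble 1847 p then (bif Nat.ble 1849 p then (bif Nat.beq p 1849 then 3313 else 0) else (bif Nat.beq p 1847 then 120 else 0)) else (bif Nat.beq p 1844 then 28885 else 0)) else (bif Nat.ble 1839 p then (bif Nat.beq p 1839 then 8076 else 0) else (bif Nat.beq p 1837 then 3271 else 0))) else (bif Nat.ble 1832 p then (bif Nat.ble 1834 p then (bif Nat.beq p 1834 then 36825 else 0) else (bif Nat.beq p 1832 then 10520 else 0)) else (bif Nat.ble 1827 p then (bif Nat.beq p 1827 then 978 else 0) else (bif Nat.beq p 1824 then 10527 else 0)))) else (bif Nat.ble 1812 p then (bif Nat.ble 1820 p then (bif Nat.ble 1822 p then (bif Nat.beq p 1822 then 22567 else 0) else (bif Nat.beq p 1820 then 4446 else 0)) else (bif Nat.ble 1817 p then (bif Nat.beq p 1817 then 4499 else 0) else (bif Nat.beq p 1812 then 1795 else 0))) else (bif Nat.ble 1807 p then (bif Nat.ble 1810 p then (bif Nat.beq p 1810 then 179 else 0) else (bif Nat.beq p 1807 then 4524 else 0)) else (bif Nat.ble 1805 p then (bif Nat.beq p 1805 then 6058 else 0) else (bif Nat.beq p 1800 then 254 else 0)))))) else (bif Nat.ble 1747 p then (bif Nat.ble 1773 p then (bif Nat.ble 1785 p then (bif Nat.ble 1793 p then (bif Nat.ble 1795 p then (bif Nat.ble 1797 p then (bif Nat.beq p 1797 then 22531 else 0) else (bif Nat.beq p 1795 then 4465 else 0)) else (bif Nat.beq p 1793 then 10495 else 0)) else (bif Nat.ble 1790 p then (bif Nat.beq p 1790 then 3287 else 0) else (bif Nat.beq p 1785 then 17537 else 0))) else (bif Nat.ble 1775 p then (bif Nat.ble 1783 p then (bif Nat.beq p 1783 then 7998 else 0) else (bif Nat.beq p 1775 then 8011 else 0)) else (bif Nat.ble 1774 p then (bif Nat.beq p 1774 then 22529 else 0) else (bif Nat.beq p 1773 then 10465 else 0)))) else (bif Nat.ble 1760 p then (bif Nat.ble 1771 p then (bif Nat.ble 1772 p then (bif Nat.beq p 1772 then 3316 else 0) else (bif Nat.beq p 1771 then 17 else 0)) else (bif Nat.ble 1770 p then (bif Nat.beq p 1770 then 1798 else 0) else (bif Nat.beq p 1760 then 5988 else 0))) else (bif Nat.ble 1758 p then (bif Nat.ble 1759 p then (bif Nat.beq p 1759 then 13662 else 0) else (bif Nat.beq p 1758 then 10507 else 0)) else (bif Nat.ble 1748 p then (bif Nat.beq p 1748 then 58402 else 0) else (bif Nat.beq p 1747 then 8081 else 0))))) else (bif Nat.ble 1721 p then (bif Nat.ble 1743 p then (bif Nat.ble 1745 p then (bif Nat.ble 1746 p then (bif Nat.beq p 1746 then 17549 else 0) else (bif Nat.beq p 1745 then 22559 else 0)) else (bif Nat.ble 1744 p then (bif Nat.beq p 1744 then 1784 else 0) else (bif Nat.beq p 1743 then 4467 else 0))) else (bif Nat.ble 1732 p then (bif Nat.ble 1733 p then (bif Nat.beq p 1733 then 177 else 0) else (bif Nat.beq p 1732 then 1338 else 0)) else (bif Nat.ble 1731 p then (bif Nat.beq p 1731 then 4498 else 0) else (bif Nat.beq p 1721 then 8056 else 0)))) else (bif Nat.ble 1717 p then (bif Nat.ble 1719 p then (bif Nat.ble 1720 p then (bif Nat.beq p 1720 then 3265 else 0) else (bif Nat.beq p 1719 then 183 else 0)) else (bif Nat.ble 1718 p then (bif Nat.beq p 1718 then 2416 else 0) else (bif Nat.beq p 1717 then 1768 else 0))) else (bif Nat.ble 1706 p then (bif Nat.ble 1716 p then (bif Nat.beq p 1716 then 17553 else 0) else (bif Nat.beq p 1706 then 13626 else 0)) else (bif Nat.ble 1705 p then (bif Nat.beq p 1705 then 4526 else 0) else (bif Nat.beq p 1704 then 36807 else 0)))))))))) else (bif Nat.ble 893 p then (bif Nat.ble 1297 p then (bif Nat.ble 1507 p then (bif Nat.ble 1600 p then (bif Nat.ble 1652 p then (bif Nat.ble 1676 p then (bif Nat.ble 1687 p then (bif Nat.ble 1692 p then (bif Nat.ble 1695 p then (bif Nat.ble 1698 p then (bif Nat.beq p 1698 then 3320 else 0) else (bif Nat.beq p 1695 then 1344 else 0)) else (bif Nat.beq p 1692 then 2432 else 0)) else (bif Nat.ble 1690 p then (bif Nat.beq p 1690 then 4538 else 0) else (bif Nat.beq p 1687 then 46587 else 0))) else (bif Nat.ble 1682 p then (bif Nat.ble 1684 p then (bif Nat.beq p 1684 then 36814 else 0) else (bif Nat.beq p 1682 then 3272 else 0)) else (bif Nat.ble 1679 p then (bif Nat.beq p 1679 then 28887 else 0) else (bif Nat.beq p 1676 then 1791 else 0)))) else (bif Nat.ble 1663 p then (bif Nat.ble 1668 p then (bif Nat.ble 1671 p then (bif Nat.beq p 1671 then 2414 else 0) else (bif Nat.beq p 1668 then 28872 else 0)) else (bif Nat.ble 1665 p then (bif Nat.beq p 1665 then 22538 else 0) else (bif Nat.beq p 1663 then 1773 else 0))) else (bif Nat.ble 1657 p then (bif Nat.ble 1660 p then (bif Nat.beq p 1660 then 6072 else 0) else (bif Nat.beq p 1657 then 531 else 0)) else (bif Nat.ble 1655 p then (bif Nat.beq p 1655 then 7994 else 0) else (bif Nat.beq p 1652 then 3282 else 0))))) else (bif Nat.ble 1625 p then (bif Nat.ble 1636 p then (bif Nat.ble 1641 p then (bif Nat.ble 1644 p then (bif Nat.ble 1649 p then (bif Nat.beq p 1649 then 17597 else 0) else (bif Nat.beq p 1644 then 22555 else 0)) else (bif Nat.beq p 1641 then 36795 else 0)) else (bif Nat.ble 1638 p then (bif Nat.beq p 1638 then 10571 else 0) else (bif Nat.beq p 1636 then 13611 else 0))) else (bif Nat.ble 1630 p then (bif Nat.ble 1633 p then (bif Nat.beq p 1633 then 10488 else 0) else (bif Nat.beq p 1630 then 13590 else 0)) else (bif Nat.ble 1628 p then (bif Nat.beq p 1628 then 79 else 0) else (bif Nat.beq p 1625 then 8063 else 0)))) else (bif Nat.ble 1611 p then (bif Nat.ble 1617 p then (bif Nat.ble 1622 p then (bif Nat.beq p 1622 then 3328 else 0) else (bif Nat.beq p 1617 then 8066 else 0)) else (bif Nat.ble 1614 p then (bif Nat.beq p 1614 then 36 else 0) else (bif Nat.beq p 1611 then 3315 else 0))) else (bif Nat.ble 1607 p then (bif Nat.ble 1610 p then (bif Nat.beq p 1610 then 46589 else 0) else (bif Nat.beq p 1607 then 6048 else 0)) else (bif Nat.ble 1604 p then (bif Nat.beq p 1604 then 4491 else 0) else (bif Nat.beq p 1600 then 6008 else 0)))))) else (bif Nat.ble 1550 p then (bif Nat.ble 1573 p then (bif Nat.ble 1584 p then (bif Nat.ble 1590 p then (bif Nat.ble 1594 p then (bif Nat.ble 1597 p then (bif Nat.beq p 1597 then 2417 else 0) else (bif Nat.beq p 1594 then 22544 else 0)) else (bif Nat.beq p 1590 then 3276 else 0)) else (bif Nat.ble 1587 p then (bif Nat.beq p 1587 then 3260 else 0) else (bif Nat.beq p 1584 then 28886 else 0))) else (bif Nat.ble 1580 p then (bif Nat.ble 1583 p then (bif Nat.beq p 1583 then 10557 else 0) else (bif Nat.beq p 1580 then 113 else 0)) else (bif Nat.ble 1577 p then (bif Nat.beq p 1577 then 13678 else 0) else (bif Nat.beq p 1573 then 22560 else 0)))) else (bif Nat.ble 1560 p then (bif Nat.ble 1567 p then (bif Nat.ble 1570 p then (bif Nat.beq p 1570 then 2396 else 0) else (bif Nat.beq p 1567 then 2412 else 0)) else (bif Nat.ble 1563 p then (bif Nat.beq p 1563 then 28867 else 0) else (bif Nat.beq p 1560 then 3289 else 0))) else (bif Nat.ble 1556 p then (bif Nat.ble 1557 p then (bif Nat.beq p 1557 then 8002 else 0) else (bif Nat.beq p 1556 then 6038 else 0)) else (bif Nat.ble 1553 p then (bif Nat.beq p 1553 then 8026 else 0) else (bif Nat.beq p 1550 then 36826 else 0))))) else (bif Nat.ble 1533 p then (bif Nat.ble 1537 p then (bif Nat.ble 1540 p then (bif Nat.ble 1543 p then (bif Nat.ble 1546 p then (bif Nat.beq p 1546 then 2440 else 0) else (bif Nat.beq p 1543 then 25 else 0)) else (bif Nat.beq p 1540 then 6077 else 0)) else (bif Nat.ble 1538 p then (bif Nat.beq p 1538 then 2447 else 0) else (bif Nat.beq p 1537 then 369 else 0))) else (bif Nat.ble 1535 p then (bif Nat.ble 1536 p then (bif Nat.beq p 1536 then 6069 else 0) else (bif Nat.beq p 1535 then 6075 else 0)) else (bif Nat.ble 1534 p then (bif Nat.beq p 1534 then 3312 else 0) else (bif Nat.beq p 1533 then 970 else 0)))) else (bif Nat.ble 1511 p then (bif Nat.ble 1531 p then (bif Nat.ble 1532 p then (bif Nat.beq p 1532 then 53 else 0) else (bif Nat.beq p 1531 then 529 else 0)) else (bif Nat.ble 1530 p then (bif Nat.beq p 1530 then 985 else 0) else (bif Nat.beq p 1511 then 13664 else 0))) else (bif Nat.ble 1509 p then (bif Nat.ble 1510 p then (bif Nat.beq p 1510 then 13635 else 0) else (bif Nat.beq p 1509 then 7988 else 0)) else (bif Nat.ble 1508 p then (bif Nat.beq p 1508 then 2413 else 0) else (bif Nat.beq p 1507 then 28878 else 0))))))) else (bif Nat.ble 1396 p then (bif Nat.ble 1447 p then (bif Nat.ble 1480 p then (bif Nat.ble 1484 p then (bif Nat.ble 1504 p then (bif Nat.ble 1505 p then (bif Nat.ble 1506 p then (bif Nat.beq p 1506 then 13591 else 0) else (bif Nat.beq p 1505 then 6003 else 0)) else (bif Nat.beq p 1504 then 1819 else 0)) else (bif Nat.ble 1503 p then (bif Nat.beq p 1503 then 10491 else 0) else (bif Nat.beq p 1484 then 1325 else 0))) else (bif Nat.ble 1482 p then (bif Nat.ble 1483 p then (bif Nat.beq p 1483 then 5987 else 0) else (bif Nat.beq p 1482 then 36822 else 0)) else (bif Nat.ble 1481 p then (bif Nat.beq p 1481 then 22552 else 0) else (bif Nat.beq p 1480 then 8009 else 0)))) else (bif Nat.ble 1476 p then (bif Nat.ble 1478 p then (bif Nat.ble 1479 p then (bif Nat.beq p 1479 then 46585 else 0) else (bif Nat.beq p 1478 then 2410 else 0)) else (bif Nat.ble 1477 p then (bif Nat.beq p 1477 then 6039 else 0) else (bif Nat.beq p 1476 then 4536 else 0))) else (bif Nat.ble 1452 p then (bif Nat.ble 1457 p then (bif Nat.beq p 1457 then 22567 else 0) else (bif Nat.beq p 1452 then 10527 else 0)) else (bif Nat.ble 1450 p then (bif Nat.beq p 1450 then 4446 else 0) else (bif Nat.beq p 1447 then 10520 else 0))))) else (bif Nat.ble 1420 p then (bif Nat.ble 1433 p then (bif Nat.ble 1437 p then (bif Nat.ble 1440 p then (bif Nat.ble 1445 p then (bif Nat.beq p 1445 then 36825 else 0) else (bif Nat.beq p 1440 then 978 else 0)) else (bif Nat.beq p 1437 then 1795 else 0)) else (bif Nat.ble 1435 p then (bif Nat.beq p 1435 then 4499 else 0) else (bif Nat.beq p 1433 then 179 else 0))) else (bif Nat.ble 1425 p then (bif Nat.ble 1430 p then (bif Nat.beq p 1430 then 3313 else 0) else (bif Nat.beq p 1425 then 2431 else 0)) else (bif Nat.ble 1423 p then (bif Nat.beq p 1423 then 120 else 0) else (bif Nat.beq p 1420 then 46571 else 0)))) else (bif Nat.ble 1408 p then (bif Nat.ble 1413 p then (bif Nat.ble 1418 p then (bif Nat.beq p 1418 then 13616 else 0) else (bif Nat.beq p 1413 then 718 else 0)) else (bif Nat.ble 1410 p then (bif Nat.beq p 1410 then 8076 else 0) else (bif Nat.beq p 1408 then 28885 else 0))) else (bif Nat.ble 1403 p then (bif Nat.ble 1406 p then (bif Nat.beq p 1406 then 3271 else 0) else (bif Nat.beq p 1403 then 4465 else 0)) else (bif Nat.ble 1398 p then (bif Nat.beq p 1398 then 22531 else 0) else (bif Nat.beq p 1396 then 10495 else 0)))))) else (bif Nat.ble 1344 p then (bif Nat.ble 1370 p then (bif Nat.ble 1381 p then (bif Nat.ble 1386 p then (bif Nat.ble 1391 p then (bif Nat.ble 1393 p then (bif Nat.beq p 1393 then 6058 else 0) else (bif Nat.beq p 1391 then 4524 else 0)) else (bif Nat.beq p 1386 then 254 else 0)) else (bif Nat.ble 1383 p then (bif Nat.beq p 1383 then 17537 else 0) else (bif Nat.beq p 1381 then 3287 else 0))) else (bif Nat.ble 1375 p then (bif Nat.ble 1379 p then (bif Nat.beq p 1379 then 7998 else 0) else (bif Nat.beq p 1375 then 720 else 0)) else (bif Nat.ble 1371 p then (bif Nat.beq p 1371 then 8008 else 0) else (bif Nat.beq p 1370 then 8014 else 0)))) else (bif Nat.ble 1356 p then (bif Nat.ble 1363 p then (bif Nat.ble 1367 p then (bif Nat.beq p 1367 then 17543 else 0) else (bif Nat.beq p 1363 then 13659 else 0)) else (bif Nat.ble 1359 p then (bif Nat.beq p 1359 then 7972 else 0) else (bif Nat.beq p 1356 then 1332 else 0))) else (bif Nat.ble 1351 p then (bif Nat.ble 1355 p then (bif Nat.beq p 1355 then 4495 else 0) else (bif Nat.beq p 1351 then 1806 else 0)) else (bif Nat.ble 1348 p then (bif Nat.beq p 1348 then 1346 else 0) else (bif Nat.beq p 1344 then 6057 else 0))))) else (bif Nat.ble 1321 p then (bif Nat.ble 1332 p then (bif Nat.ble 1340 p then (bif Nat.ble 1343 p then (bif Nat.beq p 1343 then 1797 else 0) else (bif Nat.beq p 1340 then 5991 else 0)) else (bif Nat.ble 1336 p then (bif Nat.beq p 1336 then 10550 else 0) else (bif Nat.beq p 1332 then 22545 else 0))) else (bif Nat.ble 1328 p then (bif Nat.ble 1329 p then (bif Nat.beq p 1329 then 6017 else 0) else (bif Nat.beq p 1328 then 10516 else 0)) else (bif Nat.ble 1324 p then (bif Nat.beq p 1324 then 979 else 0) else (bif Nat.beq p 1321 then 8040 else 0)))) else (bif Nat.ble 1309 p then (bif Nat.ble 1316 p then (bif Nat.ble 1317 p then (bif Nat.beq p 1317 then 46568 else 0) else (bif Nat.beq p 1316 then 17548 else 0)) else (bif Nat.ble 1313 p then (bif Nat.beq p 1313 then 186 else 0) else (bif Nat.beq p 1309 then 249 else 0))) else (bif Nat.ble 1302 p then (bif Nat.ble 1305 p then (bif Nat.beq p 1305 then 267 else 0) else (bif Nat.beq p 1302 then 13620 else 0)) else (bif Nat.ble 1301 p then (bif Nat.beq p 1301 then 36797 else 0) else (bif Nat.beq p 1297 then 10538 else 0)))))))) else (bif Nat.ble 1094 p then (bif Nat.ble 1195 p then (bif Nat.ble 1249 p then (bif Nat.ble 1275 p then (bif Nat.ble 1279 p then (bif Nat.ble 1290 p then (bif Nat.ble 1291 p then (bif Nat.ble 1292 p then (bif Nat.beq p 1292 then 1784 else 0) else (bif Nat.beq p 1291 then 22559 else 0)) else (bif Nat.beq p 1290 then 4467 else 0)) else (bif Nat.ble 1280 p then (bif Nat.beq p 1280 then 8081 else 0) else (bif Nat.beq p 1279 then 58402 else 0))) else (bif Nat.ble 1277 p then (bif Nat.ble 1278 p then (bif Nat.beq p 1278 then 17549 else 0) else (bif Nat.beq p 1277 then 1338 else 0)) else (bif Nat.ble 1276 p then (bif Nat.beq p 1276 then 177 else 0) else (bif Nat.beq p 1275 then 4498 else 0)))) else (bif Nat.ble 1253 p then (bif Nat.ble 1264 p then (bif Nat.ble 1265 p then (bif Nat.beq p 1265 then 17 else 0) else (bif Nat.beq p 1264 then 3316 else 0)) else (bif Nat.ble 1263 p then (bif Nat.beq p 1263 then 1798 else 0) else (bif Nat.beq p 1253 then 22529 else 0))) else (bif Nat.ble 1251 p then (bif Nat.ble 1252 p then (bif Nat.beq p 1252 then 8011 else 0) else (bif Nat.beq p 1251 then 10465 else 0)) else (bif Nat.ble 1250 p then (bif Nat.beq p 1250 then 13662 else 0) else (bif Nat.beq p 1249 then 5988 else 0))))) else (bif Nat.ble 1222 p then (bif Nat.ble 1226 p then (bif Nat.ble 1237 p then (bif Nat.ble 1238 p then (bif Nat.ble 1248 p then (bif Nat.beq p 1248 then 10507 else 0) else (bif Nat.beq p 1238 then 1768 else 0)) else (bif Nat.beq p 1237 then 2416 else 0)) else (bif Nat.ble 1236 p then (bif Nat.beq p 1236 then 17553 else 0) else (bif Nat.beq p 1226 then 3265 else 0))) else (bif Nat.ble 1224 p then (bif Nat.ble 1225 p then (bif Nat.beq p 1225 then 8056 else 0) else (bif Nat.beq p 1224 then 183 else 0)) else (bif Nat.ble 1223 p then (bif Nat.beq p 1223 then 4526 else 0) else (bif Nat.beq p 1222 then 13626 else 0)))) else (bif Nat.ble 1207 p then (bif Nat.ble 1212 p then (bif Nat.ble 1221 p then (bif Nat.beq p 1221 then 36807 else 0) else (bif Nat.beq p 1212 then 28896 else 0)) else (bif Nat.ble 1211 p then (bif Nat.beq p 1211 then 8038 else 0) else (bif Nat.beq p 1207 then 17550 else 0))) else (bif Nat.ble 1201 p then (bif Nat.ble 1205 p then (bif Nat.beq p 1205 then 1330 else 0) else (bif Nat.beq p 1201 then 1818 else 0)) else (bif Nat.ble 1197 p then (bif Nat.beq p 1197 then 4501 else 0) else (bif Nat.beq p 1195 then 13652 else 0)))))) else (bif Nat.ble 1143 p then (bif Nat.ble 1168 p then (bif Nat.ble 1180 p then (bif Nat.ble 1185 p then (bif Nat.ble 1190 p then (bif Nat.ble 1191 p then (bif Nat.beq p 1191 then 175 else 0) else (bif Nat.beq p 1190 then 6000 else 0)) else (bif Nat.beq p 1185 then 6010 else 0)) else (bif Nat.ble 1184 p then (bif Nat.beq p 1184 then 2465 else 0) else (bif Nat.beq p 1180 then 1781 else 0))) else (bif Nat.ble 1174 p then (bif Nat.ble 1178 p then (bif Nat.beq p 1178 then 13609 else 0) else (bif Nat.beq p 1174 then 10544 else 0)) else (bif Nat.ble 1170 p then (bif Nat.beq p 1170 then 36812 else 0) else (bif Nat.beq p 1168 then 4496 else 0)))) else (bif Nat.ble 1157 p then (bif Nat.ble 1163 p then (bif Nat.ble 1164 p then (bif Nat.beq p 1164 then 118 else 0) else (bif Nat.beq p 1163 then 10570 else 0)) else (bif Nat.ble 1158 p then (bif Nat.beq p 1158 then 4503 else 0) else (bif Nat.beq p 1157 then 728 else 0))) else (bif Nat.ble 1151 p then (bif Nat.ble 1153 p then (bif Nat.beq p 1153 then 4517 else 0) else (bif Nat.beq p 1151 then 6081 else 0)) else (bif Nat.ble 1147 p then (bif Nat.beq p 1147 then 980 else 0) else (bif Nat.beq p 1143 then 6012 else 0))))) else (bif Nat.ble 1116 p then (bif Nat.ble 1129 p then (bif Nat.ble 1136 p then (bif Nat.ble 1137 p then (bif Nat.ble 1141 p then (bif Nat.beq p 1141 then 36800 else 0) else (bif Nat.beq p 1137 then 964 else 0)) else (bif Nat.beq p 1136 then 46573 else 0)) else (bif Nat.ble 1131 p then (bif Nat.beq p 1131 then 36798 else 0) else (bif Nat.beq p 1129 then 4443 else 0))) else (bif Nat.ble 1123 p then (bif Nat.ble 1127 p then (bif Nat.beq p 1127 then 3285 else 0) else (bif Nat.beq p 1123 then 258 else 0)) else (bif Nat.ble 1121 p then (bif Nat.beq p 1121 then 4515 else 0) else (bif Nat.beq p 1116 then 1331 else 0)))) else (bif Nat.ble 1104 p then (bif Nat.ble 1110 p then (bif Nat.ble 1115 p then (bif Nat.beq p 1115 then 28863 else 0) else (bif Nat.beq p 1110 then 6093 else 0)) else (bif Nat.ble 1108 p then (bif Nat.beq p 1108 then 6029 else 0) else (bif Nat.beq p 1104 then 4452 else 0))) else (bif Nat.ble 1100 p then (bif Nat.ble 1102 p then (bif Nat.beq p 1102 then 10496 else 0) else (bif Nat.beq p 1100 then 22554 else 0)) else (bif Nat.ble 1096 p then (bif Nat.beq p 1096 then 17568 else 0) else (bif Nat.beq p 1094 then 3280 else 0))))))) else (bif Nat.ble 996 p then (bif Nat.ble 1037 p then (bif Nat.ble 1067 p then (bif Nat.ble 1077 p then (bif Nat.ble 1083 p then (bif Nat.ble 1088 p then (bif Nat.ble 1089 p then (bif Nat.beq p 1089 then 13613 else 0) else (bif Nat.beq p 1088 then 4439 else 0)) else (bif Nat.beq p 1083 then 2400 else 0)) else (bif Nat.ble 1081 p then (bif Nat.beq p 1081 then 76 else 0) else (bif Nat.beq p 1077 then 10567 else 0))) else (bif Nat.ble 1073 p then (bif Nat.ble 1075 p then (bif Nat.beq p 1075 then 119 else 0) else (bif Nat.beq p 1073 then 2437 else 0)) else (bif Nat.ble 1069 p then (bif Nat.beq p 1069 then 7975 else 0) else (bif Nat.beq p 1067 then 28879 else 0)))) else (bif Nat.ble 1054 p then (bif Nat.ble 1061 p then (bif Nat.ble 1062 p then (bif Nat.beq p 1062 then 6023 else 0) else (bif Nat.beq p 1061 then 10575 else 0)) else (bif Nat.ble 1056 p then (bif Nat.beq p 1056 then 17539 else 0) else (bif Nat.beq p 1054 then 4485 else 0))) else (bif Nat.ble 1051 p then (bif Nat.ble 1052 p then (bif Nat.beq p 1052 then 2405 else 0) else (bif Nat.beq p 1051 then 523 else 0)) else (bif Nat.ble 1050 p then (bif Nat.beq p 1050 then 17554 else 0) else (bif Nat.beq p 1037 then 54 else 0))))) else (bif Nat.ble 1010 p then (bif Nat.ble 1029 p then (bif Nat.ble 1031 p then (bif Nat.ble 1035 p then (bif Nat.ble 1036 p then (bif Nat.beq p 1036 then 10565 else 0) else (bif Nat.beq p 1035 then 3308 else 0)) else (bif Nat.beq p 1031 then 10466 else 0)) else (bif Nat.ble 1030 p then (bif Nat.beq p 1030 then 58401 else 0) else (bif Nat.beq p 1029 then 3261 else 0))) else (bif Nat.ble 1024 p then (bif Nat.ble 1025 p then (bif Nat.beq p 1025 then 6006 else 0) else (bif Nat.beq p 1024 then 6045 else 0)) else (bif Nat.ble 1023 p then (bif Nat.beq p 1023 then 1782 else 0) else (bif Nat.beq p 1010 then 4432 else 0)))) else (bif Nat.ble 1003 p then (bif Nat.ble 1008 p then (bif Nat.ble 1009 p then (bif Nat.beq p 1009 then 4454 else 0) else (bif Nat.beq p 1008 then 28866 else 0)) else (bif Nat.ble 1004 p then (bif Nat.beq p 1004 then 380 else 0) else (bif Nat.beq p 1003 then 8055 else 0))) else (bif Nat.ble 998 p then (bif Nat.ble 1002 p then (bif Nat.beq p 1002 then 4530 else 0) else (bif Nat.beq p 998 then 121 else 0)) else (bif Nat.ble 997 p then (bif Nat.beq p 997 then 997 else 0) else (bif Nat.beq p 996 then 4514 else 0)))))) else (bif Nat.ble 940 p then (bif Nat.ble 964 p then (bif Nat.ble 976 p then (bif Nat.ble 981 p then (bif Nat.ble 982 p then (bif Nat.ble 983 p then (bif Nat.beq p 983 then 4473 else 0) else (bif Nat.beq p 982 then 36808 else 0)) else (bif Nat.beq p 981 then 13648 else 0)) else (bif Nat.ble 977 p then (bif Nat.beq p 977 then 28880 else 0) else (bif Nat.beq p 976 then 8039 else 0))) else (bif Nat.ble 970 p then (bif Nat.ble 975 p then (bif Nat.beq p 975 then 22541 else 0) else (bif Nat.beq p 970 then 113 else 0)) else (bif Nat.ble 967 p then (bif Nat.beq p 967 then 10557 else 0) else (bif Nat.beq p 964 then 13678 else 0)))) else (bif Nat.ble 953 p then (bif Nat.ble 957 p then (bif Nat.ble 960 p then (bif Nat.beq p 960 then 3260 else 0) else (bif Nat.beq p 957 then 3276 else 0)) else (bif Nat.ble 954 p then (bif Nat.beq p 954 then 28886 else 0) else (bif Nat.beq p 953 then 2396 else 0))) else (bif Nat.ble 947 p then (bif Nat.ble 950 p then (bif Nat.beq p 950 then 22560 else 0) else (bif Nat.beq p 947 then 2412 else 0)) else (bif Nat.ble 943 p then (bif Nat.beq p 943 then 6048 else 0) else (bif Nat.beq p 940 then 46589 else 0))))) else (bif Nat.ble 916 p then (bif Nat.ble 927 p then (bif Nat.ble 933 p then (bif Nat.ble 937 p then (bif Nat.beq p 937 then 4491 else 0) else (bif Nat.beq p 933 then 36 else 0)) else (bif Nat.ble 930 p then (bif Nat.beq p 930 then 8066 else 0) else (bif Nat.beq p 927 then 3315 else 0))) else (bif Nat.ble 923 p then (bif Nat.ble 926 p then (bif Nat.beq p 926 then 2417 else 0) else (bif Nat.beq p 923 then 6008 else 0)) else (bif Nat.ble 920 p then (bif Nat.beq p 920 then 22544 else 0) else (bif Nat.beq p 916 then 8026 else 0)))) else (bif Nat.ble 903 p then (bif Nat.ble 910 p then (bif Nat.ble 913 p then (bif Nat.beq p 913 then 6038 else 0) else (bif Nat.beq p 910 then 36826 else 0)) else (bif Nat.ble 906 p then (bif Nat.beq p 906 then 3289 else 0) else (bif Nat.beq p 903 then 28867 else 0))) else (bif Nat.ble 899 p then (bif Nat.ble 900 p then (bif Nat.beq p 900 then 8002 else 0) else (bif Nat.beq p 899 then 25 else 0)) else (bif Nat.ble 896 p then (bif Nat.beq p 896 then 2440 else 0) else (bif Nat.beq p 893 then 6077 else 0))))))))) else (bif Nat.ble 492 p then (bif Nat.ble 688 p then (bif Nat.ble 794 p then (bif Nat.ble 841 p then (bif Nat.ble 865 p then (bif Nat.ble 876 p then (bif Nat.ble 884 p then (bif Nat.ble 887 p then (bif Nat.ble 890 p then (bif Nat.beq p 890 then 6072 else 0) else (bif Nat.beq p 887 then 1773 else 0)) else (bif Nat.beq p 884 then 531 else 0)) else (bif Nat.ble 879 p then (bif Nat.beq p 879 then 28872 else 0) else (bif Nat.beq p 876 then 2414 else 0))) else (bif Nat.ble 871 p then (bif Nat.ble 873 p then (bif Nat.beq p 873 then 22538 else 0) else (bif Nat.beq p 871 then 3282 else 0)) else (bif Nat.ble 868 p then (bif Nat.beq p 868 then 7994 else 0) else (bif Nat.beq p 865 then 17597 else 0)))) else (bif Nat.ble 852 p then (bif Nat.ble 860 p then (bif Nat.ble 863 p then (bif Nat.beq p 863 then 46587 else 0) else (bif Nat.beq p 860 then 4538 else 0)) else (bif Nat.ble 857 p then (bif Nat.beq p 857 then 36814 else 0) else (bif Nat.beq p 852 then 1344 else 0))) else (bif Nat.ble 846 p then (bif Nat.ble 849 p then (bif Nat.beq p 849 then 3320 else 0) else (bif Nat.beq p 846 then 2432 else 0)) else (bif Nat.ble 844 p then (bif Nat.beq p 844 then 28887 else 0) else (bif Nat.beq p 841 then 3272 else 0))))) else (bif Nat.ble 814 p then (bif Nat.ble 825 p then (bif Nat.ble 833 p then (bif Nat.ble 836 p then (bif Nat.ble 838 p then (bif Nat.beq p 838 then 1791 else 0) else (bif Nat.beq p 836 then 10488 else 0)) else (bif Nat.beq p 833 then 13611 else 0)) else (bif Nat.ble 830 p then (bif Nat.beq p 830 then 13590 else 0) else (bif Nat.beq p 825 then 36795 else 0))) else (bif Nat.ble 819 p then (bif Nat.ble 822 p then (bif Nat.beq p 822 then 22555 else 0) else (bif Nat.beq p 819 then 10571 else 0)) else (bif Nat.ble 817 p then (bif Nat.beq p 817 then 8063 else 0) else (bif Nat.beq p 814 then 79 else 0)))) else (bif Nat.ble 798 p then (bif Nat.ble 800 p then (bif Nat.ble 811 p then (bif Nat.beq p 811 then 3328 else 0) else (bif Nat.beq p 800 then 28878 else 0)) else (bif Nat.ble 799 p then (bif Nat.beq p 799 then 2413 else 0) else (bif Nat.beq p 798 then 13591 else 0))) else (bif Nat.ble 796 p then (bif Nat.ble 797 p then (bif Nat.beq p 797 then 13635 else 0) else (bif Nat.beq p 796 then 13664 else 0)) else (bif Nat.ble 795 p then (bif Nat.beq p 795 then 7988 else 0) else (bif Nat.beq p 794 then 1819 else 0)))))) else (bif Nat.ble 741 p then (bif Nat.ble 767 p then (bif Nat.ble 771 p then (bif Nat.ble 773 p then (bif Nat.ble 792 p then (bif Nat.ble 793 p then (bif Nat.beq p 793 then 6003 else 0) else (bif Nat.beq p 792 then 10491 else 0)) else (bif Nat.beq p 773 then 3312 else 0)) else (bif Nat.ble 772 p then (bif Nat.beq p 772 then 6075 else 0) else (bif Nat.beq p 771 then 970 else 0))) else (bif Nat.ble 769 p then (bif Nat.ble 770 p then (bif Nat.beq p 770 then 369 else 0) else (bif Nat.beq p 769 then 2447 else 0)) else (bif Nat.ble 768 p then (bif Nat.beq p 768 then 6069 else 0) else (bif Nat.beq p 767 then 529 else 0)))) else (bif Nat.ble 745 p then (bif Nat.ble 765 p then (bif Nat.ble 766 p then (bif Nat.beq p 766 then 53 else 0) else (bif Nat.beq p 765 then 985 else 0)) else (bif Nat.ble 746 p then (bif Nat.beq p 746 then 8009 else 0) else (bif Nat.beq p 745 then 22552 else 0))) else (bif Nat.ble 743 p then (bif Nat.ble 744 p then (bif Nat.beq p 744 then 46585 else 0) else (bif Nat.beq p 743 then 5987 else 0)) else (bif Nat.ble 742 p then (bif Nat.beq p 742 then 1325 else 0) else (bif Nat.beq p 741 then 36822 else 0))))) else (bif Nat.ble 713 p then (bif Nat.ble 724 p then (bif Nat.ble 738 p then (bif Nat.ble 739 p then (bif Nat.ble 740 p then (bif Nat.beq p 740 then 6039 else 0) else (bif Nat.beq p 739 then 2410 else 0)) else (bif Nat.beq p 738 then 4536 else 0)) else (bif Nat.ble 726 p then (bif Nat.beq p 726 then 8048 else 0) else (bif Nat.beq p 724 then 28864 else 0))) else (bif Nat.ble 717 p then (bif Nat.ble 722 p then (bif Nat.beq p 722 then 2399 else 0) else (bif Nat.beq p 717 then 28876 else 0)) else (bif Nat.ble 715 p then (bif Nat.beq p 715 then 3269 else 0) else (bif Nat.beq p 713 then 4463 else 0)))) else (bif Nat.ble 699 p then (bif Nat.ble 706 p then (bif Nat.ble 708 p then (bif Nat.beq p 708 then 8062 else 0) else (bif Nat.beq p 706 then 2435 else 0)) else (bif Nat.ble 704 p then (bif Nat.beq p 704 then 80 else 0) else (bif Nat.beq p 699 then 170 else 0))) else (bif Nat.ble 695 p then (bif Nat.ble 697 p then (bif Nat.beq p 697 then 6087 else 0) else (bif Nat.beq p 695 then 3351 else 0)) else (bif Nat.ble 690 p then (bif Nat.beq p 690 then 3277 else 0) else (bif Nat.beq p 688 then 7999 else 0))))))) else (bif Nat.ble 586 p then (bif Nat.ble 636 p then (bif Nat.ble 661 p then (bif Nat.ble 672 p then (bif Nat.ble 679 p then (bif Nat.ble 681 p then (bif Nat.ble 686 p then (bif Nat.beq p 686 then 17560 else 0) else (bif Nat.beq p 681 then 6002 else 0)) else (bif Nat.beq p 679 then 22550 else 0)) else (bif Nat.ble 677 p then (bif Nat.beq p 677 then 4456 else 0) else (bif Nat.beq p 672 then 10533 else 0))) else (bif Nat.ble 668 p then (bif Nat.ble 670 p then (bif Nat.beq p 670 then 4434 else 0) else (bif Nat.beq p 668 then 17551 else 0)) else (bif Nat.ble 663 p then (bif Nat.beq p 663 then 8074 else 0) else (bif Nat.beq p 661 then 178 else 0)))) else (bif Nat.ble 650 p then (bif Nat.ble 654 p then (bif Nat.ble 659 p then (bif Nat.beq p 659 then 1800 else 0) else (bif Nat.beq p 654 then 46581 else 0)) else (bif Nat.ble 652 p then (bif Nat.beq p 652 then 10508 else 0) else (bif Nat.beq p 650 then 1778 else 0))) else (bif Nat.ble 644 p then (bif Nat.ble 645 p then (bif Nat.beq p 645 then 3298 else 0) else (bif Nat.beq p 644 then 13589 else 0)) else (bif Nat.ble 640 p then (bif Nat.beq p 640 then 28889 else 0) else (bif Nat.beq p 636 then 13622 else 0))))) else (bif Nat.ble 609 p then (bif Nat.ble 622 p then (bif Nat.ble 627 p then (bif Nat.ble 631 p then (bif Nat.ble 635 p then (bif Nat.beq p 635 then 36813 else 0) else (bif Nat.beq p 631 then 10536 else 0)) else (bif Nat.beq p 627 then 4508 else 0)) else (bif Nat.ble 626 p then (bif Nat.beq p 626 then 727 else 0) else (bif Nat.beq p 622 then 8071 else 0))) else (bif Nat.ble 617 p then (bif Nat.ble 618 p then (bif Nat.beq p 618 then 51 else 0) else (bif Nat.beq p 617 then 266 else 0)) else (bif Nat.ble 613 p then (bif Nat.beq p 613 then 379 else 0) else (bif Nat.beq p 609 then 1319 else 0)))) else (bif Nat.ble 599 p then (bif Nat.ble 604 p then (bif Nat.ble 608 p then (bif Nat.beq p 608 then 4459 else 0) else (bif Nat.beq p 604 then 3333 else 0)) else (bif Nat.ble 600 p then (bif Nat.beq p 600 then 1783 else 0) else (bif Nat.beq p 599 then 2448 else 0))) else (bif Nat.ble 591 p then (bif Nat.ble 595 p then (bif Nat.beq p 595 then 5999 else 0) else (bif Nat.beq p 591 then 4471 else 0)) else (bif Nat.ble 590 p then (bif Nat.beq p 590 then 22551 else 0) else (bif Nat.beq p 586 then 17525 else 0)))))) else (bif Nat.ble 538 p then (bif Nat.ble 564 p then (bif Nat.ble 572 p then (bif Nat.ble 577 p then (bif Nat.ble 581 p then (bif Nat.ble 582 p then (bif Nat.beq p 582 then 3346 else 0) else (bif Nat.beq p 581 then 6070 else 0)) else (bif Nat.beq p 577 then 989 else 0)) else (bif Nat.ble 573 p then (bif Nat.beq p 573 then 17562 else 0) else (bif Nat.beq p 572 then 8030 else 0))) else (bif Nat.ble 566 p then (bif Nat.ble 568 p then (bif Nat.beq p 568 then 46569 else 0) else (bif Nat.beq p 566 then 58403 else 0)) else (bif Nat.ble 565 p then (bif Nat.beq p 565 then 17556 else 0) else (bif Nat.beq p 564 then 8027 else 0)))) else (bif Nat.ble 548 p then (bif Nat.ble 556 p then (bif Nat.ble 557 p then (bif Nat.beq p 557 then 22527 else 0) else (bif Nat.beq p 556 then 4460 else 0)) else (bif Nat.ble 555 p then (bif Nat.beq p 555 then 36818 else 0) else (bif Nat.beq p 548 then 1796 else 0))) else (bif Nat.ble 546 p then (bif Nat.ble 547 p then (bif Nat.beq p 547 then 1817 else 0) else (bif Nat.beq p 546 then 6073 else 0)) else (bif Nat.ble 539 p then (bif Nat.beq p 539 then 8075 else 0) else (bif Nat.beq p 538 then 3337 else 0))))) else (bif Nat.ble 512 p then (bif Nat.ble 528 p then (bif Nat.ble 530 p then (bif Nat.ble 537 p then (bif Nat.beq p 537 then 114 else 0) else (bif Nat.beq p 530 then 46579 else 0)) else (bif Nat.ble 529 p then (bif Nat.beq p 529 then 28891 else 0) else (bif Nat.beq p 528 then 4462 else 0))) else (bif Nat.ble 520 p then (bif Nat.ble 521 p then (bif Nat.beq p 521 then 17541 else 0) else (bif Nat.beq p 520 then 22535 else 0)) else (bif Nat.ble 519 p then (bif Nat.beq p 519 then 2409 else 0) else (bif Nat.beq p 512 then 7989 else 0)))) else (bif Nat.ble 502 p then (bif Nat.ble 510 p then (bif Nat.ble 511 p then (bif Nat.beq p 511 then 28905 else 0) else (bif Nat.beq p 510 then 6049 else 0)) else (bif Nat.ble 503 p then (bif Nat.beq p 503 then 733 else 0) else (bif Nat.beq p 502 then 3318 else 0))) else (bif Nat.ble 494 p then (bif Nat.ble 501 p then (bif Nat.beq p 501 then 6063 else 0) else (bif Nat.beq p 494 then 8019 else 0)) else (bif Nat.ble 493 p then (bif Nat.beq p 493 then 46567 else 0) else (bif Nat.beq p 492 then 22540 else 0)))))))) else (bif Nat.ble 283 p then (bif Nat.ble 386 p then (bif Nat.ble 435 p then (bif Nat.ble 461 p then (bif Nat.ble 471 p then (bif Nat.ble 479 p then (bif Nat.ble 480 p then (bif Nat.ble 484 p then (bif Nat.beq p 484 then 4459 else 0) else (bif Nat.beq p 480 then 1319 else 0)) else (bif Nat.beq p 479 then 3333 else 0)) else (bif Nat.ble 475 p then (bif Nat.beq p 475 then 266 else 0) else (bif Nat.beq p 471 then 51 else 0))) else (bif Nat.ble 466 p then (bif Nat.ble 470 p then (bif Nat.beq p 470 then 379 else 0) else (bif Nat.beq p 466 then 2448 else 0)) else (bif Nat.ble 462 p then (bif Nat.beq p 462 then 1783 else 0) else (bif Nat.beq p 461 then 5999 else 0)))) else (bif Nat.ble 448 p then (bif Nat.ble 453 p then (bif Nat.ble 457 p then (bif Nat.beq p 457 then 36813 else 0) else (bif Nat.beq p 453 then 13622 else 0)) else (bif Nat.ble 452 p then (bif Nat.beq p 452 then 10536 else 0) else (bif Nat.beq p 448 then 13589 else 0))) else (bif Nat.ble 443 p then (bif Nat.ble 444 p then (bif Nat.beq p 444 then 3298 else 0) else (bif Nat.beq p 443 then 28889 else 0)) else (bif Nat.ble 439 p then (bif Nat.beq p 439 then 727 else 0) else (bif Nat.beq p 435 then 4508 else 0))))) else (bif Nat.ble 408 p then (bif Nat.ble 421 p then (bif Nat.ble 426 p then (bif Nat.ble 430 p then (bif Nat.ble 434 p then (bif Nat.beq p 434 then 8071 else 0) else (bif Nat.beq p 430 then 6070 else 0)) else (bif Nat.beq p 426 then 3346 else 0)) else (bif Nat.ble 425 p then (bif Nat.beq p 425 then 989 else 0) else (bif Nat.beq p 421 then 22551 else 0))) else (bif Nat.ble 416 p then (bif Nat.ble 417 p then (bif Nat.beq p 417 then 4471 else 0) else (bif Nat.beq p 416 then 17525 else 0)) else (bif Nat.ble 412 p then (bif Nat.beq p 412 then 8030 else 0) else (bif Nat.beq p 408 then 17562 else 0)))) else (bif Nat.ble 397 p then (bif Nat.ble 404 p then (bif Nat.ble 407 p then (bif Nat.beq p 407 then 46569 else 0) else (bif Nat.beq p 404 then 7999 else 0)) else (bif Nat.ble 399 p then (bif Nat.beq p 399 then 3277 else 0) else (bif Nat.beq p 397 then 17560 else 0))) else (bif Nat.ble 390 p then (bif Nat.ble 395 p then (bif Nat.beq p 395 then 6087 else 0) else (bif Nat.beq p 390 then 170 else 0)) else (bif Nat.ble 388 p then (bif Nat.beq p 388 then 3351 else 0) else (bif Nat.beq p 386 then 22550 else 0)))))) else (bif Nat.ble 334 p then (bif Nat.ble 359 p then (bif Nat.ble 370 p then (bif Nat.ble 377 p then (bif Nat.ble 379 p then (bif Nat.ble 381 p then (bif Nat.beq p 381 then 6002 else 0) else (bif Nat.beq p 379 then 4456 else 0)) else (bif Nat.beq p 377 then 3269 else 0)) else (bif Nat.ble 372 p then (bif Nat.beq p 372 then 28876 else 0) else (bif Nat.beq p 370 then 4463 else 0))) else (bif Nat.ble 363 p then (bif Nat.ble 368 p then (bif Nat.beq p 368 then 28864 else 0) else (bif Nat.beq p 363 then 8048 else 0)) else (bif Nat.ble 361 p then (bif Nat.beq p 361 then 2399 else 0) else (bif Nat.beq p 359 then 2435 else 0)))) else (bif Nat.ble 345 p then (bif Nat.ble 352 p then (bif Nat.ble 354 p then (bif Nat.beq p 354 then 8062 else 0) else (bif Nat.beq p 352 then 80 else 0)) else (bif Nat.ble 350 p then (bif Nat.beq p 350 then 178 else 0) else (bif Nat.beq p 345 then 8074 else 0))) else (bif Nat.ble 341 p then (bif Nat.ble 343 p then (bif Nat.beq p 343 then 1800 else 0) else (bif Nat.beq p 341 then 4434 else 0)) else (bif Nat.ble 336 p then (bif Nat.beq p 336 then 10533 else 0) else (bif Nat.beq p 334 then 17551 else 0))))) else (bif Nat.ble 309 p then (bif Nat.ble 319 p then (bif Nat.ble 325 p then (bif Nat.ble 327 p then (bif Nat.ble 332 p then (bif Nat.beq p 332 then 10508 else 0) else (bif Nat.beq p 327 then 46581 else 0)) else (bif Nat.beq p 325 then 1778 else 0)) else (bif Nat.ble 320 p then (bif Nat.beq p 320 then 28891 else 0) else (bif Nat.beq p 319 then 46579 else 0))) else (bif Nat.ble 311 p then (bif Nat.ble 318 p then (bif Nat.beq p 318 then 4462 else 0) else (bif Nat.beq p 311 then 3337 else 0)) else (bif Nat.ble 310 p then (bif Nat.beq p 310 then 8075 else 0) else (bif Nat.beq p 309 then 114 else 0)))) else (bif Nat.ble 293 p then (bif Nat.ble 301 p then (bif Nat.ble 302 p then (bif Nat.beq p 302 then 22535 else 0) else (bif Nat.beq p 301 then 17541 else 0)) else (bif Nat.ble 300 p then (bif Nat.beq p 300 then 2409 else 0) else (bif Nat.beq p 293 then 4460 else 0))) else (bif Nat.ble 291 p then (bif Nat.ble 292 p then (bif Nat.beq p 292 then 22527 else 0) else (bif Nat.beq p 291 then 36818 else 0)) else (bif Nat.ble 284 p then (bif Nat.beq p 284 then 17556 else 0) else (bif Nat.beq p 283 then 58403 else 0))))))) else (bif Nat.ble 182 p then (bif Nat.ble 233 p then (bif Nat.ble 256 p then (bif Nat.ble 266 p then (bif Nat.ble 274 p then (bif Nat.ble 275 p then (bif Nat.ble 282 p then (bif Nat.beq p 282 then 8027 else 0) else (bif Nat.beq p 275 then 1817 else 0)) else (bif Nat.beq p 274 then 1796 else 0)) else (bif Nat.ble 273 p then (bif Nat.beq p 273 then 6073 else 0) else (bif Nat.beq p 266 then 3318 else 0))) else (bif Nat.ble 264 p then (bif Nat.ble 265 p then (bif Nat.beq p 265 then 733 else 0) else (bif Nat.beq p 264 then 6063 else 0)) else (bif Nat.ble 257 p then (bif Nat.beq p 257 then 28905 else 0) else (bif Nat.beq p 256 then 7989 else 0)))) else (bif Nat.ble 246 p then (bif Nat.ble 248 p then (bif Nat.ble 255 p then (bif Nat.beq p 255 then 6049 else 0) else (bif Nat.beq p 248 then 46567 else 0)) else (bif Nat.ble 247 p then (bif Nat.beq p 247 then 8019 else 0) else (bif Nat.beq p 246 then 22540 else 0))) else (bif Nat.ble 239 p then (bif Nat.ble 242 p then (bif Nat.beq p 242 then 2438 else 0) else (bif Nat.beq p 239 then 3310 else 0)) else (bif Nat.ble 236 p then (bif Nat.beq p 236 then 993 else 0) else (bif Nat.beq p 233 then 4482 else 0))))) else (bif Nat.ble 206 p then (bif Nat.ble 218 p then (bif Nat.ble 224 p then (bif Nat.ble 227 p then (bif Nat.ble 230 p then (bif Nat.beq p 230 then 4442 else 0) else (bif Nat.beq p 227 then 6024 else 0)) else (bif Nat.beq p 224 then 13608 else 0)) else (bif Nat.ble 221 p then (bif Nat.beq p 221 then 36796 else 0) else (bif Nat.beq p 218 then 10487 else 0))) else (bif Nat.ble 212 p then (bif Nat.ble 215 p then (bif Nat.beq p 215 then 17586 else 0) else (bif Nat.beq p 212 then 13640 else 0)) else (bif Nat.ble 209 p then (bif Nat.beq p 209 then 28862 else 0) else (bif Nat.beq p 206 then 378 else 0)))) else (bif Nat.ble 194 p then (bif Nat.ble 200 p then (bif Nat.ble 203 p then (bif Nat.beq p 203 then 259 else 0) else (bif Nat.beq p 200 then 2433 else 0)) else (bif Nat.ble 197 p then (bif Nat.beq p 197 then 7971 else 0) else (bif Nat.beq p 194 then 5983 else 0))) else (bif Nat.ble 188 p then (bif Nat.ble 191 p then (bif Nat.beq p 191 then 46588 else 0) else (bif Nat.beq p 188 then 3284 else 0)) else (bif Nat.ble 185 p then (bif Nat.beq p 185 then 28874 else 0) else (bif Nat.beq p 182 then 36804 else 0)))))) else (bif Nat.ble 130 p then (bif Nat.ble 154 p then (bif Nat.ble 167 p then (bif Nat.ble 173 p then (bif Nat.ble 176 p then (bif Nat.ble 179 p then (bif Nat.beq p 179 then 1348 else 0) else (bif Nat.beq p 176 then 10502 else 0)) else (bif Nat.beq p 173 then 22543 else 0)) else (bif Nat.ble 170 p then (bif Nat.beq p 170 then 126 else 0) else (bif Nat.beq p 167 then 8080 else 0))) else (bif Nat.ble 160 p then (bif Nat.ble 164 p then (bif Nat.beq p 164 then 6089 else 0) else (bif Nat.beq p 160 then 259 else 0)) else (bif Nat.ble 157 p then (bif Nat.beq p 157 then 378 else 0) else (bif Nat.beq p 154 then 2433 else 0)))) else (bif Nat.ble 142 p then (bif Nat.ble 148 p then (bif Nat.ble 151 p then (bif Nat.beq p 151 then 13640 else 0) else (bif Nat.beq p 148 then 17586 else 0)) else (bif Nat.ble 145 p then (bif Nat.beq p 145 then 28862 else 0) else (bif Nat.beq p 142 then 5983 else 0))) else (bif Nat.ble 136 p then (bif Nat.ble 139 p then (bif Nat.beq p 139 then 7971 else 0) else (bif Nat.beq p 136 then 46588 else 0)) else (bif Nat.ble 133 p then (bif Nat.beq p 133 then 4442 else 0) else (bif Nat.beq p 130 then 4482 else 0))))) else (bif Nat.ble 106 p then (bif Nat.ble 118 p then (bif Nat.ble 124 p then (bif Nat.ble 127 p then (bif Nat.beq p 127 then 6024 else 0) else (bif Nat.beq p 124 then 3310 else 0)) else (bif Nat.ble 121 p then (bif Nat.beq p 121 then 2438 else 0) else (bif Nat.beq p 118 then 993 else 0))) else (bif Nat.ble 112 p then (bif Nat.ble 115 p then (bif Nat.beq p 115 then 36796 else 0) else (bif Nat.beq p 112 then 13608 else 0)) else (bif Nat.ble 109 p then (bif Nat.beq p 109 then 10487 else 0) else (bif Nat.beq p 106 then 10502 else 0)))) else (bif Nat.ble 94 p then (bif Nat.ble 100 p then (bif Nat.ble 103 p then (bif Nat.beq p 103 then 1348 else 0) else (bif Nat.beq p 100 then 22543 else 0)) else (bif Nat.ble 97 p then (bif Nat.beq p 97 then 28874 else 0) else (bif Nat.beq p 94 then 3284 else 0))) else (bif Nat.ble 88 p then (bif Nat.ble 91 p then (bif Nat.beq p 91 then 36804 else 0) else (bif Nat.beq p 88 then 8080 else 0)) else (bif Nat.ble 85 p then (bif Nat.beq p 85 then 126 else 0) else (bif Nat.beq p 82 then 6089 else 0))))))))))))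

/-- The position of a coordinate. -/
def pos : Fin 4 ⊕ Fin 4 → Nat := fun i => match i with | Sum.inl j => j.1 | Sum.inr j => j.1 + 4

/-- The vector of a code. -/
noncomputable def dec (n : Nat) (i : Fin 4 ⊕ Fin 4) : ZMod 3 := ((n / 3 ^ pos i % 3 : Nat) : ZMod 3)

/-- The code of a vector. -/
noncomputable def enc (v : Fin 4 ⊕ Fin 4 → ZMod 3) : Nat := 1 * (v (Sum.inl 0)).val + 3 * (v (Sum.inl 1)).val + 9 * (v (Sum.inl 2)).val + 27 * (v (Sum.inl 3)).val + 81 * (v (Sum.inr 0)).val + 243 * (v (Sum.inr 1)).val + 729 * (v (Sum.inr 2)).val + 2187 * (v (Sum.inr 3)).val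

noncomputable def q0 (v : Fin 4 ⊕ Fin 4 → ZMod 3) : ZMod 3 :=
  v (Sum.inl 0) * v (Sum.inr 0) + v (Sum.inl 1) * v (Sum.inr 1) + v (Sum.inl 2) * v (Sum.inr 2) + v (Sum.inl 3) * v (Sum.inr 3)

noncomputable def pol0 (x y : Fin 4 ⊕ Fin 4 → ZMod 3) : ZMod 3 :=
  (x (Sum.inl 0) * y (Sum.inr 0) + x (Sum.inr 0) * y (Sum.inl 0)) + (x (Sum.inl 1) * y (Sum.inr 1) + x (Sum.inr 1) * y (Sum.inl 1)) + (x (Sum.inl 2) * y (Sum.inr 2) + x (Sum.inr 2) * y (Sum.inl 2)) + (x (Sum.inl 3) * y (Sum.inr 3) + x (Sum.inr 3) * y (Sum.inl 3))

/-- The coordinates. -/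
def allI : List (Fin 4 ⊕ Fin 4) := [Sum.inl 0, Sum.inl 1, Sum.inl 2, Sum.inl 3, Sum.inr 0, Sum.inr 1, Sum.inr 2, Sum.inr 3]

/-- The table. -/
noncomputable def tb : Tb (Fin 4 ⊕ Fin 4) where
  wd := [0]
  wc := [1,0,1]
  flag := fun p => Nat.ble 1 (vT p)
  V := fun p => dec (vT p)
  S := [[1,0,2,1,3,2], [1,0,2,1,3,2,4,3,5,6,7,8], [1,0,2,1,3,2,4,5], [1,0,2,1,3,2,4,5,6,7,10,5,4,6,5,11], [1,0,2,1,3,2,4,5,6,7,8,9,10,5,4,6,5,7,6,11,10,5,4,6,5], [1,0,2,1,3,2,4,5,6,7,8,9,10,5,4,6,11,10,5,6], [1,0,2,1,3,2,4,5,6,7,8,10,5,4,6,5,7,11,10,5,4,6,5], [1,0,2,1,3,2,4,5,6,7,8,10,5,4,11,10]]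
  par := fun p => (parT p / 10000000, parT p % 10000000)
  dep := depT
  U := fun v => uT (enc v)

end Cfsg.Agent.Lib.ThreeT.Real.D24
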